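import Cfsg.Agent.Lib.Forms.Max.Tensor.HermTools

/-!
# Sets of isotropic vectors closed under their transvections
-/

set_option autoImplicit false
set_option linter.unusedSectionVars false

namespace Cfsg.Agent.TensorWreath.Un

open Matrix Cfsg.Agent.Forms.Max Cfsg.Agent.Forms.Max.UnitaryInLinear Cfsg.Agent.Forms.Max.HermTools

variable {F : Type*} [Field F] [Finite F] {σ : F →+* F}
variable {ι₁ ι₂ ι : Type} [Fintype ι₁] [DecidableEq ι₁] [Fintype ι₂] [DecidableEq ι₂] [Fintype ι] [DecidableEq ι]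
variable {β : (ι₁ → F) → (ι₁ → F) → F} {γ : (ι₂ → F) → (ι₂ → F) → F} {Φ : (ι → F) → (ι → F) → F}
variable {P : (ι₁ → F) →ₗ[F] (ι₂ → F) →ₗ[F] (ι → F)}

/-- a hermitian space which is a tensor product -/
structure Prod2 (σ : F →+* F) (β : (ι₁ → F) → (ι₁ → F) → F) (γ : (ι₂ → F) → (ι₂ → F) → F)
    (Φ : (ι → F) → (ι → F) → F) (P : (ι₁ → F) →ₗ[F] (ι₂ → F) →ₗ[F] (ι → F)) : Prop where
  left : Herm σ β
  right : Herm σ γ
  whole : Herm σ Φ
  mul : ∀ u f u' f', Φ (P u f) (P u' f') = β u u' * γ f f'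
  card₁ : 3 ≤ Fintype.card ι₁
  card₂ : 3 ≤ Fintype.card ι₂
  span : Submodule.span F {v | ∃ u f, v = P u f} = ⊤

theorem Prod2.flip (h : Prod2 σ β γ Φ P) : Prod2 σ γ β Φ P.flip := by
  refine ⟨h.right, h.left, h.whole, fun u f u' f' => ?_, h.card₂, h.card₁, ?_⟩
  · simp only [LinearMap.flip_apply, h.mul, mul_comm]
  · refine eq_top_iff.2 (h.span.symm.le.trans (Submodule.span_mono ?_))
    rintro _ ⟨u, f, rfl⟩
    exact ⟨f, u, rfl⟩

/-- closed under transvections and scalars -/
structure Closed (σ : F →+* F) (Φ : (ι → F) → (ι → F) → F) (C : Set (ι → F)) : Prop where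
  iso : ∀ v ∈ C, Φ v v = 0
  smul : ∀ (r : F), ∀ v ∈ C, r • v ∈ C
  tv : ∀ v ∈ C, ∀ w ∈ C, ∀ c : F, c + σ c = 0 → w + (c * Φ w v) • v ∈ C

variable {C : Set (ι → F)} (hP : Prod2 σ β γ Φ P) (hC : Closed σ Φ C)
include hP hC

/-- moving a pure centre along the centres on a second vector -/
theorem move {u : ι₁ → F} (hu : β u u = 0) (hu0 : u ≠ 0) {g f : ι₂ → F} (hf : γ f f = 0)
    (hgf : γ g f = 1) (hpg : P u g ∈ C) (hpf : ∀ e, β e e = 0 → P e f ∈ C)
    {w : ι₁ → F} (hw : β w u = 0) : P u g + P w f ∈ C := by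
  classical
  have hh := hP.left
  let W : Set (ι₁ → F) := {w | ∀ z, P u g + P z f ∈ C → P u g + P (z + w) f ∈ C}
  let D : AddSubgroup (ι₁ → F) :=
    { carrier := {w | w ∈ W ∧ -w ∈ W}
      zero_mem' := ⟨fun z hz => by rwa [add_zero], fun z hz => by rwa [neg_zero, add_zero]⟩
      add_mem' := fun {x y} hx hy => ⟨fun z hz => by rw [← add_assoc]; exact hy.1 _ (hx.1 z hz),
        fun z hz => by rw [neg_add, ← add_assoc]; exact hy.2 _ (hx.2 z hz)⟩
      neg_mem' := fun {x} hx => ⟨hx.2, by rw [neg_neg]; exact hx.1⟩ }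
  suffices hD : ∀ w, β w u = 0 → w ∈ D by
    have := (hD w hw).1 0 (by rwa [map_zero, LinearMap.zero_apply, add_zero])
    rwa [zero_add] at this
  have hgen : ∀ e, β e e = 0 → β u e = 1 → ∀ c : F, c + σ c = 0 → c • e ∈ W := by
    intro e he hue c hc z hz
    have h1 := hC.tv _ (hpf e he) _ hz c hc
    rw [hP.whole.add, hP.mul, hP.mul, hgf, hf, hue, mul_zero, add_zero, mul_one, mul_one] at h1
    rwa [map_add, map_smul, LinearMap.add_apply, LinearMap.smul_apply, ← add_assoc]
  have hgenD : ∀ e, β e e = 0 → β u e = 1 → ∀ c : F, c + σ c = 0 → c • e ∈ D := fun e he hue c hc =>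
    ⟨hgen e he hue c hc, by
      rw [← neg_smul]
      exact hgen e he hue _ (by rw [map_neg, ← neg_add, hc, neg_zero])⟩
  obtain ⟨b, hbb, hub, hbu⟩ := exists_partner hh hu0 hu
  obtain ⟨τ, hτ0, hτ⟩ := exists_skew hh
  have hτ' := trace_zero_of hh hτ
  set M := {x : ι₁ → F | β x u = 0 ∧ β x b = 0}
  have hshift : ∀ x ∈ M, ∀ r : F, r + σ r + β x x = 0 → ∀ c : F, c + σ c = 0 → c • (x + r • u) ∈ D := by
    rintro x ⟨hxu, hxb⟩ r hr c hc
    have h1 := hgenD (b + x + r • u) (by
      simp only [hh.add, add_right hh, hh.smul, smul_right hh, hbb, hxb, hxu, comm_zero hh hxb, comm_zero hh hxu,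
        hu, hub, hbu]
      linear_combination hr) (by
      simp only [add_right hh, smul_right hh, hub, comm_zero hh hxu, hu, mul_zero, add_zero]) c hc
    have h2 := hgenD b hbb hub c hc
    have e : c • (x + r • u) = c • (b + x + r • u) - c • b := by module
    rw [e]; exact D.sub_mem h1 h2
  have hF0 : ∀ m : F, σ m = m → m • u ∈ D := fun m hm => by
    have := hshift 0 ⟨zero_left hh u, zero_left hh b⟩ (m / τ) (by
      rw [zero_left hh, map_div₀, hm, hτ, div_neg]; ring) τ hτ'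
    rwa [zero_add, smul_smul, mul_div_cancel₀ _ hτ0] at this
  obtain ⟨θ, hθ⟩ := exists_trace hh
  obtain ⟨z, hzM, hzz⟩ : ∃ z ∈ M, β z z ≠ 0 := by
    by_contra hc
    push Not at hc
    set S := LinearMap.ker ((form hh u).prod (form hh b)) with hS
    have hmem : ∀ x, x ∈ S ↔ x ∈ M := fun x => by simp [hS, form, Prod.ext_iff, M]
    have h1 := LinearMap.finrank_range_add_finrank_ker ((form hh u).prod (form hh b))
    have h2 := Submodule.finrank_le (LinearMap.range ((form hh u).prod (form hh b)))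
    rw [Module.finrank_prod, Module.finrank_self] at h2
    rw [Module.finrank_fintype_fun_eq_card] at h1
    obtain ⟨x, hx, hx0⟩ := Submodule.exists_mem_ne_zero_of_ne_bot (p := S) fun e => by
      have := hP.card₁
      rw [hS] at e
      rw [e, finrank_bot] at h1
      omega
    refine hx0 (hh.nd x fun y => ?_)
    have hy : y - β y b • u - β y u • b ∈ S := (hmem _).2 ⟨by
      rw [sub_left hh, sub_left hh, hh.smul, hh.smul, hu, hbu, mul_zero, mul_one, sub_zero, sub_self], by
      rw [sub_left hh, sub_left hh, hh.smul, hh.smul, hub, hbb, mul_zero, mul_one, sub_zero, sub_self]⟩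
    have := polar_zero hh (S := S) (fun v hv => hc v ((hmem v).1 hv)) hx hy
    rwa [sub_right hh, sub_right hh, smul_right hh, smul_right hh, ((hmem x).1 hx).1, ((hmem x).1 hx).2, mul_zero,
      mul_zero, sub_zero, sub_zero] at this
  have hsmulM : ∀ (l : F), l • z ∈ M := fun l =>
    ⟨by rw [hh.smul, hzM.1, mul_zero], by rw [hh.smul, hzM.2, mul_zero]⟩
  have hline : ∀ l : F, l • u ∈ D := by
    obtain ⟨r₁, hr₁⟩ := exists_trace_eq hh (self_fixed hh z)
    obtain ⟨r₂, hr₂⟩ := exists_trace_eq hh (self_fixed hh (θ • z))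
    obtain ⟨r₃, hr₃⟩ := exists_trace_eq hh (self_fixed hh ((1 + θ) • z))
    intro l
    set ρ := r₁ + r₂ - r₃ with hρdef
    have hρ : ρ + σ ρ ≠ 0 := by
      have e : ρ + σ ρ = (θ + σ θ) * β z z := by
        simp only [hh.smul, smul_right hh, map_add, map_one] at hr₁ hr₂ hr₃
        rw [hρdef, map_sub, map_add]
        linear_combination hr₁ + hr₂ - hr₃
      rw [e]; exact mul_ne_zero hθ hzz
    have hρD : ∀ c : F, c + σ c = 0 → (c * ρ) • u ∈ D := fun c hc => by
      have h := D.sub_mem (D.add_mem (hshift z hzM r₁ hr₁ c hc) (hshift _ (hsmulM θ) r₂ hr₂ c hc))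
        (hshift _ (hsmulM (1 + θ)) r₃ hr₃ c hc)
      have e : (c * ρ) • u = c • (z + r₁ • u) + c • (θ • z + r₂ • u) - c • ((1 + θ) • z + r₃ • u) := by
        rw [hρdef]; module
      rw [e]; exact h
    -- write the scalar in the two directions
    set A := ρ + σ ρ
    have hA : σ A = A := by rw [map_add, hh.inv, add_comm]
    have hs : σ (l - σ l) = -(l - σ l) := by rw [map_sub, hh.inv, neg_sub]
    obtain ⟨c, hc, m, hm, hl⟩ : ∃ c : F, c + σ c = 0 ∧ ∃ m : F, σ m = m ∧ l = c * ρ + m := by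
      refine ⟨(l - σ l) / A, ?_, l - (l - σ l) / A * ρ, ?_, by ring⟩
      · rw [map_div₀, hs, hA, neg_div, add_neg_cancel]
      · have hσρ : σ ρ = A - ρ := by simp only [A]; ring
        rw [map_sub, map_mul, map_div₀, hs, hA, hσρ]
        field_simp
        ring
    rw [hl, add_smul]
    exact D.add_mem (hρD c hc) (hF0 m hm)
  have hmid : ∀ x ∈ M, x ∈ D := by
    intro x hx
    have hx' : τ⁻¹ • x ∈ M := ⟨by rw [hh.smul, hx.1, mul_zero], by rw [hh.smul, hx.2, mul_zero]⟩
    obtain ⟨r, hr⟩ := exists_trace_eq hh (self_fixed hh (τ⁻¹ • x))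
    have := D.sub_mem (hshift _ hx' r hr τ hτ') (hline (τ * r))
    rwa [smul_add, smul_inv_smul₀ hτ0, smul_smul, add_sub_cancel_right] at this
  intro w hw
  have e : w = (w - β w b • u) + β w b • u := by abel
  rw [e]
  refine D.add_mem (hmid _ ⟨?_, ?_⟩) (hline _)
  · rw [sub_left hh, hh.smul, hw, hu, mul_zero, sub_zero]
  · rw [sub_left hh, hh.smul, hub, mul_one, sub_self]

variable (hpure : ∀ u f, β u u = 0 → γ f f = 0 → P u f ∈ C)
include hpure

theorem pure_any {u : ι₁ → F} (hu : β u u = 0) (y : ι₂ → F) : P u y ∈ C := by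
  have hh := hP.right
  by_cases hy : γ y y = 0
  · exact hpure u y hu hy
  rcases eq_or_ne u 0 with rfl | hu0
  · have := hpure 0 0 (zero_left hP.left 0) (zero_left hh 0)
    simpa using this
  obtain ⟨z, hzy, hzz⟩ : ∃ z, γ z y = 0 ∧ γ z z ≠ 0 := by
    by_contra hc
    push Not at hc
    have h1 : ∀ x : ι₂ → F, x - (γ x y / γ y y) • y ∈ LinearMap.ker (form hh y) := fun x => by
      show γ _ y = 0
      rw [sub_left hh, hh.smul, div_mul_cancel₀ _ hy, sub_self]
    have h2 : LinearMap.ker (form hh y) = ⊥ := (Submodule.eq_bot_iff _).2 fun x hx => hh.nd x fun v => by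
      have := polar_zero hh (S := LinearMap.ker (form hh y)) (fun u hu => hc u hu) hx (h1 v)
      rwa [sub_right hh, smul_right hh, show γ x y = 0 from hx, mul_zero, sub_zero] at this
    have h3 := LinearMap.finrank_range_add_finrank_ker (form hh y)
    have h4 := Submodule.finrank_le (LinearMap.range (form hh y))
    rw [h2, finrank_bot, Module.finrank_fintype_fun_eq_card] at h3
    rw [Module.finrank_self] at h4
    have := hP.card₂
    omega
  obtain ⟨l, hl⟩ := Cfsg.Agent.Forms.Bases.exists_norm_eq σ hh.ne_id hh.inv (-(γ y y / γ z z))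
    (by rw [map_neg, map_div₀, self_fixed hh, self_fixed hh])
  set g := y + l • z with hg
  have hgg : γ g g = 0 := by
    simp only [hg, hh.add, add_right hh, hh.smul, smul_right hh, hzy, comm_zero hh hzy]
    field_simp at hl
    linear_combination hl
  obtain ⟨θ, hθ⟩ : ∃ θ : F, σ θ ≠ θ := by
    by_contra hc
    push Not at hc
    exact hh.ne_id (RingHom.ext hc)
  have hθ0 : θ ≠ 0 := fun h => hθ (by rw [h, map_zero])
  set ζ := σ θ / θ with hζ
  have hζn : ζ * σ ζ = 1 := by
    rw [hζ, map_div₀, hh.inv]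
    field_simp [(map_ne_zero σ).2 hθ0]
  have hζ1 : ζ - 1 ≠ 0 := sub_ne_zero.2 fun h => hθ ((div_eq_one_iff_eq hθ0).1 h)
  set f := y + (ζ * l) • z with hf
  have hff : γ f f = 0 := by
    simp only [hf, hh.add, add_right hh, hh.smul, smul_right hh, map_mul, hzy, comm_zero hh hzy]
    field_simp at hl
    linear_combination hl + (l * σ l * γ z z) * hζn
  have hgfv : γ g f ≠ 0 := by
    have e : γ g f = γ y y * (1 - σ ζ) := by
      simp only [hg, hf, hh.add, add_right hh, hh.smul, smul_right hh, map_mul, hzy, comm_zero hh hzy]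
      field_simp at hl
      linear_combination σ ζ * hl
    rw [e]
    refine mul_ne_zero hy fun h => hζ1 ?_
    rw [sub_eq_zero] at h
    rw [← h, mul_one] at hζn
    rw [hζn, sub_self]
  set c := (σ (γ g f))⁻¹ with hc
  have hgf' : γ g (c • f) = 1 := by rw [smul_right hh, hc, map_inv₀, hh.inv, inv_mul_cancel₀ hgfv]
  have hc0 : c ≠ 0 := inv_ne_zero ((map_ne_zero σ).2 hgfv)
  have h := move hP hC hu hu0 (g := g) (f := c • f) (by rw [hh.smul, smul_right hh, hff, mul_zero, mul_zero]) hgf'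
    (hpure u g hu hgg) (fun e he => hpure e _ he (by rw [hh.smul, smul_right hh, hff, mul_zero, mul_zero]))
    (w := (-(ζ⁻¹ * c⁻¹)) • u) (by rw [hP.left.smul, hu, mul_zero])
  have hζ0 : ζ ≠ 0 := fun h => by rw [h, zero_mul] at hζn; exact zero_ne_one hζn
  have e : P u g + P ((-(ζ⁻¹ * c⁻¹)) • u) (c • f) = (1 - ζ⁻¹) • P u y := by
    simp only [map_smul, LinearMap.smul_apply, hg, hf, map_add, smul_add, smul_smul]
    match_scalars <;> field_simp <;> ring
  rw [e] at h
  have hne : (1 - ζ⁻¹ : F) ≠ 0 := sub_ne_zero.2 fun h => hζ1 (by rw [inv_eq_one.1 h.symm, sub_self])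
  have := hC.smul (1 - ζ⁻¹)⁻¹ _ h
  rwa [smul_smul, inv_mul_cancel₀ hne, one_smul] at this

omit hpure in
/-- Siegel moves of a centre -/
theorem siegel {p q : ι → F} (hp : p ∈ C) (hq : q ∈ C) (hpq : Φ p q = 0) (hs : p + q ∈ C) {c : F} (hc : c + σ c = 0)
    {z : ι → F} (hz : z ∈ C) : z + Φ z p • (c • q) + (-Φ z (c • q)) • p ∈ C := by
  have hh := hP.whole
  have hn : -c + σ (-c) = 0 := by rw [map_neg, ← neg_add, hc, neg_zero]
  have h1 := hC.tv _ hs _ (hC.tv _ hp _ (hC.tv _ hq _ hz (-c) hn) (-c) hn) c hc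
  convert h1 using 1
  have hcc : σ c = -c := eq_neg_of_add_eq_zero_right hc
  simp only [hh.add, add_right hh, hh.smul, smul_right hh, hpq, comm_zero hh hpq, hC.iso p hp, hC.iso q hq, hcc]
  module

/-- all isotropic vectors are centres -/
theorem centres_all {v : ι → F} (hv : Φ v v = 0) : v ∈ C := by
  classical
  have hh := hP.whole
  have hb := hP.left
  have hg := hP.right
  have hany := fun {u} (hu : β u u = 0) y => pure_any hP hC hpure hu y
  have hany' := fun {f} (hf : γ f f = 0) x => pure_any hP.flip hC (fun u f hu hf => hpure f u hf hu) (u := f) hf x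
  simp only [LinearMap.flip_apply] at hany'
  rcases eq_or_ne v 0 with rfl | hv0
  · have := hpure 0 0 (zero_left hb 0) (zero_left hg 0)
    simpa using this
  obtain ⟨u, g, huu, hgg, hne⟩ : ∃ u g, β u u = 0 ∧ γ g g = 0 ∧ Φ v (P u g) ≠ 0 := by
    by_contra hc
    push Not at hc
    refine hv0 (hh.nd v fun x => ?_)
    let K : Submodule F (ι → F) :=
      { carrier := {x | Φ v x = 0}
        zero_mem' := zero_right hh v
        add_mem' := fun {p q} (hp : _ = _) (hq : _ = _) => by show _ = _; rw [add_right hh, hp, hq, add_zero]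
        smul_mem' := fun r p (hp : _ = _) => by show _ = _; rw [smul_right hh, hp, mul_zero] }
    have hK : ∀ u f, P u f ∈ K := by
      intro u f
      have h1 : ∀ u, β u u = 0 → ∀ f, f ∈ K.comap (P u) := fun u hu f => by
        have e := span_iso hg (by have := hP.card₂; omega) (T := K.comap (P u)) fun f hf => hc u f hu hf
        exact e ▸ Submodule.mem_top
      have e := span_iso hb (by have := hP.card₁; omega) (T := K.comap (P.flip f)) fun u hu => h1 u hu f
      exact (e ▸ Submodule.mem_top : u ∈ K.comap (P.flip f))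
    have : x ∈ K := by
      have h2 : Submodule.span F {v | ∃ u f, v = P u f} ≤ K := Submodule.span_le.2 fun w ⟨u, f, hw⟩ => hw ▸ hK u f
      exact h2 (hP.span ▸ Submodule.mem_top)
    exact this
  obtain ⟨l, hl⟩ : ∃ l : F, σ l * Φ v (P u g) = 1 :=
    ⟨σ ((Φ v (P u g))⁻¹), by rw [hh.inv, inv_mul_cancel₀ hne]⟩
  obtain ⟨u₁, hu₁d⟩ : ∃ u₁, u₁ = l • u := ⟨_, rfl⟩
  set p := P u₁ g with hp
  have hu₁ : β u₁ u₁ = 0 := by rw [hu₁d, hb.smul, smul_right hb, huu, mul_zero, mul_zero]
  have hvp : Φ v p = 1 := by rw [hp, hu₁d, map_smul, LinearMap.smul_apply, smul_right hh, hl]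
  have hu0 : u₁ ≠ 0 := fun h => by
    rw [hp, h, map_zero, LinearMap.zero_apply, zero_right hh] at hvp; exact zero_ne_one hvp
  have hg0 : g ≠ 0 := fun h => by
    rw [hp, h, map_zero, zero_right hh] at hvp; exact zero_ne_one hvp
  have hpC : p ∈ C := hpure _ _ hu₁ hgg
  have hpp := hC.iso p hpC
  obtain ⟨b, hbb, hub, hbu⟩ := exists_partner hb hu0 hu₁
  obtain ⟨g', hg'g', hgg', hg'g⟩ := exists_partner hg hg0 hgg
  -- the orthogonal of the centre
  let D : Set (ι → F) := {y | Φ y p = 0 ∧ ∀ z ∈ C, ∃ r : F, z + Φ z p • y + (-Φ z y + r * Φ z p) • p ∈ C}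
  have hDadd : ∀ {y y'}, y ∈ D → y' ∈ D → y + y' ∈ D := by
    rintro y y' ⟨hy, h1⟩ ⟨hy', h2⟩
    refine ⟨by rw [hh.add, hy, hy', add_zero], fun z hz => ?_⟩
    obtain ⟨r, hr⟩ := h1 z hz
    obtain ⟨r', hr'⟩ := h2 _ hr
    refine ⟨r + r' - Φ y y', ?_⟩
    convert hr' using 1
    simp only [hh.add, add_right hh, hh.smul, hy, comm_zero hh hy', hpp]
    module
  have hDzero : (0 : ι → F) ∈ D := ⟨zero_left hh p, fun z hz => ⟨0, by simpa [zero_right hh] using hz⟩⟩
  obtain ⟨τ, hτ0, hτ⟩ := exists_skew hh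
  have hgenD : ∀ q, Φ p q = 0 → (∀ μ : F, μ • q ∈ C ∧ p + μ • q ∈ C) → ∀ μ : F, μ • q ∈ D := by
    intro q hpq hq μ
    refine ⟨by rw [hh.smul, comm_zero hh hpq, mul_zero], fun z hz => ⟨0, ?_⟩⟩
    have h := siegel hP hC hpC (hq (μ / τ)).1 (by rw [smul_right hh, hpq, mul_zero]) (hq (μ / τ)).2
      (trace_zero_of hh hτ) hz
    rw [show τ • (μ / τ) • q = μ • q by rw [smul_smul, mul_div_cancel₀ _ hτ0]] at h
    rwa [zero_mul, add_zero]
  let DS : Submodule F (ι → F) :=
    { carrier := {y | ∀ μ : F, μ • y ∈ D}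
      zero_mem' := fun μ => by rw [smul_zero]; exact hDzero
      add_mem' := fun {y y'} hy hy' μ => by rw [smul_add]; exact hDadd (hy μ) (hy' μ)
      smul_mem' := fun r y hy μ => by rw [smul_smul]; exact hy _ }
  have side : ∀ x, β x u₁ = 0 → ∀ f, P x f ∈ DS := by
    intro x hx f
    have hxg : P x g ∈ DS := hgenD _ (by rw [hp, hP.mul, hgg, mul_zero]) fun μ => by
      rw [← LinearMap.smul_apply, ← map_smul]
      refine ⟨hany' hgg _, ?_⟩
      rw [hp, ← LinearMap.add_apply, ← map_add]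
      exact hany' hgg _
    have e := span_nonorth hg hg0 hgg (T := DS.comap (P x)) hxg fun f hf hfg => by
      refine hgenD _ (by rw [hp, hP.mul, comm_zero hb hx, zero_mul]) fun μ => ?_
      rw [← LinearMap.smul_apply, ← map_smul]
      refine ⟨hany' hf _, ?_⟩
      have hgf : γ g f ≠ 0 := fun h => hfg (comm_zero hg h)
      set c := (σ (γ g f))⁻¹
      have hc0 : c ≠ 0 := inv_ne_zero ((map_ne_zero σ).2 hgf)
      have h1 : γ g (c • f) = 1 := by rw [smul_right hg, map_inv₀, hg.inv, inv_mul_cancel₀ hgf]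
      have h2 : γ (c • f) (c • f) = 0 := by rw [hg.smul, smul_right hg, hf, mul_zero, mul_zero]
      have h3 := move hP hC hu₁ hu0 h2 h1 hpC (fun e he => hpure e _ he h2) (w := (μ * c⁻¹) • x)
        (by rw [hb.smul, hx, mul_zero])
      rwa [show P ((μ * c⁻¹) • x) (c • f) = P (μ • x) f by
        simp only [map_smul, LinearMap.smul_apply, smul_smul]; field_simp, ← hp] at h3
    exact (e ▸ Submodule.mem_top : f ∈ DS.comap (P x))
  have side' : ∀ f, γ f g = 0 → ∀ x, P x f ∈ DS := by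
    intro f hf x
    have hxg : P u₁ f ∈ DS := hgenD _ (by rw [hp, hP.mul, hu₁, zero_mul]) fun μ => by
      rw [← map_smul]
      refine ⟨hany hu₁ _, ?_⟩
      rw [hp, ← map_add]
      exact hany hu₁ _
    have e := span_nonorth hb hu0 hu₁ (T := DS.comap (P.flip f)) hxg fun x hx hxu => by
      refine hgenD _ (by rw [hp, LinearMap.flip_apply, hP.mul, comm_zero hg hf, mul_zero]) fun μ => ?_
      rw [LinearMap.flip_apply, ← map_smul]
      refine ⟨hany hx _, ?_⟩
      have hux : β u₁ x ≠ 0 := fun h => hxu (comm_zero hb h)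
      set c := (σ (β u₁ x))⁻¹
      have hc0 : c ≠ 0 := inv_ne_zero ((map_ne_zero σ).2 hux)
      have h1 : β u₁ (c • x) = 1 := by rw [smul_right hb, map_inv₀, hb.inv, inv_mul_cancel₀ hux]
      have h2 : β (c • x) (c • x) = 0 := by rw [hb.smul, smul_right hb, hx, mul_zero, mul_zero]
      have h3 := move hP.flip hC hgg hg0 h2 h1 (show P.flip g u₁ ∈ C from hpC)
        (fun e he => hpure _ e h2 he) (w := (μ * c⁻¹) • f) (by rw [hg.smul, hf, mul_zero])
      simp only [LinearMap.flip_apply] at h3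
      rwa [show P (c • x) ((μ * c⁻¹) • f) = P x (μ • f) by
        simp only [map_smul, LinearMap.smul_apply, smul_smul]; field_simp, ← hp] at h3
    exact (e ▸ Submodule.mem_top : x ∈ DS.comap (P.flip f))
  set q₀ := P b g'
  have hq₀p : Φ q₀ p = 1 := by rw [hp, hP.mul, hbu, hg'g, mul_one]
  have hperp : ∀ y, y - Φ y p • q₀ ∈ DS := by
    intro y
    let L : (ι → F) →ₗ[F] (ι → F) := LinearMap.id - (form hh p).smulRight q₀
    suffices h : Submodule.span F {v | ∃ u f, v = P u f} ≤ DS.comap L by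
      exact h (hP.span ▸ Submodule.mem_top)
    refine Submodule.span_le.2 ?_
    rintro _ ⟨x, f, rfl⟩
    show P x f - Φ (P x f) p • q₀ ∈ DS
    set x₀ := x - β x u₁ • b
    set f₀ := f - γ f g • g'
    have hx₀ : β x₀ u₁ = 0 := by rw [sub_left hb, hb.smul, hbu, mul_one, sub_self]
    have hf₀ : γ f₀ g = 0 := by rw [sub_left hg, hg.smul, hg'g, mul_one, sub_self]
    have e : P x f - Φ (P x f) p • q₀ = P x₀ f + β x u₁ • P b f₀ := by
      simp only [hp, hP.mul, x₀, f₀, q₀, map_sub, LinearMap.sub_apply, map_smul, LinearMap.smul_apply]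
      module
    rw [e]
    exact DS.add_mem (side _ hx₀ f) (DS.smul_mem _ (side' _ hf₀ b))
  have hy : v - q₀ ∈ DS := by
    have := hperp v
    rwa [hvp, one_smul] at this
  have hyD := hy 1
  rw [one_smul] at hyD
  obtain ⟨r, hr⟩ := hyD.2 q₀ (hpure _ _ hbb hg'g')
  rw [hq₀p, one_smul, mul_one] at hr
  set ρ := -Φ q₀ (v - q₀) + r
  rw [show q₀ + (v - q₀) + ρ • p = v + ρ • p by abel] at hr
  have hρ : ρ + σ ρ = 0 := by
    have h1 := hC.iso _ hr
    have hpv : Φ p v = 1 := by rw [hh.herm, hvp, map_one]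
    simp only [hh.add, add_right hh, hh.smul, smul_right hh, hv, hvp, hpv, hpp] at h1
    linear_combination h1
  have h1 := hC.tv p hpC _ hr (-ρ) (by rw [map_neg, ← neg_add, hρ, neg_zero])
  rwa [hh.add, hh.smul, hvp, hpp, mul_zero, add_zero, mul_one, add_assoc, ← add_smul, add_neg_cancel, zero_smul,
    add_zero] at h1

end Cfsg.Agent.TensorWreath.Un
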