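import Cfsg.Agent.Lib.Forms.Max.TensorWreath.Unitary.Setting
import Cfsg.Agent.Lib.Forms.Max.TensorWreath.Unitary.Centres
import Cfsg.Agent.Lib.Forms.Max.TensorWreath.Classify

/-!
# Closed sets containing the pure isotropic vectors contain all isotropic vectors
-/

set_option autoImplicit false
set_option linter.unusedSectionVars false

namespace Cfsg.Agent.TensorWreath.Un

open Matrix Cfsg.Agent.Aschbacher Cfsg.Agent.Forms.Max Cfsg.Agent.Forms.Max.UnitaryInLinear Cfsg.Agent.Forms.Max.HermTools

variable {F : Type*} [Field F] [Finite F] {k t : ℕ} {σ : F →+* F} {J : Matrix (Fin k) (Fin k) F}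

/-- the form of the tensor power -/
abbrev Phi (σ : F →+* F) (J : Matrix (Fin k) (Fin k) F) (t : ℕ) :
    ((Fin t → Fin k) → F) → ((Fin t → Fin k) → F) → F :=
  Cfsg.Geo.formOfGram σ (gram t J)

/-- the tensor of vectors -/
def pv (u : Fin t → Fin k → F) : (Fin t → Fin k) → F := fun x => ∏ i, u i (x i)

theorem pv_succ (u : Fin (t + 1) → Fin k → F) : pv u = tens (u 0) (pv fun i => u i.succ) := by
  funext x
  simp [pv, tens, Fin.prod_univ_succ, Fin.tail]

theorem gram_conj (hh : Herm σ (frm σ J)) (x y : Fin t → Fin k) : σ (gram t J x y) = gram t J y x := by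
  have h : ∀ p q, σ (J p q) = J q p := fun p q => by
    have h1 := hh.herm (Pi.single q 1) (Pi.single p 1)
    simpa [frm, Cfsg.Geo.formOfGram, Pi.single_apply, apply_ite σ, eq_comm] using h1.symm
  simp [gram, pureTensor_apply, map_prod, h]

theorem gram_isUnit (hh : Herm σ (frm σ J)) : IsUnit (gram t J) := by
  have hJ : IsUnit J := by
    rw [Matrix.isUnit_iff_isUnit_det, isUnit_iff_ne_zero]
    intro h
    obtain ⟨v, hv0, hv⟩ := Matrix.exists_vecMul_eq_zero_iff.2 h
    refine hv0 (hh.nd v fun x => ?_)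
    rw [frm, formOfGram_dot, dotProduct_mulVec, hv, zero_dotProduct]
  exact (Pi.isUnit_iff.2 fun _ => hJ).map (pureTensor (F := F) (m := k) (t := t))

theorem phi_herm (hh : Herm σ (frm σ J)) (t : ℕ) : Herm σ (Phi σ J t) where
  ne_id := hh.ne_id
  inv := hh.inv
  add x y v := by simp only [Phi, formOfGram_dot, add_dotProduct]
  smul c x v := by simp only [Phi, formOfGram_dot, smul_dotProduct, smul_eq_mul]
  herm v w := by
    simp only [Phi, Cfsg.Geo.formOfGram, map_sum, map_mul, hh.inv, gram_conj hh]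
    rw [Finset.sum_comm]
    exact Finset.sum_congr rfl fun x _ => Finset.sum_congr rfl fun y _ => by ring
  nd v hv := by
    have h : v ᵥ* gram t J = 0 := funext fun y => by
      have := hv (Pi.single y 1)
      rw [Phi, formOfGram_dot, dotProduct_mulVec] at this
      rwa [show (fun i => σ ((Pi.single y (1 : F) : (Fin t → Fin k) → F) i)) = Pi.single y 1 from funext fun i => by
        simp [Pi.single_apply, apply_ite σ], dotProduct_single, mul_one] at this
    exact Matrix.vecMul_injective_iff_isUnit.2 (gram_isUnit hh) (by simpa using h)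

theorem tens_dot (u u' : Fin k → F) (f f' : (Fin t → Fin k) → F) :
    tens u f ⬝ᵥ tens u' f' = (u ⬝ᵥ u') * (f ⬝ᵥ f') := by
  simp only [dotProduct, tens, Finset.sum_mul, Finset.mul_sum]
  refine (Equiv.sum_comp (Fin.consEquiv (fun _ : Fin (t + 1) => Fin k)) _).symm.trans ?_
  rw [Fintype.sum_prod_type]
  refine Eq.trans ?_ Finset.sum_comm
  refine Finset.sum_congr rfl fun p _ => Finset.sum_congr rfl fun x _ => ?_
  simp only [Fin.consEquiv, Equiv.coe_fn_mk, Fin.cons_zero, Fin.tail_cons]
  ring

theorem phi_tens (u u' : Fin k → F) (f f' : (Fin t → Fin k) → F) :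
    Phi σ J (t + 1) (tens u f) (tens u' f') = frm σ J u u' * Phi σ J t f f' := by
  have e : (fun i => σ (tens u' f' i)) = tens (fun i => σ (u' i)) (fun i => σ (f' i)) :=
    funext fun i => map_mul σ _ _
  rw [Phi, formOfGram_dot, e, gram, pure_mulVec_tens, tens_dot, frm, formOfGram_dot, Phi, formOfGram_dot, gram]

/-- the bilinear map of tensors -/
def tensL (F : Type*) [Field F] (k t : ℕ) :
    (Fin k → F) →ₗ[F] ((Fin t → Fin k) → F) →ₗ[F] ((Fin (t + 1) → Fin k) → F) :=
  LinearMap.mk₂ F tens (fun u u' f => funext fun x => by simp [tens, add_mul])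
    (fun c u f => funext fun x => by simp [tens, mul_assoc]) (fun u f f' => funext fun x => by simp [tens, mul_add])
    (fun c u f => funext fun x => by simp [tens]; ring)

theorem tensL_apply (u : Fin k → F) (f : (Fin t → Fin k) → F) : tensL F k t u f = tens u f := rfl

theorem prod2 (hh : Herm σ (frm σ J)) (hk : 3 ≤ k) (t : ℕ) :
    Prod2 σ (frm σ J) (Phi σ J (t + 1)) (Phi σ J (t + 2)) (tensL F k (t + 1)) where
  left := hh
  right := phi_herm hh _
  whole := phi_herm hh _
  mul u f u' f' := phi_tens u u' f f'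
  card₁ := by rwa [Fintype.card_fin]
  card₂ := by
    rw [Fintype.card_fun, Fintype.card_fin, Fintype.card_fin]
    calc 3 ≤ k := hk
      _ = k ^ 1 := (pow_one k).symm
      _ ≤ k ^ (t + 1) := Nat.pow_le_pow_right (by omega) (by omega)
  span := by
    refine eq_top_iff.2 fun v _ => ?_
    rw [pi_eq_sum_univ v]
    refine Submodule.sum_mem _ fun x _ => Submodule.smul_mem _ _ (Submodule.subset_span
      ⟨Pi.single (x 0) 1, Pi.single (Fin.tail x) 1, ?_⟩)
    funext y
    rw [tensL_apply]
    simp only [tens, Pi.single_apply, ← ite_and, ite_mul, one_mul, zero_mul]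
    refine if_congr ⟨fun h => by rw [h]; exact ⟨rfl, rfl⟩, fun h => ?_⟩ rfl rfl
    rw [← Fin.cons_self_tail x, ← h.1, ← h.2, Fin.cons_self_tail]

/-- closed sets with the pure isotropic vectors have all isotropic vectors -/
theorem all_centres (hh : Herm σ (frm σ J)) (hk : 3 ≤ k) : ∀ (t : ℕ) (C : Set ((Fin (t + 1) → Fin k) → F)),
    Closed σ (Phi σ J (t + 1)) C → (∀ u : Fin (t + 1) → Fin k → F, (∀ i, frm σ J (u i) (u i) = 0) → pv u ∈ C) →
    ∀ v, Phi σ J (t + 1) v v = 0 → v ∈ C := by
  intro t
  induction t with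
  | zero =>
    intro C _ hpure v hv
    have e : ∀ x : Fin 1 → Fin k, (fun _ => x 0) = x := fun x => funext fun i => by rw [Fin.eq_zero i]
    have hv' : v = pv fun _ : Fin 1 => fun p => v fun _ => p := funext fun x => by
      simp [pv, e]
    rw [hv']
    refine hpure _ fun i => ?_
    have h1 : v = tens (fun p => v fun _ => p) 1 := funext fun x => by simp [tens, e]
    rw [h1, phi_tens] at hv
    have h2 : Phi σ J 0 (1 : (Fin 0 → Fin k) → F) 1 = 1 := by
      simp [Phi, Cfsg.Geo.formOfGram, gram, pureTensor_apply]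
    rwa [h2, mul_one] at hv
  | succ t ih =>
    intro C hC hpure v hv
    have hP := prod2 hh hk t
    refine centres_all hP hC (fun u f hu hf => ?_) hv
    let C' : Set ((Fin (t + 1) → Fin k) → F) :=
      {f | Phi σ J (t + 1) f f = 0 ∧ ∀ u, frm σ J u u = 0 → tensL F k (t + 1) u f ∈ C}
    suffices h : f ∈ C' from h.2 u hu
    refine ih C' ⟨fun w hw => hw.1, fun r w hw => ⟨?_, fun u hu => ?_⟩, fun f hf g hg c hc => ?_⟩ (fun w hw => ⟨?_, fun u hu => ?_⟩) f hf
    · rw [hP.right.smul, smul_right hP.right, hw.1, mul_zero, mul_zero]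
    · rw [map_smul]; exact hC.smul r _ (hw.2 u hu)
    · have hr := hP.right
      refine ⟨?_, fun u hu => ?_⟩
      · simp only [hr.add, add_right hr, hr.smul, smul_right hr, hf.1, hg.1, map_mul, hr.herm f g]
        linear_combination (Phi σ J (t + 1) g f * σ (Phi σ J (t + 1) g f)) * hc
      rcases eq_or_ne u 0 with rfl | hu0
      · have := hC.smul 0 _ (hg.2 0 hu)
        simpa using this
      by_cases hgf : Phi σ J (t + 1) g f = 0
      · rw [hgf, mul_zero, zero_smul, add_zero]; exact hg.2 u hu
      set s := (σ (Phi σ J (t + 1) g f))⁻¹ with hs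
      have hs0 : s ≠ 0 := inv_ne_zero ((map_ne_zero σ).2 hgf)
      have h1 : Phi σ J (t + 1) g (s • f) = 1 := by rw [smul_right hr, hs, map_inv₀, hh.inv, inv_mul_cancel₀ hgf]
      have hff : Phi σ J (t + 1) (s • f) (s • f) = 0 := by rw [hr.smul, smul_right hr, hf.1, mul_zero, mul_zero]
      have h := move hP hC hu hu0 hff h1 (hg.2 u hu) (fun e he => by rw [map_smul]; exact hC.smul s _ (hf.2 e he))
        (w := (c * Phi σ J (t + 1) g f * s⁻¹) • u) (by rw [hh.smul, hu, mul_zero])
      rw [show tensL F k (t + 1) ((c * Phi σ J (t + 1) g f * s⁻¹) • u) (s • f) =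
          (c * Phi σ J (t + 1) g f) • tensL F k (t + 1) u f by
        simp only [map_smul, LinearMap.smul_apply, smul_smul]; field_simp] at h
      rwa [map_add, map_smul]
    · rw [pv_succ, phi_tens, hw 0, zero_mul]
    · rw [tensL_apply]
      have := hpure (Fin.cons u w) (Fin.cases (by simpa using hu) (by simpa using hw))
      rwa [pv_succ, Fin.cons_zero, show (fun i => (Fin.cons u w : Fin (t + 2) → Fin k → F) i.succ) = w from
        funext fun i => by simp] at this

end Cfsg.Agent.TensorWreath.Un
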