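import Cfsg.Agent.Lib.Forms.Max.TensorWreath.Unitary.Split

/-!
# The corner of an element preserving a slice is a scalar
-/

set_option autoImplicit false
set_option linter.unusedSectionVars false

namespace Cfsg.Agent.TensorWreath.Un

open Matrix Cfsg.Agent.Aschbacher Cfsg.Agent.Forms.Max Cfsg.Agent.Forms.Max.UnitaryInLinear Cfsg.Agent.Forms.Max.HermTools

variable {F : Type*} [Field F] {k t : ℕ} {σ : F →+* F} {J : Matrix (Fin k) (Fin k) F} {a b : Fin k} [Finite F]
variable {G G' : Subgroup (GL (Fin (t + 1) → Fin k) F)} {g : GL (Fin (t + 1) → Fin k) F}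

/-- a radical isometry without middle part is a corner element -/
theorem cor_of_shp (hd : Hyp σ J a b) {U : GL (Fin (t + 1) → Fin k) F} (hU : U ∈ Iso σ J (t + 1))
    (hs : Shp a b (blk U.val - 1)) (h0 : ∀ y, y ≠ a → y ≠ b → blk U.val a y = 0) :
    U = cor σ J (Pi.single a 1) (frm_aa hd) (blk U.val a b) := by
  classical
  obtain ⟨hJa, hJb⟩ := J_row hd
  have hdiag := shp_diag_aa hd.hab hs
  have hz : ∀ x y, ¬((x = a ∧ y ≠ a) ∨ (y = b ∧ x ≠ b)) → x ≠ y → blk U.val x y = 0 := fun x y h hne => by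
    have := hs x y h
    rwa [Matrix.sub_apply, Matrix.one_apply_ne hne, sub_zero] at this
  have hone : ∀ x, blk U.val x x = 1 := fun x => by
    have := hs x x (by rintro (⟨h, h'⟩ | ⟨h, h'⟩) <;> exact h' h)
    rwa [Matrix.sub_apply, Matrix.one_apply_eq, sub_eq_zero] at this
  -- the last column
  have hcol : ∀ x, x ≠ a → x ≠ b → blk U.val x b = 0 := by
    set V := fun q => (blk U.val q b).map σ
    have hsum : ∀ d, d ≠ a → d ≠ b → ∑ q, J d q • V q = 0 := by
      intro d hda hdb
      have e := iso_blk hU d b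
      rw [Finset.sum_eq_single_of_mem d (Finset.mem_univ d) fun p _ hp => Finset.sum_eq_zero fun q _ => ?_,
        hd.jb, if_neg hda, zero_smul, hone, transpose_one] at e
      · refine (gram_unit (t := t) hd).mul_right_eq_zero.1 ?_
        rw [Finset.mul_sum, ← e]
        exact Finset.sum_congr rfl fun q _ => by rw [mul_smul_comm, one_mul]
      · rcases eq_or_ne p a with rfl | hpa
        · rw [h0 d hda hdb, transpose_zero, zero_mul, zero_mul, smul_zero]
        · rw [hz p d (by rintro (⟨h, -⟩ | ⟨h, -⟩); exacts [hpa h, hdb h]) hp, transpose_zero, zero_mul, zero_mul, smul_zero]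
    intro x hxa hxb
    let V' : Fin k → Matrix (Fin t → Fin k) (Fin t → Fin k) F := fun q => if q ≠ a ∧ q ≠ b then V q else 0
    ext u v
    have hJv : J *ᵥ (fun q => V' q u v) = 0 := by
      funext d
      rw [Matrix.mulVec, dotProduct, Pi.zero_apply]
      rcases eq_or_ne d a with rfl | hda
      · refine Finset.sum_eq_zero fun q _ => ?_
        rw [hJa]; simp only [V']
        split_ifs with h1 h2 <;> simp_all
      rcases eq_or_ne d b with rfl | hdb
      · refine Finset.sum_eq_zero fun q _ => ?_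
        rw [hJb]; simp only [V']
        split_ifs with h1 h2 <;> simp_all
      have := congrFun (congrFun (hsum d hda hdb) u) v
      rw [Matrix.sum_apply, Matrix.zero_apply] at this
      rw [← this]
      refine Finset.sum_congr rfl fun q _ => ?_
      simp only [V', Matrix.smul_apply, smul_eq_mul]
      split_ifs with h
      · rfl
      · simp only [Matrix.zero_apply, mul_zero]
        rw [not_and_or, not_not, not_not] at h
        rcases h with rfl | rfl
        · rw [hd.ja, if_neg hdb, zero_mul]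
        · rw [hd.jb, if_neg hda, zero_mul]
    have hv : (fun q => V' q u v) = 0 := by
      have hJ : IsUnit J := by
        rw [← Matrix.mulVec_injective_iff_isUnit]
        refine (injective_iff_map_eq_zero J.mulVecLin).2 fun z (hz : J *ᵥ z = 0) => ?_
        have e : (fun p => σ (z p)) = 0 := by
          refine hd.herm.nd _ fun y => ?_
          rw [hd.herm.herm]
          simp only [frm]
          rw [formOfGram_dot]
          have : (fun i => σ (σ (z i))) = z := funext fun i => hd.herm.inv _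
          rw [this, hz, dotProduct_zero, map_zero]
        funext p
        simpa using congrFun e p
      exact Matrix.mulVec_injective_of_isUnit hJ (hJv.trans (Matrix.mulVec_zero _).symm)
    have := congrFun hv x
    simp only [V', ne_eq, hxa, hxb, not_false_eq_true, and_self, if_true, Pi.zero_apply, V, Matrix.map_apply] at this
    simpa using this
  suffices key : blk U.val - 1 = blk (cor σ J (Pi.single a 1) (frm_aa hd) (blk U.val a b)).val - 1 from
    Units.ext ((blk (F := F) (m := k) (t := t)).injective (sub_left_injective key))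
  ext1 x y
  rw [blk_cor, Nm_a hd, Matrix.single_apply]
  by_cases hxy : (x = a ∧ y ≠ a) ∨ (y = b ∧ x ≠ b)
  swap
  · rw [hs x y hxy, if_neg, zero_smul]
    rintro ⟨rfl, rfl⟩
    exact hxy (Or.inl ⟨rfl, hd.hab.symm⟩)
  rw [Matrix.sub_apply]
  rcases hxy with ⟨rfl, hya⟩ | ⟨rfl, hxb⟩
  · rw [Matrix.one_apply_ne (Ne.symm hya), sub_zero]
    rcases eq_or_ne y b with rfl | hyb
    · rw [if_pos ⟨rfl, rfl⟩, one_smul]
    · rw [h0 y hya hyb, if_neg (fun h => hyb h.2.symm), zero_smul]
  · rw [Matrix.one_apply_ne hxb, sub_zero]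
    rcases eq_or_ne x a with rfl | hxa
    · rw [if_pos ⟨rfl, rfl⟩, one_smul]
    · rw [hcol x hxa hxb, if_neg (fun h => hxa h.1.symm), zero_smul]

/-- elements preserving the slice split off the first slot -/
theorem PairU.split (hd : Hyp σ J a b) (hbig : Big σ k) (h : PairU σ J a b G G' g) :
    ∃ (h0 : GL (Fin k) F) (w : GL (Fin t → Fin k) F), g = sgl 0 h0 * liftW w := by
  classical
  obtain ⟨U, D, w, c, hc0, hsim, hg, hUiso, hUs, hrow⟩ := h.radical hd hbig
  choose! r hr using hrow
  let φ : Fin k → F := fun y => if y = a ∨ y = b then 0 else r y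
  obtain ⟨u, hu, hphi⟩ := exists_phi hd (φ := φ) (by simp [φ]) (by simp [φ])
  obtain ⟨s, hs, hshp, hsrow⟩ := sg_shp hd hu
  set U1 := U * sgl 0 s with hU1
  have hsb : blk (sgl (0 : Fin (t + 1)) s).val - 1 = (s.val - 1).map (algebraMap F _) := by
    rw [sgl_coe, ← blk_S_zero, map_sub, map_one, map_sub, map_one]
  have hsS : Shp a b (blk (sgl (0 : Fin (t + 1)) s).val - 1) := fun x y hxy => by
    rw [hsb, Matrix.map_apply, hshp x y hxy, map_zero]
  obtain ⟨hU1s, hU1row⟩ := shp_mul hd.hab hUs hsS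
  rw [← map_mul, ← Units.val_mul, ← hU1] at hU1s hU1row
  have h10 : ∀ y, y ≠ a → y ≠ b → blk U1.val a y = 0 := fun y hya hyb => by
    have e : blk (sgl (0 : Fin (t + 1)) s).val a y = ((s.val - 1) a y) • 1 := by
      have := congrFun (congrFun hsb a) y
      rw [Matrix.sub_apply, Matrix.one_apply_ne (Ne.symm hya), sub_zero, Matrix.map_apply] at this
      rw [this, Algebra.algebraMap_eq_smul_one]
    rw [hU1row y hya hyb, hr y hya hyb, e, hsrow y hyb, hphi, ← add_smul]
    simp [φ, hya, hyb]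
  have hU1iso : U1 ∈ Iso σ J (t + 1) := mul_mem hUiso (sgl_iso _ hs)
  set B := blk U1.val a b with hBdef
  have hcor := cor_of_shp hd hU1iso hU1s h10
  set C := cor σ J (Pi.single a 1) (frm_aa hd) with hCdef
  obtain ⟨E, hE⟩ : ∃ E : GL (Fin k) F, E = s⁻¹ * D := ⟨_, rfl⟩
  have hg' : g = C B * (sgl 0 E * liftW w) := by
    have h1 : g = U1 * (sgl 0 E * liftW w) := by rw [hE, map_mul, map_inv, hU1, hg]; group
    exact h1.trans (congrArg (· * (sgl 0 E * liftW w)) hcor)
  have hEsim : E.valᵀ * J * E.val.map σ = c • J := by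
    have h1 : (s⁻¹).valᵀ * J * (s⁻¹).val.map σ = J := slot_iso (inv_mem hs)
    rw [hE, Units.val_mul, transpose_mul, Matrix.map_mul]
    calc D.valᵀ * (s⁻¹).valᵀ * J * ((s⁻¹).val.map σ * D.val.map σ)
        = D.valᵀ * ((s⁻¹).valᵀ * J * (s⁻¹).val.map σ) * D.val.map σ := by simp only [Matrix.mul_assoc]
      _ = _ := by rw [h1, hsim]
  have hcomm : ∀ z : GL (Fin k) F, sgl (0 : Fin (t + 1)) z * liftW w = liftW w * sgl 0 z := fun z =>
    Units.ext (by simp only [Units.val_mul, sgl_coe, liftW_coe]; exact S0_lift_comm _ _)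
  -- two corners with moved centres
  have hpair : ∀ x : GL (Fin k) F, x ∈ isoSL (frm σ J) → ∀ he : frm σ J (x.val *ᵥ Pi.single a 1) (x.val *ᵥ Pi.single a 1) = 0,
      C B * (cor σ J (x.val *ᵥ Pi.single a 1) he B)⁻¹ ∈ G' := by
    intro x hx he
    have h1 := h.maps _ (h.base 0 _ (conj_isoSL hc0 hEsim hx).1)
    have e : g * sgl 0 (E⁻¹ * x * E) * g⁻¹ = C B * sgl 0 x * (C B)⁻¹ := by
      have e1 : liftW w * sgl (0 : Fin (t + 1)) (E⁻¹ * x * E) * (liftW w)⁻¹ = sgl 0 (E⁻¹ * x * E) := by
        rw [← hcomm, mul_inv_cancel_right]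
      calc g * sgl 0 (E⁻¹ * x * E) * g⁻¹
          = C B * (sgl 0 E * (liftW w * sgl (0 : Fin (t + 1)) (E⁻¹ * x * E) * (liftW w)⁻¹) * (sgl 0 E)⁻¹) * (C B)⁻¹ := by
            rw [hg']; group
        _ = _ := by rw [e1, map_mul, map_mul, map_inv]; group
    rw [e] at h1
    have h2 := mul_mem h1 (inv_mem (h.base' 0 _ hx))
    have e2 : C B * sgl 0 x * (C B)⁻¹ * (sgl 0 x)⁻¹ = C B * (sgl 0 x * C B * (sgl 0 x)⁻¹)⁻¹ := by group
    rw [e2, hCdef, cor_conj hx _ _ he] at h2
    exact h2
  suffices hB : ∃ r : F, B = r • 1 by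
    obtain ⟨r, hr⟩ := hB
    have hN : Nm σ J (Pi.single a 1) * Nm σ J (Pi.single a 1) = 0 := Nm_mul_self (frm_aa hd)
    let h1 : GL (Fin k) F := ⟨1 + r • Nm σ J (Pi.single a 1), 1 - r • Nm σ J (Pi.single a 1),
      by rw [mul_sub, mul_one, add_mul, one_mul, smul_mul_smul_comm, hN, smul_zero, add_zero]; abel,
      by rw [mul_add, mul_one, sub_mul, one_mul, smul_mul_smul_comm, hN, smul_zero, sub_zero]; abel⟩
    have e : C B = sgl 0 h1 := Units.ext (by
      rw [hCdef, cor_coe, hr, map_smul, map_one, mul_smul_comm, mul_one, sgl_coe]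
      show _ = S 0 (1 + r • Nm σ J (Pi.single a 1))
      rw [map_add, map_one, map_smul])
    exact ⟨h1 * E, w, by rw [hg', e, map_mul, mul_assoc]⟩
  have hscal : ∀ {z : GL (Fin (t + 1) → Fin k) F}, z ∈ G' → Shp a b (blk z.val - 1) → ∀ {y : Fin k} {s : F}, y ≠ a →
      (blk z.val - 1) a y = s • B → s ≠ 0 → ∃ r : F, B = r • 1 := by
    intro z hz hzs y s hya e hs0
    obtain ⟨d, hd'⟩ := h.tame'.self hz hzs y hya
    rw [Matrix.sub_apply, Matrix.one_apply_ne (Ne.symm hya), sub_zero, hd'] at e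
    exact ⟨s⁻¹ * d, by rw [← smul_smul, e, inv_smul_smul₀ hs0]⟩
  by_cases h4 : 4 ≤ k
  · obtain ⟨e, he, f, hf, he0, hee, hff, hef, hfe⟩ := exists_mid_pair hd h4
    obtain ⟨hea, heb⟩ := mem_mid.1 he
    obtain ⟨hfa, hfb⟩ := mem_mid.1 hf
    set v : Fin k → F := Pi.single a 1 + e with hv
    have hae : frm σ J (Pi.single a 1) e = 0 := by rw [hd.herm.herm, frm_a hd, heb, map_zero]
    have hea' : frm σ J e (Pi.single a 1) = 0 := comm_zero hd.herm hae
    have haf : frm σ J (Pi.single a 1) f = 0 := by rw [hd.herm.herm, frm_a hd, hfb, map_zero]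
    have hvv : frm σ J v v = 0 := by
      rw [hv]; simp only [hd.herm.add, add_right hd.herm, frm_aa hd, hae, hea', hee, add_zero]
    have hv0 : v ≠ 0 := fun e0 => by
      have := congrFun e0 a
      simp [hv, hea] at this
    obtain ⟨x, hx, l, hxa, hl⟩ := exists_move hd.herm (frm_aa hd) hvv (fun e0 => by simpa using congrFun e0 a) hv0
    have hlv : frm σ J (l • v) (l • v) = 0 := by rw [hd.herm.smul, smul_right hd.herm, hvv, mul_zero, mul_zero]
    have hP := hpair x hx (by rw [hxa]; exact hlv)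
    obtain ⟨y, hy, ry, hyx⟩ := exists_sg hd hf
    have hya : y.val *ᵥ Pi.single a 1 = Pi.single a 1 := by
      rw [hyx, haf, Pi.single_eq_of_ne hd.hab.symm]; simp
    have hyv : y.val *ᵥ v = e := by
      rw [hv, mulVec_add, hya, hyx, hef, heb]; simp
    set κ := l * σ l with hκ
    have hκ0 : κ ≠ 0 := mul_ne_zero hl ((map_ne_zero σ).2 hl)
    have ecor : cor σ J (x.val *ᵥ Pi.single a 1) (by rw [hxa]; exact hlv) B = cor σ J v hvv (κ • B) := by
      have h1 := cor_smul (t := t) l v hvv hlv B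
      rw [← h1]
      exact Units.ext (by rw [cor_coe, cor_coe, hxa])
    rw [ecor] at hP
    have hmem := mul_mem (inv_mem (mul_mem (mul_mem (h.base' 0 _ hy) hP) (inv_mem (h.base' 0 _ hy)))) hP
    have e1 : (sgl 0 y * (C B * (cor σ J v hvv (κ • B))⁻¹) * (sgl 0 y)⁻¹)⁻¹ * (C B * (cor σ J v hvv (κ • B))⁻¹) =
        cor σ J e hee (κ • B) * (cor σ J v hvv (κ • B))⁻¹ := by
      have c1 : sgl 0 y * C B * (sgl 0 y)⁻¹ = C B := by
        rw [hCdef, cor_conj hy _ _ (by rw [hya]; exact frm_aa hd)]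
        exact Units.ext (by rw [cor_coe, cor_coe, hya])
      have c2 : sgl 0 y * cor σ J v hvv (κ • B) * (sgl 0 y)⁻¹ = cor σ J e hee (κ • B) := by
        rw [cor_conj hy _ _ (by rw [hyv]; exact hee)]
        exact Units.ext (by rw [cor_coe, cor_coe, hyv])
      calc _ = (sgl 0 y * cor σ J v hvv (κ • B) * (sgl 0 y)⁻¹) * (sgl 0 y * C B * (sgl 0 y)⁻¹)⁻¹ *
            (C B * (cor σ J v hvv (κ • B))⁻¹) := by group
        _ = _ := by rw [c1, c2]; group
    rw [e1] at hmem
    set z := cor σ J e hee (κ • B) * (cor σ J v hvv (κ • B))⁻¹ with hzdef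
    have hcross : Nm σ J e * Nm σ J v = 0 := by
      have : frm σ J v e = 0 := by rw [hv, hd.herm.add, hae, hee, add_zero]
      rw [Nm, Nm, vecMulVec_mul_vecMulVec, ← frm_eq, this, zero_smul, vecMulVec_zero]
    have hzval : ∀ p q, (blk z.val - 1) p q = (Nm σ J e - Nm σ J v) p q • (κ • B) := by
      intro p q
      have hz1 : z.val = 1 + S 0 (Nm σ J e - Nm σ J v) * lift (κ • B) := by
        rw [hzdef, Units.val_mul, cor_coe]
        show (1 + _) * (1 - _) = _
        rw [mul_sub, mul_one, add_mul, one_mul, mul_assoc (S 0 _) (lift _), ← mul_assoc (lift _) (S 0 _), ← S0_lift_comm,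
          mul_assoc (S 0 (Nm σ J v)), ← mul_assoc (S 0 (Nm σ J e)) (S 0 (Nm σ J v)), ← map_mul, hcross, map_zero, zero_mul,
          add_zero, map_sub, sub_mul]
        abel
      rw [hz1, map_add, map_one, add_sub_cancel_left, blk_S0_lift]
    have hphiv : phi σ J v = fun q => (if q = b then 1 else 0) + phi σ J e q := by
      refine dotProduct_eq _ _ fun p => ?_
      rw [← frm_eq, hv, add_right hd.herm, frm_a hd, frm_eq]
      simp [dotProduct, add_mul, Finset.sum_add_distrib]
    have hNd : ∀ p q, (Nm σ J e - Nm σ J v) p q =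
        -((if p = a then 1 else 0) * ((if q = b then 1 else 0) + phi σ J e q) + e p * (if q = b then 1 else 0)) := by
      intro p q
      rw [Matrix.sub_apply, Nm, Nm, vecMulVec_apply, vecMulVec_apply, hphiv, hv]
      simp only [Pi.add_apply, Pi.single_apply]
      ring
    have hzs : Shp a b (blk z.val - 1) := by
      intro p q hpq
      rw [hzval, hNd]
      push Not at hpq
      rcases eq_or_ne p a with rfl | hpa
      · have hq := hpq.1 rfl
        simp [hq, hd.hab, phi_at_a hd, heb, hea]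
      · rcases eq_or_ne q b with rfl | hqb
        · simp [hpa, hpq.2 rfl, heb, hd.hab.symm]
        · simp [hpa, hqb]
    obtain ⟨d, hd0⟩ : ∃ d, phi σ J e d ≠ 0 := by
      by_contra hc
      push Not at hc
      have : frm σ J f e = 0 := by rw [frm_eq]; simp [dotProduct, hc]
      exact one_ne_zero (hfe.symm.trans this)
    have hda : d ≠ a := fun e' => hd0 (by rw [e', phi_at_a hd, heb, map_zero])
    have hdb : d ≠ b := fun e' => hd0 (by rw [e', phi_at_b hd, hea, map_zero])
    refine hscal hmem hzs (y := d) (s := -(phi σ J e d * κ)) hda ?_ (neg_ne_zero.2 (mul_ne_zero hd0 hκ0))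
    rw [hzval, hNd, smul_smul]
    simp [hdb, hea]
  · obtain ⟨l, hl0, hl⟩ := hbig.resolve_left h4
    obtain ⟨z, hz, hzz⟩ := exists_mid_norm hd
    obtain ⟨x, hx, hxa, -, -⟩ := exists_torus hd hl0 hz hzz
    have hlv : frm σ J (l • (Pi.single a (1 : F))) (l • (Pi.single a (1 : F))) = 0 := by
      rw [hd.herm.smul, smul_right hd.herm, frm_aa hd, mul_zero, mul_zero]
    have hP := hpair x hx (by rw [hxa]; exact hlv)
    have e : C B * (cor σ J (x.val *ᵥ Pi.single a 1) (by rw [hxa]; exact hlv) B)⁻¹ =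
        C ((1 - l * σ l) • B) := by
      have h1 : cor σ J (x.val *ᵥ Pi.single a 1) (by rw [hxa]; exact hlv) B = C ((l * σ l) • B) := by
        rw [hCdef, ← cor_smul l (Pi.single a 1) (frm_aa hd) hlv B]
        exact Units.ext (by rw [cor_coe, cor_coe, hxa])
      rw [h1, mul_inv_eq_iff_eq_mul, hCdef, cor_mul, sub_smul, one_smul, sub_add_cancel]
    rw [e] at hP
    refine hscal hP (fun p q hpq => ?_) (y := b) (s := 1 - l * σ l) hd.hab.symm ?_ (sub_ne_zero.2 (Ne.symm hl))
    · rw [hCdef, blk_cor, Nm_a hd, Matrix.single_apply, if_neg, zero_smul]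
      rintro ⟨rfl, rfl⟩
      exact hpq (Or.inl ⟨rfl, hd.hab.symm⟩)
    · rw [hCdef, blk_cor, Nm_a hd, Matrix.single_apply_same, one_smul]

end Cfsg.Agent.TensorWreath.Un
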