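import Cfsg.Agent.Lib.Forms.Max.TensorWreath.Elements
import Cfsg.Agent.Lib.Forms.Max.Tensor.HermTools

/-!
# A hermitian space with a hyperbolic pair of basis vectors
-/

set_option autoImplicit false
set_option linter.unusedSectionVars false

namespace Cfsg.Agent.TensorWreath.Un

open Matrix Cfsg.Agent.Aschbacher Cfsg.Agent.Forms.Max Cfsg.Agent.Forms.Max.UnitaryInLinear Cfsg.Agent.Forms.Max.HermTools

variable {F : Type*} [Field F] {k : ℕ} {σ : F →+* F} {J : Matrix (Fin k) (Fin k) F} {a b : Fin k}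

/-- the form with Gram matrix `J` -/
abbrev frm (σ : F →+* F) (J : Matrix (Fin k) (Fin k) F) : (Fin k → F) → (Fin k → F) → F :=
  Cfsg.Geo.formOfGram σ J

/-- a Gram matrix adapted to the hyperbolic pair `a`, `b` -/
structure Hyp (σ : F →+* F) (J : Matrix (Fin k) (Fin k) F) (a b : Fin k) : Prop where
  herm : Herm σ (frm σ J)
  hk : 3 ≤ k
  hab : a ≠ b
  ja : ∀ p, J p a = if p = b then 1 else 0
  jb : ∀ p, J p b = if p = a then 1 else 0

/-- the linear functional of a vector -/
def phi (σ : F →+* F) (J : Matrix (Fin k) (Fin k) F) (u : Fin k → F) : Fin k → F := J *ᵥ fun p => σ (u p)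

theorem frm_eq (x u : Fin k → F) : frm σ J x u = phi σ J u ⬝ᵥ x := by
  simp only [frm, Cfsg.Geo.formOfGram, phi, dotProduct, Matrix.mulVec, Finset.sum_mul]
  exact Finset.sum_congr rfl fun p _ => Finset.sum_congr rfl fun q _ => by ring

/-- the root operator of a vector -/
def Nm (σ : F →+* F) (J : Matrix (Fin k) (Fin k) F) (e : Fin k → F) : Matrix (Fin k) (Fin k) F :=
  vecMulVec e (phi σ J e)

theorem Nm_mulVec (e x : Fin k → F) : Nm σ J e *ᵥ x = frm σ J x e • e := by
  rw [Nm, vecMulVec_mulVec, frm_eq, op_smul_eq_smul]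

variable (hd : Hyp σ J a b)
include hd

theorem frm_a (x : Fin k → F) : frm σ J x (Pi.single a 1) = x b := by
  simp [frm, Cfsg.Geo.formOfGram, hd.ja, Pi.single_apply, apply_ite σ]

theorem frm_b (x : Fin k → F) : frm σ J x (Pi.single b 1) = x a := by
  simp [frm, Cfsg.Geo.formOfGram, hd.jb, Pi.single_apply, apply_ite σ]

theorem frm_aa : frm σ J (Pi.single a 1) (Pi.single a 1) = 0 := by
  rw [frm_a hd, Pi.single_eq_of_ne hd.hab.symm]

theorem frm_bb : frm σ J (Pi.single b 1) (Pi.single b 1) = 0 := by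
  rw [frm_b hd, Pi.single_eq_of_ne hd.hab]

theorem frm_ab : frm σ J (Pi.single a 1) (Pi.single b 1) = 1 := by rw [frm_b hd, Pi.single_eq_same]

theorem frm_ba : frm σ J (Pi.single b 1) (Pi.single a 1) = 1 := by rw [frm_a hd, Pi.single_eq_same]

theorem phi_a : phi σ J (Pi.single a 1) = Pi.single b 1 := by
  refine dotProduct_eq _ _ fun x => ?_
  rw [← frm_eq, frm_a hd, single_dotProduct, one_mul]

theorem phi_b : phi σ J (Pi.single b 1) = Pi.single a 1 := by
  refine dotProduct_eq _ _ fun x => ?_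
  rw [← frm_eq, frm_b hd, single_dotProduct, one_mul]

theorem phi_at_a (u : Fin k → F) : phi σ J u a = σ (u b) := by
  rw [← frm_a hd u, ← hd.herm.herm, frm_eq, dotProduct_single, mul_one]

theorem phi_at_b (u : Fin k → F) : phi σ J u b = σ (u a) := by
  rw [← frm_b hd u, ← hd.herm.herm, frm_eq, dotProduct_single, mul_one]

theorem Nm_a : Nm σ J (Pi.single a 1) = Matrix.single a b 1 := by
  rw [Nm, phi_a hd]
  ext i j
  simp only [vecMulVec_apply, Pi.single_apply, Matrix.single_apply, ite_mul, one_mul, zero_mul, ← ite_and]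
  exact if_congr (and_congr eq_comm eq_comm) rfl rfl

omit hd
variable (hh : Herm σ (frm σ J))

theorem phi_smul (c : F) (e : Fin k → F) : phi σ J (c • e) = σ c • phi σ J e := by
  funext p
  simp only [phi, Matrix.mulVec, dotProduct, Pi.smul_apply, smul_eq_mul, map_mul, Finset.mul_sum]
  exact Finset.sum_congr rfl fun _ _ => by ring

theorem Nm_smul (c : F) (e : Fin k → F) : Nm σ J (c • e) = (c * σ c) • Nm σ J e := by
  rw [Nm, Nm, phi_smul, smul_vecMulVec, vecMulVec_smul, smul_smul]

theorem Nm_ne_zero [Finite F] {e : Fin k → F} (hh : Herm σ (frm σ J)) (he : e ≠ 0) : Nm σ J e ≠ 0 := by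
  intro h
  obtain ⟨x, hx⟩ := exists_value_one hh he
  have := Nm_mulVec (σ := σ) (J := J) e x
  rw [h, Matrix.zero_mulVec, hx, one_smul] at this
  exact he this.symm

theorem Nm_mul_self {e : Fin k → F} (he : frm σ J e e = 0) : Nm σ J e * Nm σ J e = 0 := by
  rw [Nm]
  exact vecMulVec_sq (by rw [← frm_eq, he])

/-- the transvection with centre `e` and parameter `c` -/
def tvU (σ : F →+* F) (J : Matrix (Fin k) (Fin k) F) (e : Fin k → F) (he : frm σ J e e = 0) (c : F) : GL (Fin k) F :=
  trv e (c • phi σ J e) (by rw [smul_dotProduct, ← frm_eq, he, smul_zero])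

theorem tvU_coe (e : Fin k → F) (he : frm σ J e e = 0) (c : F) : (tvU σ J e he c).val = 1 + c • Nm σ J e := by
  show 1 + vecMulVec e (c • phi σ J e) = _
  rw [vecMulVec_smul, Nm]

theorem tvU_mulVec (e : Fin k → F) (he : frm σ J e e = 0) (c : F) (x : Fin k → F) :
    (tvU σ J e he c).val *ᵥ x = x + (c * frm σ J x e) • e := by
  rw [tvU_coe, add_mulVec, one_mulVec, smul_mulVec, Nm_mulVec, smul_smul]

theorem tvU_mem [Finite F] (hh : Herm σ (frm σ J)) (e : Fin k → F) (he : frm σ J e e = 0) {c : F} (hc : c + σ c = 0) :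
    tvU σ J e he c ∈ isoSL (frm σ J) := by
  obtain ⟨g, hg, hgx⟩ := exists_tv hh he hc
  have e1 : tvU σ J e he c = g := Forms.Max.gl_ext fun x => by rw [tvU_mulVec, hgx]
  rw [e1]; exact hg

/-! ### isometries -/

theorem iso_inv_frm {g : GL (Fin k) F} (hg : g ∈ isoSL (frm σ J)) (x e : Fin k → F) :
    frm σ J ((g⁻¹).val *ᵥ x) e = frm σ J x (g.val *ᵥ e) := by
  rw [← hg.1 ((g⁻¹).val *ᵥ x) e, mulVec_inv_cancel]

theorem conj_Nm {g : GL (Fin k) F} (hg : g ∈ isoSL (frm σ J)) (e : Fin k → F) :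
    conjMat g (Nm σ J e) = Nm σ J (g.val *ᵥ e) := by
  refine Matrix.ext_of_mulVec_single fun i => ?_
  rw [conjMat_apply, ← mulVec_mulVec, ← mulVec_mulVec, Nm_mulVec, Nm_mulVec, mulVec_smul, iso_inv_frm hg]

/-- isotropic vectors inside a non-degenerate subspace -/
theorem exists_pair_in [Finite F] (hh : Herm σ (frm σ J)) {S : Submodule F (Fin k → F)}
    (hS : ∀ x ∈ S, (∀ y ∈ S, frm σ J x y = 0) → x = 0) (h2 : 2 ≤ Module.finrank F S) :
    ∃ e ∈ S, ∃ f ∈ S, e ≠ 0 ∧ frm σ J e e = 0 ∧ frm σ J f f = 0 ∧ frm σ J e f = 1 ∧ frm σ J f e = 1 := by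
  obtain ⟨e, he, he0, hee⟩ := exists_iso hh h2
  obtain ⟨y, hy, hye⟩ : ∃ y ∈ S, frm σ J e y ≠ 0 := by
    by_contra hc
    push Not at hc
    exact he0 (hS e he hc)
  set x := (σ (frm σ J e y))⁻¹ • y with hx
  have hex : frm σ J e x = 1 := by
    rw [hx, smul_right hh, map_inv₀, hh.inv, inv_mul_cancel₀ hye]
  have hxe : frm σ J x e = 1 := by rw [hh.herm, hex, map_one]
  obtain ⟨r, hr⟩ := exists_trace_eq hh (self_fixed hh x)
  refine ⟨e, he, x + r • e, S.add_mem (S.smul_mem _ hy) (S.smul_mem _ he), he0, hee, ?_, ?_, ?_⟩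
  · simp only [hh.add, add_right hh, hh.smul, smul_right hh, hex, hxe, hee]
    linear_combination hr
  · simp only [add_right hh, smul_right hh, hex, hee, mul_zero, add_zero]
  · simp only [hh.add, hh.smul, hxe, hee, mul_zero, add_zero]

/-- a non-degenerate subspace of dimension two or more is spanned by its isotropic vectors -/
theorem span_iso_in [Finite F] (hh : Herm σ (frm σ J)) {S : Submodule F (Fin k → F)}
    (hS : ∀ x ∈ S, (∀ y ∈ S, frm σ J x y = 0) → x = 0) (h2 : 2 ≤ Module.finrank F S)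
    {T : Submodule F (Fin k → F)} (hT : ∀ e ∈ S, frm σ J e e = 0 → e ∈ T) : S ≤ T := by
  obtain ⟨e, he, f, hf, -, hee, hff, hef, hfe⟩ := exists_pair_in hh hS h2
  intro x hx
  set z := x - frm σ J x f • e - frm σ J x e • f with hz
  have hzS : z ∈ S := S.sub_mem (S.sub_mem hx (S.smul_mem _ he)) (S.smul_mem _ hf)
  have hze : frm σ J z e = 0 := by simp [hz, sub_left hh, hh.smul, hee, hfe]
  have hzf : frm σ J z f = 0 := by simp [hz, sub_left hh, hh.smul, hff, hef]
  obtain ⟨r, hr⟩ := exists_trace_eq hh (self_fixed hh z)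
  have h1 : z + r • e + f ∈ T := hT _ (S.add_mem (S.add_mem hzS (S.smul_mem _ he)) hf) (by
    simp only [hh.add, add_right hh, hh.smul, smul_right hh, hee, hef, hfe, hff, hze, hzf,
      comm_zero hh hze, comm_zero hh hzf]
    linear_combination hr)
  have e' : x = (z + r • e + f) + (frm σ J x f - r) • e + (frm σ J x e - 1) • f := by rw [hz]; module
  rw [e']
  exact T.add_mem (T.add_mem h1 (T.smul_mem _ (hT e he hee))) (T.smul_mem _ (hT f hf hff))

/-- three independent isotropic vectors -/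
theorem exists_three_in [Finite F] (hh : Herm σ (frm σ J)) {S : Submodule F (Fin k → F)}
    (hS : ∀ x ∈ S, (∀ y ∈ S, frm σ J x y = 0) → x = 0) (h3 : 3 ≤ Module.finrank F S) :
    ∃ e : Fin 3 → Fin k → F, LinearIndependent F e ∧ ∀ i, e i ∈ S ∧ frm σ J (e i) (e i) = 0 := by
  obtain ⟨e, he, f, hf, he0, hee, hff, hef, hfe⟩ := exists_pair_in hh hS (by omega)
  obtain ⟨x, hx, hxn⟩ : ∃ x ∈ S, x ∉ Submodule.span F {e, f} := SetLike.not_le_iff_exists.1 fun hle => by
    classical
    have h1 := (Submodule.finrank_mono hle).trans (finrank_span_le_card ({e, f} : Set (Fin k → F)))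
    have : ({e, f} : Set (Fin k → F)).toFinset.card ≤ 2 := by
      rw [Set.toFinset_insert, Set.toFinset_singleton]; exact Finset.card_le_two
    omega
  set z := x - frm σ J x f • e - frm σ J x e • f with hz
  have hzS : z ∈ S := S.sub_mem (S.sub_mem hx (S.smul_mem _ he)) (S.smul_mem _ hf)
  have hz0 : z ≠ 0 := fun h => hxn (by
    have e' : x = frm σ J x f • e + frm σ J x e • f := by
      rw [hz, sub_sub, sub_eq_zero] at h; exact h
    exact Submodule.mem_span_pair.2 ⟨_, _, e'.symm⟩)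
  have hze : frm σ J z e = 0 := by simp [hz, sub_left hh, hh.smul, hee, hfe]
  have hzf : frm σ J z f = 0 := by simp [hz, sub_left hh, hh.smul, hff, hef]
  obtain ⟨r, hr⟩ := exists_trace_eq hh (self_fixed hh z)
  refine ⟨![e, f, z + r • e + f], ?_, fun i => ?_⟩
  · refine Fintype.linearIndependent_iff.2 fun g hg => ?_
    simp only [Fin.sum_univ_three, Matrix.cons_val_zero, Matrix.cons_val_one, Matrix.cons_val_two,
      Matrix.tail_cons, Matrix.head_cons] at hg
    have h1 : (g 0 + g 2 * r) • e + (g 1 + g 2) • f + g 2 • z = 0 := by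
      rw [← hg]; module
    have hA : g 0 + g 2 * r = 0 := by
      have := congrArg (fun v => frm σ J v f) h1
      simpa [hh.add, hh.smul, hef, hff, hzf, zero_left hh] using this
    have hB : g 1 + g 2 = 0 := by
      have := congrArg (fun v => frm σ J v e) h1
      simpa [hh.add, hh.smul, hee, hfe, hze, zero_left hh] using this
    rw [hA, hB, zero_smul, zero_smul, zero_add, zero_add, smul_eq_zero] at h1
    have h2 := h1.resolve_right hz0
    intro i
    fin_cases i
    · simpa [h2] using hA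
    · simpa [h2] using hB
    · exact h2
  · fin_cases i
    · exact ⟨he, hee⟩
    · exact ⟨hf, hff⟩
    · refine ⟨S.add_mem (S.add_mem hzS (S.smul_mem _ he)) hf, ?_⟩
      show frm σ J (z + r • e + f) (z + r • e + f) = 0
      simp only [hh.add, add_right hh, hh.smul, smul_right hh, hee, hef, hfe, hff, hze, hzf,
        comm_zero hh hze, comm_zero hh hzf]
      linear_combination hr

/-- the orthogonal of a non-isotropic vector -/
theorem perp_spec [Finite F] (hh : Herm σ (frm σ J)) {x : Fin k → F} (hx : frm σ J x x ≠ 0) :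
    (∀ y ∈ LinearMap.ker (form hh x), (∀ z ∈ LinearMap.ker (form hh x), frm σ J y z = 0) → y = 0) ∧
      k ≤ Module.finrank F (LinearMap.ker (form hh x)) + 1 := by
  refine ⟨fun y hy h => hh.nd y fun z => ?_, ?_⟩
  · have hyx : frm σ J y x = 0 := hy
    have hp : z - (frm σ J z x / frm σ J x x) • x ∈ LinearMap.ker (form hh x) := by
      show frm σ J _ x = 0
      rw [sub_left hh, hh.smul, div_mul_cancel₀ _ hx, sub_self]
    have := h _ hp
    rwa [sub_right hh, smul_right hh, hyx, mul_zero, sub_zero] at this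
  · have h1 := LinearMap.finrank_range_add_finrank_ker (form hh x)
    have h2 := Submodule.finrank_le (LinearMap.range (form hh x))
    rw [Module.finrank_self] at h2
    rw [Module.finrank_fintype_fun_eq_card, Fintype.card_fin] at h1
    omega

/-! ### the middle space -/

/-- orthogonal to both basis vectors of the pair -/
def mid (F : Type*) [Field F] {k : ℕ} (a b : Fin k) : Submodule F (Fin k → F) :=
  LinearMap.ker (LinearMap.proj a : (Fin k → F) →ₗ[F] F) ⊓ LinearMap.ker (LinearMap.proj b : (Fin k → F) →ₗ[F] F)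

theorem mem_mid {u : Fin k → F} : u ∈ mid F a b ↔ u a = 0 ∧ u b = 0 := Iff.rfl

theorem single_mem_mid {d : Fin k} (ha : d ≠ a) (hb : d ≠ b) : (Pi.single d 1 : Fin k → F) ∈ mid F a b :=
  mem_mid.2 ⟨Pi.single_eq_of_ne ha.symm _, Pi.single_eq_of_ne hb.symm _⟩

include hd

theorem mid_nondeg [Finite F] : ∀ x ∈ mid F a b, (∀ y ∈ mid F a b, frm σ J x y = 0) → x = 0 := by
  intro x hx h
  refine hd.herm.nd x fun z => ?_
  have := h (z - z a • Pi.single a 1 - z b • Pi.single b 1) (mem_mid.2 (by simp [hd.hab, hd.hab.symm]))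
  rwa [sub_right hd.herm, sub_right hd.herm, smul_right hd.herm, smul_right hd.herm, frm_a hd, frm_b hd, (mem_mid.1 hx).1, (mem_mid.1 hx).2,
    mul_zero, mul_zero, sub_zero, sub_zero] at this

theorem mid_finrank : k ≤ Module.finrank F (mid F a b) + 2 := by
  have e : mid F a b = LinearMap.ker ((LinearMap.proj a : (Fin k → F) →ₗ[F] F).prod (LinearMap.proj b)) := by
    rw [mid, LinearMap.ker_prod]
  have h1 := LinearMap.finrank_range_add_finrank_ker ((LinearMap.proj a : (Fin k → F) →ₗ[F] F).prod (LinearMap.proj b))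
  have h2 := Submodule.finrank_le (LinearMap.range ((LinearMap.proj a : (Fin k → F) →ₗ[F] F).prod (LinearMap.proj b)))
  rw [Module.finrank_prod, Module.finrank_self] at h2
  rw [Module.finrank_fintype_fun_eq_card, Fintype.card_fin] at h1
  rw [e]; omega

/-- a non-isotropic middle vector -/
theorem exists_mid_norm [Finite F] : ∃ z ∈ mid F a b, frm σ J z z ≠ 0 := by
  by_contra hc
  push Not at hc
  obtain ⟨z, hz, hz0⟩ := Submodule.exists_mem_ne_zero_of_ne_bot (p := mid F a b) fun e => by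
    have := mid_finrank hd
    rw [e, finrank_bot] at this
    have := hd.hk
    omega
  exact hz0 (mid_nondeg hd z hz fun y hy => polar_zero hd.herm hc hz hy)

/-- a middle isotropic vector with a middle vector not orthogonal to it -/
theorem exists_mid_pair [Finite F] (h4 : 4 ≤ k) : ∃ e ∈ mid F a b, ∃ f ∈ mid F a b,
    e ≠ 0 ∧ frm σ J e e = 0 ∧ frm σ J f f = 0 ∧ frm σ J e f = 1 ∧ frm σ J f e = 1 :=
  exists_pair_in hd.herm (mid_nondeg hd) (by have := mid_finrank hd; omega)

/-- Siegel elements of `a` and a middle vector -/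
theorem exists_sg [Finite F] {u : Fin k → F} (hu : u ∈ mid F a b) :
    ∃ g ∈ isoSL (frm σ J), ∃ r : F, ∀ x, g.val *ᵥ x = x + x b • u + (-frm σ J x u + r * x b) • Pi.single a 1 := by
  obtain ⟨r, hr⟩ := exists_trace_eq hd.herm (self_fixed hd.herm u)
  obtain ⟨g, hg, hgx⟩ := exists_siegel hd.herm (a := Pi.single a 1) (b := u) (frm_aa hd)
    (by rw [hd.herm.herm, frm_a hd, (mem_mid.1 hu).2, map_zero]) hr
  exact ⟨g, hg, r, fun x => by rw [hgx, frm_a hd]⟩

/-- torus elements -/
theorem exists_torus [Finite F] {l : F} (hl : l ≠ 0) {z : Fin k → F} (hz : z ∈ mid F a b) (hzz : frm σ J z z ≠ 0) :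
    ∃ h ∈ isoSL (frm σ J), h.val *ᵥ Pi.single a 1 = l • Pi.single a 1 ∧
      h.val *ᵥ Pi.single b 1 = (σ l)⁻¹ • Pi.single b 1 ∧ h.val *ᵥ z = (σ l / l) • z := by
  classical
  have hh := hd.herm
  obtain ⟨hza, hzb⟩ := mem_mid.1 hz
  have hσl : σ l ≠ 0 := fun h => hl (by rw [← hh.inv l, h, map_zero])
  set μ := σ l / l with hμ
  have hμn : μ * σ μ = 1 := by rw [hμ, map_div₀, hh.inv]; field_simp
  have hzn : σ (frm σ J z z) = frm σ J z z := self_fixed hh z
  set A := (l - 1) • vecMulVec (Pi.single a (1 : F)) (Pi.single a 1) with hA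
  set B := ((σ l)⁻¹ - 1) • vecMulVec (Pi.single b (1 : F)) (Pi.single b 1) with hB
  set C := ((μ - 1) / frm σ J z z) • Nm σ J z with hC
  set M := (1 + A) * (1 + B) * (1 + C) with hM
  have hdet1 : ∀ (v φ : Fin k → F), (1 + vecMulVec v φ).det = 1 + φ ⬝ᵥ v := fun v φ => by
    rw [vecMulVec_eq Unit, Matrix.det_one_add_replicateCol_mul_replicateRow]
  have hdet : M.det = 1 := by
    rw [hM, det_mul, det_mul, hA, hB, hC, Nm, ← smul_vecMulVec, ← smul_vecMulVec, ← smul_vecMulVec, hdet1, hdet1, hdet1,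
      dotProduct_smul, dotProduct_smul, dotProduct_smul, ← frm_eq, single_dotProduct, single_dotProduct,
      Pi.single_eq_same, Pi.single_eq_same, smul_eq_mul, smul_eq_mul, smul_eq_mul, div_mul_cancel₀ _ hzz, hμ]
    field_simp
    ring
  have happ : ∀ x, M *ᵥ x = x + ((l - 1) * x a) • Pi.single a 1 + (((σ l)⁻¹ - 1) * x b) • Pi.single b 1 +
      ((μ - 1) / frm σ J z z * frm σ J x z) • z := by
    intro x
    rw [hM, ← mulVec_mulVec, ← mulVec_mulVec, hA, hB, hC]
    simp only [add_mulVec, one_mulVec, smul_mulVec, Nm_mulVec, vecMulVec_mulVec, op_smul_eq_smul, mulVec_add, mulVec_smul,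
      single_dotProduct, one_mul, smul_smul, hza, hzb, Pi.single_eq_of_ne hd.hab, Pi.single_eq_of_ne hd.hab.symm]
    simp
  let h := Matrix.GeneralLinearGroup.mkOfDetNeZero M (by rw [hdet]; exact one_ne_zero)
  have haz : frm σ J (Pi.single a 1) z = 0 := by rw [hh.herm, frm_a hd, hzb, map_zero]
  have hbz : frm σ J (Pi.single b 1) z = 0 := by rw [hh.herm, frm_b hd, hza, map_zero]
  refine ⟨h, ⟨fun x y => ?_, hdet⟩, ?_, ?_, ?_⟩
  · show frm σ J (M *ᵥ x) (M *ᵥ y) = _
    rw [happ, happ]
    have hzy : frm σ J z y = σ (frm σ J y z) := hh.herm _ _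
    have hay : frm σ J (Pi.single a 1) y = σ (y b) := by rw [hh.herm, frm_a hd]
    have hby : frm σ J (Pi.single b 1) y = σ (y a) := by rw [hh.herm, frm_b hd]
    simp only [hh.add, add_right hh, hh.smul, smul_right hh, frm_a hd, frm_b hd, hay, hby, hzy, haz, hbz,
      comm_zero hh haz, comm_zero hh hbz, hza, hzb, map_mul, map_sub, map_inv₀, map_one, map_div₀, hzn, hh.inv,
      Pi.single_eq_same, Pi.single_eq_of_ne hd.hab, Pi.single_eq_of_ne hd.hab.symm, map_zero, mul_zero, add_zero,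
      zero_add, mul_one]
    field_simp
    linear_combination (frm σ J x z * σ (frm σ J y z) * l * σ l) * hμn
  · show M *ᵥ _ = _
    rw [happ, haz]; simp [hd.hab, hd.hab.symm, sub_smul]
  · show M *ᵥ _ = _
    rw [happ, hbz]; simp [hd.hab, hd.hab.symm, sub_smul]
  · show M *ᵥ _ = _
    rw [happ, hza, hzb, div_mul_cancel₀ _ hzz]; simp [sub_smul]

end Cfsg.Agent.TensorWreath.Un
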