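import Cfsg.Agent.Lib.Forms.Max.TensorWreath.Unitary.Engine

/-!
# Descending along one slot in a space stable under the slot isometries
-/

set_option autoImplicit false
set_option linter.unusedSectionVars false

namespace Cfsg.Agent.TensorWreath.Un

open Matrix Cfsg.Agent.Aschbacher Cfsg.Agent.Forms.Max Cfsg.Agent.Forms.Max.UnitaryInLinear Cfsg.Agent.Forms.Max.HermTools

variable {F : Type*} [Field F] [Fintype F] {k t : ℕ} {σ : F →+* F} {J : Matrix (Fin k) (Fin k) F} {a b : Fin k}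

/-- additive groups stable under the slot isometries and the norms -/
structure Spc (σ : F →+* F) (J : Matrix (Fin k) (Fin k) F)
    (V : AddSubgroup (Matrix (Fin t → Fin k) (Fin t → Fin k) F)) : Prop where
  conj : ∀ (j : Fin t) (h : GL (Fin k) F), h ∈ isoSL (frm σ J) → ∀ Y ∈ V, conjMat (sgl j h) Y ∈ V
  norm : ∀ (l : F), ∀ Y ∈ V, (l * σ l) • Y ∈ V

/-- the coefficients of a matrix of the first slot -/
def down (z : Matrix (Fin k) (Fin k) F) (V : AddSubgroup (Matrix (Fin (t + 1) → Fin k) (Fin (t + 1) → Fin k) F)) :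
    AddSubgroup (Matrix (Fin t → Fin k) (Fin t → Fin k) F) :=
  V.comap ((AddMonoidHom.mulLeft (S 0 z)).comp (lift (F := F) (m := k) (t := t)).toRingHom.toAddMonoidHom)

theorem mem_down {z : Matrix (Fin k) (Fin k) F}
    {V : AddSubgroup (Matrix (Fin (t + 1) → Fin k) (Fin (t + 1) → Fin k) F)}
    {Y : Matrix (Fin t → Fin k) (Fin t → Fin k) F} : Y ∈ down z V ↔ S 0 z * lift Y ∈ V := Iff.rfl

theorem Spc.down {V : AddSubgroup (Matrix (Fin (t + 1) → Fin k) (Fin (t + 1) → Fin k) F)} (hV : Spc σ J V)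
    (z : Matrix (Fin k) (Fin k) F) : Spc σ J (Un.down z V) := by
  refine ⟨fun j h hh Y hY => ?_, fun l Y hY => ?_⟩
  · have h1 := hV.conj j.succ h hh _ hY
    have e1 : conjMat (sgl j.succ h) (S 0 z) = S (0 : Fin (t + 1)) z :=
      (conjMat_eq_iff_mul ..).2 (by rw [sgl_coe]; exact S_comm (Fin.succ_ne_zero j) _ _)
    have e2 : conjMat (sgl j.succ h) (lift Y) = lift (conjMat (sgl j h) Y) := by
      rw [conjMat_apply, conjMat_apply, map_mul, map_mul, ← liftW_sgl, ← map_inv, liftW_coe, liftW_coe]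
    change conjMat (sgl j.succ h) (S 0 z * lift Y) ∈ V at h1
    rw [map_mul (conjMat _), e1] at h1
    rw [mem_down, ← e2]
    exact h1
  · rw [mem_down, map_smul, mul_smul_comm]
    exact hV.norm l _ hY

variable (hd : Hyp σ J a b)
include hd

/-- a matrix killed by all isotropic vectors is scalar -/
theorem scalar_of_iso (M : Matrix (Fin k) (Fin k) F) (h : ∀ e, frm σ J e e = 0 → frm σ J (M *ᵥ e) e = 0) :
    ∃ r : F, M = r • 1 := by
  classical
  have hh := hd.herm
  set A : Fin k → F := Pi.single a 1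
  set B : Fin k → F := Pi.single b 1
  set ρ := frm σ J (M *ᵥ A) B with hρ
  set N := M - ρ • (1 : Matrix (Fin k) (Fin k) F) with hN
  refine ⟨ρ, sub_eq_zero.1 ?_⟩
  set β := fun x y => frm σ J (N *ᵥ x) y with hβ
  have hiso : ∀ e, frm σ J e e = 0 → β e e = 0 := fun e he => by
    simp only [hβ, hN, sub_mulVec, smul_mulVec, one_mulVec, sub_left hh, hh.smul, h e he, he, mul_zero, sub_zero]
  have hadd : ∀ x y v, β (x + y) v = β x v + β y v := fun x y v => by simp only [hβ, mulVec_add, hh.add]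
  have hadd' : ∀ x y v, β x (y + v) = β x y + β x v := fun x y v => by simp only [hβ, add_right hh]
  have hsmul : ∀ (r : F) x v, β (r • x) v = r * β x v := fun r x v => by simp only [hβ, mulVec_smul, hh.smul]
  have hsmul' : ∀ (r : F) x v, β x (r • v) = σ r * β x v := fun r x v => by simp only [hβ, smul_right hh]
  obtain ⟨τ, hτ0, hτ⟩ := exists_skew hh
  have hAA := hiso A (frm_aa hd)
  have hBB := hiso B (frm_bb hd)
  have hAB : β A B = 0 := by
    simp only [hβ, hN, sub_mulVec, smul_mulVec, one_mulVec, sub_left hh, hh.smul, ← hρ]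
    rw [frm_ab hd, mul_one, sub_self]
  have hBA : β B A = 0 := by
    have h1 := hiso (A + τ • B) (by
      simp only [hh.add, add_right hh, hh.smul, smul_right hh, A, B, frm_aa hd, frm_bb hd, frm_ab hd, frm_ba hd, hτ]
      ring)
    simp only [hadd, hadd', hsmul, hsmul', hAA, hBB, hAB, mul_zero, add_zero, zero_add] at h1
    exact (mul_eq_zero.1 h1).resolve_left hτ0
  obtain ⟨θ, hθ⟩ : ∃ θ : F, σ θ ≠ θ := by
    by_contra hc
    push Not at hc
    exact hh.ne_id (RingHom.ext hc)
  have step : ∀ (P Q : Fin k → F), frm σ J P P = 0 → frm σ J Q Q = 0 → frm σ J P Q = 1 → frm σ J Q P = 1 → β P P = 0 →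
      β Q Q = 0 → β P Q = 0 → β Q P = 0 → ∀ d, frm σ J d P = 0 → frm σ J d Q = 0 → β P d = 0 ∧ β d P = 0 := by
    intro P Q hPP hQQ hPQ hQP bPP bQQ bPQ bQP d hdP hdQ
    have hPd := comm_zero hh hdP
    have hQd := comm_zero hh hdQ
    have hr : ∀ d, frm σ J d P = 0 → frm σ J d Q = 0 → ∀ r : F, r + σ r + frm σ J d d = 0 →
        β d d + β Q d + β d Q + r * β P d + σ r * β d P = 0 := by
      intro d hdP hdQ r hr
      have h1 := hiso (Q + d + r • P) (by
        simp only [hh.add, add_right hh, hh.smul, smul_right hh, hQQ, hdQ, hdP, hQP, hPQ, hPP, comm_zero hh hdP,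
          comm_zero hh hdQ]
        linear_combination hr)
      simp only [hadd, hadd', hsmul, hsmul', bPP, bQQ, bPQ, bQP] at h1
      linear_combination h1
    have heq : ∀ l : F, σ l * β P d = l * β d P := by
      intro l
      have hlP : frm σ J (l • d) P = 0 := by rw [hh.smul, hdP, mul_zero]
      have hlQ : frm σ J (l • d) Q = 0 := by rw [hh.smul, hdQ, mul_zero]
      obtain ⟨r, hr0⟩ := exists_trace_eq hh (self_fixed hh (l • d))
      have h1 := hr _ hlP hlQ r hr0
      have h2 := hr _ hlP hlQ (r + τ) (by rw [map_add, hτ]; linear_combination hr0)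
      rw [map_add, hτ] at h2
      simp only [hsmul, hsmul'] at h1 h2
      refine mul_left_cancel₀ hτ0 ?_
      linear_combination h2 - h1
    have h1 := heq 1
    rw [map_one, one_mul, one_mul] at h1
    have h2 := heq θ
    rw [h1, ← sub_eq_zero, ← sub_mul] at h2
    have h3 := (mul_eq_zero.1 h2).resolve_left (sub_ne_zero.2 hθ)
    exact ⟨h1.trans h3, h3⟩
  have hmd : ∀ d, frm σ J d A = 0 → frm σ J d B = 0 → β A d = 0 ∧ β d A = 0 ∧ β B d = 0 ∧ β d B = 0 := by
    intro d hdA hdB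
    obtain ⟨h1, h2⟩ := step A B (frm_aa hd) (frm_bb hd) (frm_ab hd) (frm_ba hd) hAA hBB hAB hBA d hdA hdB
    obtain ⟨h3, h4⟩ := step B A (frm_bb hd) (frm_aa hd) (frm_ba hd) (frm_ab hd) hBB hAA hBA hAB d hdB hdA
    exact ⟨h1, h2, h3, h4⟩
  have hdd : ∀ d, frm σ J d A = 0 → frm σ J d B = 0 → β d d = 0 := by
    intro d hdA hdB
    obtain ⟨h1, h2, h3, h4⟩ := hmd d hdA hdB
    obtain ⟨r, hr⟩ := exists_trace_eq hh (self_fixed hh d)
    have h5 := hiso (B + d + r • A) (by
      simp only [hh.add, add_right hh, hh.smul, smul_right hh, A, B, frm_bb hd, frm_ba hd, frm_ab hd, frm_aa hd]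
      rw [comm_zero hh hdB, comm_zero hh hdA, hdA, hdB]
      linear_combination hr)
    simp only [hadd, hadd', hsmul, hsmul', hAA, hBB, hAB, hBA, h1, h2, h3, h4] at h5
    linear_combination h5
  have hmm : ∀ d d', frm σ J d A = 0 → frm σ J d B = 0 → frm σ J d' A = 0 → frm σ J d' B = 0 → β d d' = 0 := by
    intro d d' h1 h2 h3 h4
    have hl : ∀ l : F, σ l * β d d' + l * β d' d = 0 := fun l => by
      have h5 := hdd (d + l • d') (by rw [hh.add, hh.smul, h1, h3]; ring) (by rw [hh.add, hh.smul, h2, h4]; ring)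
      simp only [hadd, hadd', hsmul, hsmul', hdd d h1 h2, hdd d' h3 h4] at h5
      linear_combination h5
    have e1 := hl 1
    rw [map_one, one_mul, one_mul] at e1
    have e2 : (σ θ - θ) * β d d' = 0 := by linear_combination hl θ - θ * e1
    exact (mul_eq_zero.1 e2).resolve_left (sub_ne_zero.2 hθ)
  have hall : ∀ x y, β x y = 0 := by
    intro x y
    have hsplit : ∀ x : Fin k → F, ∃ d, frm σ J d A = 0 ∧ frm σ J d B = 0 ∧ x = d + x a • A + x b • B := fun x =>
      ⟨x - x a • A - x b • B, by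
        simp only [A, B, sub_left hh, hh.smul, frm_aa hd, frm_ba hd, frm_a hd x]; ring, by
        simp only [A, B, sub_left hh, hh.smul, frm_bb hd, frm_ab hd, frm_b hd x]; ring, by abel⟩
    obtain ⟨d, hdA, hdB, ex⟩ := hsplit x
    obtain ⟨d', hd'A, hd'B, ey⟩ := hsplit y
    obtain ⟨h1, h2, h3, h4⟩ := hmd d hdA hdB
    obtain ⟨h5, h6, h7, h8⟩ := hmd d' hd'A hd'B
    rw [ex, ey]
    simp only [hadd, hadd', hsmul, hsmul', hAA, hBB, hAB, hBA, h2, h4, h5, h7, hmm d d' hdA hdB hd'A hd'B, mul_zero,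
      add_zero]
  refine Matrix.ext_of_mulVec_single fun i => ?_
  rw [Matrix.zero_mulVec]
  exact hh.nd _ (hall _)

omit hd

theorem cblk_mem {ψ z : Fin k → F} {Y : Matrix (Fin (t + 1) → Fin k) (Fin (t + 1) → Fin k) F}
    {W : Submodule F (Matrix (Fin t → Fin k) (Fin t → Fin k) F)} (h : ∀ x y, blk Y x y ∈ W) : cblk ψ z Y ∈ W :=
  W.sum_mem fun x _ => W.sum_mem fun y _ => W.smul_mem _ (h x y)

theorem sandwich (x y : Fin k → F) (Y : Matrix (Fin (t + 1) → Fin k) (Fin (t + 1) → Fin k) F) :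
    S 0 (Nm σ J x) * Y * S 0 (Nm σ J y) = S 0 (vecMulVec x (phi σ J y)) * lift (cblk (phi σ J x) y Y) := by
  refine (blk (F := F) (m := k) (t := t)).injective (Matrix.ext fun i j => ?_)
  rw [slot_mul_blk, blk_S0_lift, cblk, Finset.smul_sum]
  refine Finset.sum_congr rfl fun p _ => ?_
  rw [Finset.smul_sum]
  refine Finset.sum_congr rfl fun q _ => ?_
  rw [smul_smul, Nm, Nm, vecMulVec_apply, vecMulVec_apply, vecMulVec_apply]
  congr 1
  ring

theorem cblk_S0_lift (ψ z : Fin k → F) (M : Matrix (Fin k) (Fin k) F) (Y : Matrix (Fin t → Fin k) (Fin t → Fin k) F) :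
    cblk ψ z (S 0 M * lift Y) = (ψ ⬝ᵥ (M *ᵥ z)) • Y := by
  simp only [cblk, blk_S0_lift, smul_smul, ← Finset.sum_smul]
  congr 1
  simp only [dotProduct, Matrix.mulVec, Finset.mul_sum]
  exact Finset.sum_congr rfl fun x _ => Finset.sum_congr rfl fun y _ => by ring

theorem cblk_add (ψ z : Fin k → F) (A B : Matrix (Fin (t + 1) → Fin k) (Fin (t + 1) → Fin k) F) :
    cblk ψ z (A + B) = cblk ψ z A + cblk ψ z B := by
  simp only [cblk, map_add, Matrix.add_apply, smul_add, Finset.sum_add_distrib]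

theorem phi_add' (hh : Herm σ (frm σ J)) (x y : Fin k → F) : phi σ J (x + y) = phi σ J x + phi σ J y :=
  dotProduct_eq _ _ fun z => by rw [add_dotProduct, ← frm_eq, ← frm_eq, ← frm_eq, add_right hh]

include hd

/-- a space stable under the slots contains one with a root in the first slot -/
theorem descend (hbig : Big σ k) {V : AddSubgroup (Matrix (Fin (t + 1) → Fin k) (Fin (t + 1) → Fin k) F)}
    (hV : Spc σ J V) {Y : Matrix (Fin (t + 1) → Fin k) (Fin (t + 1) → Fin k) F} (hY : Y ∈ V)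
    (hl : ¬∃ h, Y = lift h) :
    ∃ h, h ≠ 0 ∧ S 0 (Matrix.single a b (1 : F)) * lift h ∈ V ∧
      ∀ W : Submodule F (Matrix (Fin t → Fin k) (Fin t → Fin k) F), (∀ x y, blk Y x y ∈ W) → h ∈ W := by
  classical
  have hh := hd.herm
  set A : Fin k → F := Pi.single a 1 with hAdef
  have hA0 : A ≠ 0 := fun e => one_ne_zero (by simpa [hAdef] using congrFun e a : (1 : F) = 0)
  -- a non-zero isotropic coefficient
  obtain ⟨e, he, hne⟩ : ∃ e, frm σ J e e = 0 ∧ cblk (phi σ J e) e Y ≠ 0 := by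
    by_contra hc
    push Not at hc
    refine hl ⟨blk Y a a, (blk (F := F) (m := k) (t := t)).injective (Matrix.ext fun x y => Matrix.ext fun u v => ?_)⟩
    obtain ⟨r, hr⟩ := scalar_of_iso hd (Matrix.of fun x y => blk Y x y u v) fun e he => by
      have := congrFun (congrFun (hc e he) u) v
      simp only [cblk, Matrix.sum_apply, Matrix.smul_apply, smul_eq_mul, Matrix.zero_apply] at this
      rw [frm_eq, ← this]
      simp only [dotProduct, Matrix.mulVec, Matrix.of_apply, Finset.mul_sum]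
      exact Finset.sum_congr rfl fun x _ => Finset.sum_congr rfl fun y _ => by ring
    have h1 := congrFun (congrFun hr x) y
    have h2 := congrFun (congrFun hr a) a
    simp only [Matrix.of_apply, Matrix.smul_apply, Matrix.one_apply, smul_eq_mul] at h1 h2
    rw [blk_lift, Matrix.diagonal_apply]
    split_ifs with hxy
    · rw [h1, h2, if_pos hxy]; simp
    · rw [h1, if_neg hxy, mul_zero, Matrix.zero_apply]
  have he0 : e ≠ 0 := fun h => hne (by simp [h, cblk, phi])
  -- move it to the first basis vector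
  obtain ⟨x, hx, l, hxe, hl0⟩ := exists_move hh he (frm_aa hd) he0 hA0
  set Y1 := conjMat (sgl (0 : Fin (t + 1)) x) Y with hY1
  have hY1V : Y1 ∈ V := hV.conj 0 x hx _ hY
  have hY1blk : ∀ p q, blk Y1 p q = ∑ u, ∑ v, (x.val p u * (x⁻¹).val v q) • blk Y u v := fun p q => by
    rw [hY1, conjMat_apply, ← map_inv, sgl_coe, sgl_coe, slot_mul_blk]
  have hWY1 : ∀ W : Submodule F (Matrix (Fin t → Fin k) (Fin t → Fin k) F), (∀ x y, blk Y x y ∈ W) →
      ∀ p q, blk Y1 p q ∈ W := fun W hW p q => by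
    rw [hY1blk]
    exact W.sum_mem fun u _ => W.sum_mem fun v _ => W.smul_mem _ (hW u v)
  have hxA : (x⁻¹).val *ᵥ A = l⁻¹ • e := by
    have := congrArg ((x⁻¹).val *ᵥ ·) hxe
    simp only [mulVec_mulVec, ← Units.val_mul, inv_mul_cancel, Units.val_one, one_mulVec, mulVec_smul] at this
    conv_rhs => rw [this, smul_smul, inv_mul_cancel₀ hl0, one_smul]
  set ν := blk Y1 b a with hνdef
  have hν : ν ≠ 0 := by
    have e1 : ν = (σ l⁻¹ * l⁻¹) • cblk (phi σ J e) e Y := by
      rw [hνdef, hY1blk, cblk, Finset.smul_sum]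
      refine Finset.sum_congr rfl fun u _ => ?_
      rw [Finset.smul_sum]
      refine Finset.sum_congr rfl fun v _ => ?_
      have h1 : x.val b u = σ l⁻¹ * phi σ J e u := by
        have h2 : x.val b u = frm σ J (x.val *ᵥ Pi.single u 1) A := by rw [frm_a hd]; simp
        rw [h2, ← inv_inv x, iso_inv_frm (inv_mem hx), hxA, smul_right hh, frm_eq, dotProduct_single, mul_one]
      have h3 : (x⁻¹).val v a = l⁻¹ * e v := by
        have := congrFun hxA v
        simpa [hAdef] using this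
      rw [h1, h3, smul_smul]
      congr 1
      ring
    rw [e1]
    exact smul_ne_zero (mul_ne_zero ((map_ne_zero σ).2 (inv_ne_zero hl0)) (inv_ne_zero hl0)) hne
  obtain ⟨c, hc0, hc⟩ := exists_skew hh
  have hcs := trace_zero_of hh hc
  -- differences by a root
  have hval : ∀ (v : Fin k → F) (hv : frm σ J v v = 0) (d : F),
      (sgl (0 : Fin (t + 1)) (tvU σ J v hv d)).val = 1 + d • S 0 (Nm σ J v) := fun v hv d => by
    rw [sgl_coe, tvU_coe, map_add, map_one, map_smul]
  have hdiff : ∀ (v : Fin k → F) (hv : frm σ J v v = 0) (d : F) (Z : Matrix _ _ F),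
      conjMat (sgl (0 : Fin (t + 1)) (tvU σ J v hv d)) Z - Z =
        d • (S 0 (Nm σ J v) * Z) - d • (Z * S 0 (Nm σ J v)) - (d * d) • (S 0 (Nm σ J v) * Z * S 0 (Nm σ J v)) := by
    intro v hv d Z
    rw [conjMat_apply, ← map_inv, tvU_inv, hval, hval]
    simp only [add_mul, mul_add, one_mul, mul_one, smul_mul_assoc, mul_smul_comm, smul_smul, neg_smul, mul_neg, neg_mul,
      smul_neg, neg_neg]
    module
  have hVdiff : ∀ (v : Fin k → F) (hv : frm σ J v v = 0) (d : F), d + σ d = 0 → ∀ Z ∈ V,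
      conjMat (sgl (0 : Fin (t + 1)) (tvU σ J v hv d)) Z - Z ∈ V :=
    fun v hv d hd' Z hZ => V.sub_mem (hV.conj 0 _ (tvU_mem hh v hv hd') _ hZ) hZ
  by_cases h4 : 4 ≤ k
  swap
  · obtain ⟨m, hm0, hm⟩ := hbig.resolve_left h4
    set n := m * σ m with hn
    have hn0 : n ≠ 0 := mul_ne_zero hm0 ((map_ne_zero σ).2 hm0)
    have hnσ : σ n = n := by rw [hn, map_mul, hh.inv, mul_comm]
    have h1 := V.sub_mem (hV.norm m _ (hVdiff A (frm_aa hd) c hcs _ hY1V))
      (hVdiff A (frm_aa hd) (n * c) (by rw [map_mul, hnσ, ← mul_add, hcs, mul_zero]) _ hY1V)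
    rw [hdiff, hdiff, ← hn] at h1
    refine ⟨((n * n - n) * (c * c)) • ν, smul_ne_zero (mul_ne_zero ?_ (mul_ne_zero hc0 hc0)) hν, ?_, fun W hW =>
      W.smul_mem _ (hWY1 W hW _ _)⟩
    · rw [← mul_sub_one]; exact mul_ne_zero hn0 (sub_ne_zero.2 hm)
    · have e1 : S 0 (Nm σ J A) * Y1 * S 0 (Nm σ J A) = S 0 (Matrix.single a b (1 : F)) * lift ν := by
        rw [sandwich, ← Nm, Nm_a hd, phi_a hd, cblk_single]
      rw [map_smul, mul_smul_comm, ← e1]
      convert h1 using 1
      module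
  have hνc : cblk (phi σ J A) A Y1 = ν := by rw [hAdef, phi_a hd, cblk_single]
  obtain ⟨f, hff, hfA, hfn, hν1⟩ : ∃ f, frm σ J f f = 0 ∧ frm σ J f A = 0 ∧ f ∉ Submodule.span F {A} ∧
      cblk (phi σ J A) f Y1 ≠ 0 := by
    by_contra hcon
    push Not at hcon
    let T : Submodule F (Fin k → F) :=
      { carrier := {z | cblk (phi σ J A) z Y1 = 0}
        zero_mem' := by simp [cblk]
        add_mem' := fun {p q} (hp : _ = _) (hq : _ = _) => by
          have h1 := (cblk_lin (phi σ J A) (phi σ J A) p q 1 Y1).2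
          rw [one_smul, one_smul, hp, hq, add_zero] at h1
          exact h1
        smul_mem' := fun r p (hp : _ = _) => by
          have h1 := (cblk_lin (phi σ J A) (phi σ J A) 0 p r Y1).2
          rw [zero_add, hp, smul_zero, add_zero] at h1
          show cblk _ (r • p) Y1 = 0
          rw [h1]
          simp [cblk] }
    have h2 : A ∈ T := span_perp hh (by rwa [Fintype.card_fin]) hA0 (frm_aa hd) (T := T)
      (fun w hw hwA hwn => hcon w hw hwA hwn) (show frm σ J A A = 0 from frm_aa hd)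
    exact hν (hνc ▸ h2)
  set ν1 := cblk (phi σ J A) f Y1 with hν1def
  set ν2 := cblk (phi σ J f) A Y1 with hν2def
  -- the middle part of the vector
  have hfb : f b = 0 := by rw [← frm_a hd f]; exact hfA
  have hAf : frm σ J A f = 0 := comm_zero hh hfA
  have hg : f - f a • A ∈ mid F a b := mem_mid.2 ⟨by simp [hAdef], by simp [hAdef, hfb, hd.hab.symm]⟩
  obtain ⟨y, hy, hgy⟩ : ∃ y ∈ mid F a b, frm σ J (f - f a • A) y ≠ 0 := by
    by_contra hcon
    push Not at hcon
    refine hfn (Submodule.mem_span_singleton.2 ⟨f a, ?_⟩)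
    exact (sub_eq_zero.1 (mid_nondeg hd _ hg hcon)).symm
  have hmidA : ∀ z ∈ mid F a b, frm σ J A z = 0 ∧ frm σ J z (Pi.single b 1) = 0 := fun z hz => by
    obtain ⟨hza, hzb⟩ := mem_mid.1 hz
    exact ⟨comm_zero hh (by rw [hAdef, frm_a hd, hzb]), by rw [frm_b hd, hza]⟩
  have hggz : frm σ J (f - f a • A) (f - f a • A) = 0 := by
    simp only [sub_left hh, sub_right hh, hh.smul, smul_right hh, hff, hfA, hAf, show frm σ J A A = 0 from frm_aa hd,
      mul_zero, sub_zero]
  have hfy : frm σ J f y = frm σ J (f - f a • A) y := by rw [sub_left hh, hh.smul, (hmidA y hy).1, mul_zero, sub_zero]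
  obtain ⟨G, hG, hGG, hfG⟩ : ∃ G ∈ mid F a b, frm σ J G G = 0 ∧ frm σ J f G = 1 := by
    set y' := (σ (frm σ J (f - f a • A) y))⁻¹ • y with hy'
    have h1 : frm σ J (f - f a • A) y' = 1 := by rw [hy', smul_right hh, map_inv₀, hh.inv, inv_mul_cancel₀ hgy]
    obtain ⟨r, hr⟩ := exists_trace_eq hh (self_fixed hh y')
    refine ⟨y' + r • (f - f a • A), (mid F a b).add_mem ((mid F a b).smul_mem _ hy) ((mid F a b).smul_mem _ hg), ?_, ?_⟩
    · simp only [hh.add, add_right hh, hh.smul, smul_right hh, hggz, h1,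
        show frm σ J y' (f - f a • A) = 1 by rw [hh.herm, h1, map_one]]
      linear_combination hr
    · rw [add_right hh]
      have h2 : frm σ J f y' = 1 := by
        rw [← h1, sub_left hh, hh.smul, (hmidA y' ((mid F a b).smul_mem _ hy)).1, mul_zero, sub_zero]
      have h3 : frm σ J f (r • (f - f a • A)) = 0 := by
        rw [smul_right hh, sub_right hh, smul_right hh, hff, hfA]; ring
      rw [h2, h3, add_zero]
  obtain ⟨hAG, hGb⟩ := hmidA G hG
  have hGf : frm σ J G f = 1 := by rw [hh.herm, hfG, map_one]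
  set E := Pi.single b (1 : F) + (-σ (frm σ J f (Pi.single b 1))) • G with hE
  have hbG : frm σ J (Pi.single b 1) G = 0 := comm_zero hh hGb
  have hEE : frm σ J E E = 0 := by
    simp only [hE, hh.add, add_right hh, hh.smul, smul_right hh, frm_bb hd, hbG, hGb, hGG]; ring
  have hAE : frm σ J A E = 1 := by
    simp only [hE, add_right hh, smul_right hh, hAG, show frm σ J A (Pi.single b 1) = 1 from frm_ab hd]; ring
  have hEA : frm σ J E A = 1 := by rw [hh.herm, hAE, map_one]
  have hfE : frm σ J f E = 0 := by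
    simp only [hE, add_right hh, smul_right hh, hfG, map_neg, hh.inv]; ring
  have hEf : frm σ J E f = 0 := comm_zero hh hfE
  have hGE : frm σ J G E = 0 := by
    simp only [hE, add_right hh, smul_right hh, hGb, hGG]; ring
  have hGA : frm σ J G A = 0 := comm_zero hh hAG
  -- second differences
  have hT : ∀ (p q : Fin k → F), frm σ J p p = 0 → frm σ J q q = 0 → frm σ J p q = 0 → ∀ Z ∈ V,
      S 0 (Nm σ J p) * Z * S 0 (Nm σ J q) + S 0 (Nm σ J q) * Z * S 0 (Nm σ J p) ∈ V := by
    intro p q hp hq hpq Z hZ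
    have h1 := hVdiff p hp c hcs _ (hVdiff q hq c hcs _ hZ)
    rw [hdiff, hdiff] at h1
    set P := S (0 : Fin (t + 1)) (Nm σ J p)
    set Q := S (0 : Fin (t + 1)) (Nm σ J q)
    have hPQ : P * Q = 0 := by
      rw [← map_mul, Nm, Nm, vecMulVec_mul_vecMulVec, ← frm_eq, comm_zero hh hpq, zero_smul, vecMulVec_zero, map_zero]
    have hQP : Q * P = 0 := by
      rw [← map_mul, Nm, Nm, vecMulVec_mul_vecMulVec, ← frm_eq, hpq, zero_smul, vecMulVec_zero, map_zero]
    have h3 := hV.norm c⁻¹ _ h1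
    convert h3 using 1
    have e1 : ∀ X : Matrix (Fin (t + 1) → Fin k) (Fin (t + 1) → Fin k) F, X * P * Q = 0 := fun X => by
      rw [mul_assoc, hPQ, mul_zero]
    have e2 : ∀ X : Matrix (Fin (t + 1) → Fin k) (Fin (t + 1) → Fin k) F, X * Q * P = 0 := fun X => by
      rw [mul_assoc, hQP, mul_zero]
    simp only [mul_sub, sub_mul, smul_sub, mul_smul_comm, smul_mul_assoc, smul_smul, ← mul_assoc, hPQ, hQP, e1, e2,
      zero_mul, smul_zero, sub_zero, zero_sub, neg_mul, mul_neg, smul_neg, map_inv₀, hc, neg_zero]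
    match_scalars <;> field_simp
  set Z := S 0 (Nm σ J A) * Y1 * S 0 (Nm σ J f) + S 0 (Nm σ J f) * Y1 * S 0 (Nm σ J A) with hZdef
  have hZ : Z ∈ V := hT A f (frm_aa hd) hff hAf _ hY1V
  have hZc : ∀ p q, cblk (phi σ J p) q Z =
      (frm σ J A p * frm σ J q f) • ν1 + (frm σ J f p * frm σ J q A) • ν2 := fun p q => by
    rw [hZdef, cblk_add, sandwich, sandwich, cblk_S0_lift, cblk_S0_lift, vecMulVec_mulVec, vecMulVec_mulVec,
      op_smul_eq_smul, op_smul_eq_smul, dotProduct_smul, dotProduct_smul, ← frm_eq, ← frm_eq, ← frm_eq, ← frm_eq,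
      smul_eq_mul, smul_eq_mul]
    simp only [← hν1def, ← hν2def]
    module
  have hT2 : ∀ lam : F, S 0 (vecMulVec E (phi σ J (G + lam • E))) * lift ν1 +
      S 0 (vecMulVec (G + lam • E) (phi σ J E)) * lift ν2 ∈ V := by
    intro lam
    have h1 := hT E (G + lam • E) hEE (by
      simp only [hh.add, add_right hh, hh.smul, smul_right hh, hGG, hGE, comm_zero hh hGE, hEE]; ring) (by
      simp only [add_right hh, smul_right hh, comm_zero hh hGE, hEE]; ring) _ hZ
    rw [sandwich, sandwich, hZc, hZc] at h1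
    simp only [hh.add, hh.smul, add_right hh, smul_right hh, hAE, hGf, hEf, hfE, hfG, hEA, hAG, hGA, mul_zero,
      add_zero, zero_mul, mul_one, zero_smul, one_smul, one_mul, zero_add] at h1
    exact h1
  have hlam : ∀ lam : F, S 0 (Nm σ J E) * lift (σ lam • ν1 + lam • ν2) ∈ V := fun lam => by
    have h1 := V.sub_mem (hT2 lam) (hT2 0)
    convert h1 using 1
    simp only [zero_smul, add_zero, phi_add' hh, phi_smul, vecMulVec_add, add_vecMulVec, smul_vecMulVec,
      vecMulVec_smul, map_add, map_smul, add_mul, smul_mul_assoc, mul_add, mul_smul_comm, show vecMulVec E (phi σ J E) = Nm σ J E from rfl]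
    abel
  obtain ⟨θ, hθ⟩ : ∃ θ : F, σ θ ≠ θ := by
    by_contra hcc
    push Not at hcc
    exact hh.ne_id (RingHom.ext hcc)
  obtain ⟨lam, hlamne⟩ : ∃ lam : F, σ lam • ν1 + lam • ν2 ≠ 0 := by
    by_contra hcc
    push Not at hcc
    have e1 := hcc 1
    rw [map_one, one_smul, one_smul] at e1
    have e2 := hcc θ
    rw [eq_neg_of_add_eq_zero_right e1, smul_neg, ← sub_eq_add_neg, ← sub_smul] at e2
    exact hν1 ((smul_eq_zero.1 e2).resolve_left (sub_ne_zero.2 hθ))
  have hE0 : E ≠ 0 := fun h => by rw [h, zero_left hh] at hEA; exact zero_ne_one hEA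
  obtain ⟨x', hx', l', hxE, hl'0⟩ := exists_move hh hEE (frm_aa hd) hE0 hA0
  refine ⟨(l' * σ l') • (σ lam • ν1 + lam • ν2),
    smul_ne_zero (mul_ne_zero hl'0 ((map_ne_zero σ).2 hl'0)) hlamne, ?_, fun W hW =>
    W.smul_mem _ (W.add_mem (W.smul_mem _ (cblk_mem (hWY1 W hW))) (W.smul_mem _ (cblk_mem (hWY1 W hW))))⟩
  have h1 := hV.conj 0 x' hx' _ (hlam lam)
  rw [map_mul (conjMat _), show conjMat (sgl (0 : Fin (t + 1)) x') (S 0 (Nm σ J E)) = S 0 (Nm σ J (x'.val *ᵥ E)) by
      rw [conjMat_apply, ← map_inv, sgl_coe, sgl_coe, ← map_mul, ← map_mul, ← conjMat_apply, conj_Nm hx'],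
    show conjMat (sgl (0 : Fin (t + 1)) x') (lift (σ lam • ν1 + lam • ν2)) = lift (σ lam • ν1 + lam • ν2) from
      (conjMat_eq_iff_mul ..).2 (by rw [sgl_coe]; exact S0_lift_comm _ _),
    hxE, Nm_smul, map_smul, smul_mul_assoc, show Nm σ J A = Matrix.single a b 1 from Nm_a hd] at h1
  rwa [map_smul, mul_smul_comm]

end Cfsg.Agent.TensorWreath.Un
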