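import Cfsg.Agent.Lib.Forms.Max.TensorWreath.Unitary.Pair

/-!
# The block diagonal part of an element preserving a slice
-/

set_option autoImplicit false
set_option linter.unusedSectionVars false

namespace Cfsg.Agent.TensorWreath.Un

open Matrix Cfsg.Agent.Aschbacher Cfsg.Agent.Forms.Max Cfsg.Agent.Forms.Max.UnitaryInLinear Cfsg.Agent.Forms.Max.HermTools

variable {F : Type*} [Field F] {k t : ℕ} {σ : F →+* F} {J : Matrix (Fin k) (Fin k) F} {a b : Fin k}

theorem blk_conj_gram (M : Matrix (Fin (t + 1) → Fin k) (Fin (t + 1) → Fin k) F) (x y : Fin k) :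
    blk (Mᵀ * gram (t + 1) J * M.map σ) x y =
      ∑ p, ∑ q, J p q • ((blk M p x)ᵀ * gram t J * (blk M q y).map σ) := by
  rw [map_mul, map_mul, Matrix.mul_apply, Finset.sum_comm]
  refine Finset.sum_congr rfl fun q _ => ?_
  rw [Matrix.mul_apply, Finset.sum_mul]
  refine Finset.sum_congr rfl fun p _ => ?_
  rw [blk_transpose, blk_map, blk_gram, mul_smul_comm, smul_mul_assoc]

theorem J_eq (p q : Fin k) : J p q = frm σ J (Pi.single p 1) (Pi.single q 1) := by
  simp [frm, Cfsg.Geo.formOfGram, Pi.single_apply, apply_ite σ]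

theorem J_row (hd : Hyp σ J a b) :
    (∀ q, J a q = if q = b then 1 else 0) ∧ (∀ q, J b q = if q = a then 1 else 0) := by
  refine ⟨fun q => ?_, fun q => ?_⟩
  · rw [J_eq (σ := σ) (J := J) a q, hd.herm.herm, ← J_eq, hd.ja, apply_ite σ, map_one, map_zero]
  · rw [J_eq (σ := σ) (J := J) b q, hd.herm.herm, ← J_eq, hd.jb, apply_ite σ, map_one, map_zero]

theorem gram_entry (hd : Hyp σ J a b) : gram t J (fun _ => a) (fun _ => b) = 1 := by
  rw [gram, pureTensor_apply]
  exact Finset.prod_eq_one fun _ _ => by rw [hd.jb, if_pos rfl]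

theorem gram_unit [Finite F] (hd : Hyp σ J a b) : IsUnit (gram t J) := by
  have hJ : IsUnit J := by
    rw [← Matrix.mulVec_injective_iff_isUnit]
    refine (injective_iff_map_eq_zero J.mulVecLin).2 fun z (hz : J *ᵥ z = 0) => ?_
    have e : (fun p => σ (z p)) = 0 := by
      refine hd.herm.nd _ fun x => ?_
      rw [hd.herm.herm]
      simp only [frm]
      rw [formOfGram_dot]
      have : (fun i => σ (σ (z i))) = z := funext fun i => hd.herm.inv _
      rw [this, hz, dotProduct_zero, map_zero]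
    funext p
    have := congrFun e p
    simpa using this
  have h : IsUnit (fun _ : Fin t => hJ.unit.val) := ⟨MulEquiv.piUnits.symm fun _ => hJ.unit, rfl⟩
  exact h.map pureTensor

variable {G G' : Subgroup (GL (Fin (t + 1) → Fin k) F)} {g : GL (Fin (t + 1) → Fin k) F} [Finite F]

theorem PairU.coeff (hd : Hyp σ J a b) (h : PairU σ J a b G G' g) : ∃ D D' : Matrix (Fin k) (Fin k) F,
    D * D' = 1 ∧ Levi a b D ∧ Levi a b D' ∧ D a a = 1 ∧ D' a a = 1 ∧
    (∀ x y, ((x = a ∧ y = a) ∨ (x = b ∧ y = b) ∨ (x ≠ a ∧ x ≠ b ∧ y ≠ a ∧ y ≠ b)) →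
      blk g.val x y = D x y • blk g.val a a ∧ blk (g⁻¹).val x y = D' x y • blk (g⁻¹).val a a) := by
  classical
  haveI : Nonempty (Fin t → Fin k) := ⟨fun _ => a⟩
  obtain ⟨h1, h2, h3, -, hc, hr⟩ := h.inv_facts
  obtain ⟨hm', ⟨c', hb'⟩⟩ := h.inv_block hd
  obtain ⟨hm, ⟨c, hb⟩⟩ := h.symm.inv_block hd
  rw [inv_inv] at hm hb
  choose! χ hχ using hm
  choose! χ' hχ' using hm'
  let mk : (Fin k → Fin k → F) → F → Matrix (Fin k) (Fin k) F := fun χ c => Matrix.of fun x y =>
    if x = a then (if y = a then 1 else 0) else if x = b then (if y = b then c else 0) else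
      if y = a then 0 else if y = b then 0 else χ x y
  have hba := hd.hab.symm
  have haa : ∀ χ c, mk χ c a a = 1 := fun χ c => by simp [mk]
  have hbb : ∀ χ c, mk χ c b b = c := fun χ c => by simp [mk, hba]
  have hlevi : ∀ χ c, Levi a b (mk χ c) := fun χ c =>
    ⟨fun x hx => by simp [mk, hx, hd.hab], fun y hy => by simp [mk, hy],
      fun x hx => by simp [mk, hx, hba], fun y hy => by simp [mk, hba, hy]⟩
  have hmid : ∀ χ c x y, x ≠ a → x ≠ b → y ≠ a → y ≠ b → mk χ c x y = χ x y := fun χ c x y h1 h2 h3 h4 => by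
    simp [mk, h1, h2, h3, h4]
  have hval : ∀ x y, ((x = a ∧ y = a) ∨ (x = b ∧ y = b) ∨ (x ≠ a ∧ x ≠ b ∧ y ≠ a ∧ y ≠ b)) →
      blk g.val x y = mk χ c x y • blk g.val a a ∧ blk (g⁻¹).val x y = mk χ' c' x y • blk (g⁻¹).val a a := by
    rintro x y (⟨rfl, rfl⟩ | ⟨rfl, rfl⟩ | ⟨hxa, hxb, hya, hyb⟩)
    · rw [haa, haa, one_smul, one_smul]; exact ⟨rfl, rfl⟩
    · rw [hbb, hbb]; exact ⟨hb, hb'⟩
    · rw [hmid _ _ _ _ hxa hxb hya hyb, hmid _ _ _ _ hxa hxb hya hyb]
      exact ⟨hχ x y hxa hxb hya hyb, hχ' x y hxa hxb hya hyb⟩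
  refine ⟨mk χ c, mk χ' c', ?_, hlevi _ _, hlevi _ _, haa _ _, haa _ _, hval⟩
  have e' : ∀ x y, ∑ p, blk g.val x p * blk (g⁻¹).val p y =
      (1 : Matrix (Fin k) (Fin k) (Matrix (Fin t → Fin k) (Fin t → Fin k) F)) x y := fun x y => by
    rw [← Matrix.mul_apply, ← map_mul, ← Units.val_mul, mul_inv_cancel, Units.val_one, map_one]
  have hone : ∀ x y, ((1 : Matrix (Fin k) (Fin k) (Matrix (Fin t → Fin k) (Fin t → Fin k) F)) x y) =
      (1 : Matrix (Fin k) (Fin k) F) x y • 1 := fun x y => by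
    rw [Matrix.one_apply, Matrix.one_apply]; split_ifs <;> simp
  have hLD := hlevi χ c
  have hLD' := hlevi χ' c'
  ext x y
  rw [Matrix.mul_apply]
  by_cases hxy : (x = a ∧ y = a) ∨ (x = b ∧ y = b) ∨ (x ≠ a ∧ x ≠ b ∧ y ≠ a ∧ y ≠ b)
  · have hterm : ∀ p, blk g.val x p * blk (g⁻¹).val p y = (mk χ c x p * mk χ' c' p y) • 1 := by
      intro p
      rcases hxy with ⟨rfl, rfl⟩ | ⟨rfl, rfl⟩ | ⟨hxa, hxb, hya, hyb⟩
      · rcases eq_or_ne p y with rfl | hp
        · rw [haa, haa, mul_one, one_smul, h2]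
        · rw [hc p hp, mul_zero, hLD.rowA p hp, zero_mul, zero_smul]
      · rcases eq_or_ne p y with rfl | hp
        · rw [(hval p p (Or.inr (Or.inl ⟨rfl, rfl⟩))).1, (hval p p (Or.inr (Or.inl ⟨rfl, rfl⟩))).2, smul_mul_smul_comm, h2]
        · rw [h.row p hp, zero_mul, hLD.rowB p hp, zero_mul, zero_smul]
      · rcases eq_or_ne p a with rfl | hpa
        · rw [h.col x hxa, zero_mul, hLD.colA x hxa, zero_mul, zero_smul]
        rcases eq_or_ne p b with rfl | hpb
        · rw [hr y hyb, mul_zero, hLD'.rowB y hyb, mul_zero, zero_smul]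
        rw [(hval x p (Or.inr (Or.inr ⟨hxa, hxb, hpa, hpb⟩))).1, (hval p y (Or.inr (Or.inr ⟨hpa, hpb, hya, hyb⟩))).2,
          smul_mul_smul_comm, h2]
    have := e' x y
    rw [Finset.sum_congr rfl fun p _ => hterm p, ← Finset.sum_smul, hone] at this
    exact smul_left_injective F (one_ne_zero (α := Matrix (Fin t → Fin k) (Fin t → Fin k) F)) this
  · have hne : x ≠ y := by
      rintro rfl
      refine hxy ?_
      by_cases h1 : x = a
      · exact Or.inl ⟨h1, h1⟩
      by_cases h2 : x = b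
      · exact Or.inr (Or.inl ⟨h2, h2⟩)
      exact Or.inr (Or.inr ⟨h1, h2, h1, h2⟩)
    rw [Matrix.one_apply_ne hne]
    refine Finset.sum_eq_zero fun p _ => ?_
    push Not at hxy
    rcases eq_or_ne x a with rfl | hxa
    · rcases eq_or_ne p x with rfl | hp
      · rw [hLD'.rowA y (hxy.1 rfl), mul_zero]
      · rw [hLD.rowA p hp, zero_mul]
    rcases eq_or_ne x b with rfl | hxb
    · rcases eq_or_ne p x with rfl | hp
      · rw [hLD'.rowB y (hxy.2.1 rfl), mul_zero]
      · rw [hLD.rowB p hp, zero_mul]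
    rcases eq_or_ne y a with rfl | hya
    · rcases eq_or_ne p y with rfl | hp
      · rw [hLD.colA x hxa, zero_mul]
      · rw [hLD'.colA p hp, mul_zero]
    have hyb := hxy.2.2 hxa hxb hya
    subst hyb
    rcases eq_or_ne p y with rfl | hp
    · rw [hLD.colB x hxb, zero_mul]
    · rw [hLD'.colB p hp, mul_zero]

/-- the diagonal part is a similitude -/
theorem PairU.similitude (hd : Hyp σ J a b) (h : PairU σ J a b G G' g) {D : Matrix (Fin k) (Fin k) F}
    (hL : Levi a b D) (hDa : D a a = 1)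
    (hD : ∀ x y, ((x = a ∧ y = a) ∨ (x = b ∧ y = b) ∨ (x ≠ a ∧ x ≠ b ∧ y ≠ a ∧ y ≠ b)) →
      blk g.val x y = D x y • blk g.val a a) :
    ∃ c : F, c ≠ 0 ∧ Dᵀ * J * D.map σ = c • J ∧
      c • ((blk g.val a a)ᵀ * gram t J * (blk g.val a a).map σ) = gram t J := by
  obtain ⟨hJa, hJb⟩ := J_row hd
  set w := blk g.val a a with hw
  set W := wᵀ * gram t J * w.map σ with hW
  have hbb : blk g.val b b = D b b • w := hD b b (Or.inr (Or.inl ⟨rfl, rfl⟩))
  have hgne : gram t J ≠ 0 := fun e => by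
    have := gram_entry (t := t) hd
    rw [e, Matrix.zero_apply] at this
    exact zero_ne_one this
  have hterm : ∀ (c d : F), (c • w)ᵀ * gram t J * (d • w).map σ = (c * σ d) • W := fun c d => by
    rw [transpose_smul, Matrix.map_smul' _ _ _ (map_mul σ), smul_mul_assoc, smul_mul_assoc, mul_smul_comm, smul_smul]
  have eab := iso_blk h.iso a b
  rw [Finset.sum_eq_single_of_mem a (Finset.mem_univ a) fun p _ hp => Finset.sum_eq_zero fun q _ => by
      rw [h.col p hp, transpose_zero, zero_mul, zero_mul, smul_zero],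
    Finset.sum_eq_single_of_mem b (Finset.mem_univ b) fun q _ hq => by rw [hJa, if_neg hq, zero_smul],
    hJa, if_pos rfl, one_smul, one_smul, ← hw, hbb, show wᵀ = ((1 : F) • w)ᵀ by rw [one_smul], hterm, one_mul] at eab
  have eba := iso_blk h.iso b a
  rw [Finset.sum_comm, Finset.sum_eq_single_of_mem a (Finset.mem_univ a) fun q _ hq => Finset.sum_eq_zero fun p _ => by
      rw [h.col q hq, Matrix.map_zero _ (map_zero σ), mul_zero, smul_zero],
    Finset.sum_eq_single_of_mem b (Finset.mem_univ b) fun p _ hp => by rw [hd.ja, if_neg hp, zero_smul],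
    hJb, if_pos rfl, one_smul, one_smul, ← hw, hbb, show w.map σ = ((1 : F) • w).map σ by rw [one_smul], hterm, map_one,
    mul_one] at eba
  have hWne : W ≠ 0 := fun e => hgne (by rw [← eab, e, smul_zero])
  have hreal : σ (D b b) = D b b := smul_left_injective F hWne (eab.trans eba.symm)
  have hc0 : D b b ≠ 0 := fun e => hgne (by rw [← eba, e, zero_smul])
  refine ⟨D b b, hc0, ?_, eba⟩
  ext x y
  rw [Matrix.smul_apply, smul_eq_mul]
  have hsum : (Dᵀ * J * D.map σ) x y = ∑ q, ∑ p, D p x * J p q * σ (D q y) := by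
    rw [Matrix.mul_apply]
    refine Finset.sum_congr rfl fun q _ => ?_
    rw [Matrix.mul_apply, Finset.sum_mul]
    rfl
  rw [hsum]
  rcases eq_or_ne x a with rfl | hxa
  · rw [Finset.sum_comm, Finset.sum_eq_single_of_mem x (Finset.mem_univ x) fun p _ hp =>
      Finset.sum_eq_zero fun q _ => by rw [hL.colA p hp, zero_mul, zero_mul],
      Finset.sum_eq_single_of_mem b (Finset.mem_univ b) fun q _ hq => by rw [hJa, if_neg hq, mul_zero, zero_mul],
      hJa, if_pos rfl, hDa, one_mul, hJa]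
    rcases eq_or_ne y b with rfl | hyb
    · rw [if_pos rfl, one_mul, hreal, mul_one]
    · rw [hL.rowB y hyb, map_zero, mul_zero, if_neg hyb, mul_zero]
  rcases eq_or_ne x b with rfl | hxb
  · rw [Finset.sum_comm, Finset.sum_eq_single_of_mem x (Finset.mem_univ x) fun p _ hp =>
      Finset.sum_eq_zero fun q _ => by rw [hL.colB p hp, zero_mul, zero_mul],
      Finset.sum_eq_single_of_mem a (Finset.mem_univ a) fun q _ hq => by rw [hJb, if_neg hq, mul_zero, zero_mul],
      hJb, if_pos rfl, hJb]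
    rcases eq_or_ne y a with rfl | hya
    · rw [if_pos rfl, hDa, map_one, mul_one, mul_one]
    · rw [hL.rowA y hya, map_zero, mul_zero, if_neg hya, mul_zero]
  have hJxa : J x a = 0 := by rw [hd.ja, if_neg hxb]
  have hJxb : J x b = 0 := by rw [hd.jb, if_neg hxa]
  rcases eq_or_ne y a with rfl | hya
  · rw [hJxa, mul_zero, Finset.sum_eq_single_of_mem y (Finset.mem_univ y) fun q _ hq => Finset.sum_eq_zero fun p _ => by
      rw [hL.colA q hq, map_zero, mul_zero]]
    refine Finset.sum_eq_zero fun p _ => ?_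
    rw [hd.ja]
    split_ifs with hp
    · rw [hp, hL.rowB x hxb, zero_mul, zero_mul]
    · rw [mul_zero, zero_mul]
  rcases eq_or_ne y b with rfl | hyb
  · rw [hJxb, mul_zero, Finset.sum_eq_single_of_mem y (Finset.mem_univ y) fun q _ hq => Finset.sum_eq_zero fun p _ => by
      rw [hL.colB q hq, map_zero, mul_zero]]
    refine Finset.sum_eq_zero fun p _ => ?_
    rw [hd.jb]
    split_ifs with hp
    · rw [hp, hL.rowA x hxa, zero_mul, zero_mul]
    · rw [mul_zero, zero_mul]
  have e := iso_blk h.iso x y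
  have hterms : ∀ p q, J p q • ((blk g.val p x)ᵀ * gram t J * (blk g.val q y).map σ) =
      (D p x * J p q * σ (D q y)) • W := by
    intro p q
    rcases eq_or_ne p a with rfl | hpa
    · rw [hJa, hL.rowA x hxa]
      split_ifs with hq
      · rw [hq, h.row y hyb, Matrix.map_zero _ (map_zero σ), mul_zero, smul_zero, zero_mul, zero_mul, zero_smul]
      · rw [zero_smul, zero_mul, zero_mul, zero_smul]
    rcases eq_or_ne p b with rfl | hpb
    · rw [h.row x hxb, transpose_zero, zero_mul, zero_mul, smul_zero, hL.rowB x hxb, zero_mul, zero_mul, zero_smul]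
    rcases eq_or_ne q a with rfl | hqa
    · rw [hd.ja, if_neg hpb, zero_smul, mul_zero, zero_mul, zero_smul]
    rcases eq_or_ne q b with rfl | hqb
    · rw [hd.jb, if_neg hpa, zero_smul, mul_zero, zero_mul, zero_smul]
    rw [hD p x (Or.inr (Or.inr ⟨hpa, hpb, hxa, hxb⟩)), hD q y (Or.inr (Or.inr ⟨hqa, hqb, hya, hyb⟩)), hterm, smul_smul,
      mul_left_comm, mul_assoc]
  simp only [hterms, ← Finset.sum_smul] at e
  rw [Finset.sum_comm] at e
  refine smul_left_injective F hWne (e.trans ?_)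
  show J x y • gram t J = (D b b * J x y) • W
  rw [← eba, smul_smul, mul_comm]

end Cfsg.Agent.TensorWreath.Un
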