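import Cfsg.Agent.Lib.Forms.Max.TensorWreath.Unitary.Roots
import Cfsg.Agent.Lib.Forms.Max.TensorWreath.Unitary.Corner

/-!
# Conjugates of transvection groups inside the wreath group come from the wreath group
-/

set_option autoImplicit false
set_option linter.unusedSectionVars false

namespace Cfsg.Agent.TensorWreath.Un

open Matrix Cfsg.Agent.Aschbacher Cfsg.Agent.Forms.Max Cfsg.Agent.Forms.Max.UnitaryInLinear Cfsg.Agent.Forms.Max.HermTools

variable {F : Type*} [Field F] [Fintype F] {k t : ℕ} {σ : F →+* F} {J : Matrix (Fin k) (Fin k) F} {a b : Fin k}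

/-- tame overgroups lie in the wreath group -/
def LevelU (σ : F →+* F) (J : Matrix (Fin k) (Fin k) F) (a b : Fin k) (t : ℕ) : Prop :=
  ∀ G : Subgroup (GL (Fin (t + 1) → Fin k) F), BaseU σ J G → G ≤ Iso σ J (t + 1) → TameU σ J a b G →
    G ≤ Wr F k (t + 1)

theorem levelU_zero : LevelU σ J a b 0 := by
  intro G _ _ _ g _
  classical
  let A : Matrix (Fin k) (Fin k) F := Matrix.of fun i j => g.val (fun _ => i) fun _ => j
  let B : Matrix (Fin k) (Fin k) F := Matrix.of fun i j => (g⁻¹).val (fun _ => i) fun _ => j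
  have hmul : ∀ (u v : GL (Fin 1 → Fin k) F) (i j : Fin k),
      ((u * v : GL (Fin 1 → Fin k) F)).val (fun _ => i) (fun _ => j) =
        ∑ l, u.val (fun _ => i) (fun _ => l) * v.val (fun _ => l) (fun _ => j) := by
    intro u v i j
    rw [Units.val_mul, Matrix.mul_apply]
    exact Fintype.sum_equiv (Equiv.funUnique (Fin 1) (Fin k)) _ _ fun z => by
      have e : (fun _ : Fin 1 => z default) = z := funext fun l => congrArg z (Subsingleton.elim _ _)
      simp only [Equiv.funUnique_apply, e]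
  have h1 : ∀ u v : GL (Fin 1 → Fin k) F, u * v = 1 → Matrix.of (fun i j => u.val (fun _ => i) fun _ => j) *
      Matrix.of (fun i j => v.val (fun _ => i) fun _ => j) = (1 : Matrix (Fin k) (Fin k) F) := by
    intro u v huv
    ext i j
    rw [Matrix.mul_apply]
    simp only [Matrix.of_apply]
    rw [← hmul, huv, Units.val_one, Matrix.one_apply, Matrix.one_apply]
    exact if_congr ⟨fun h => congrFun h 0, fun h => by rw [h]⟩ rfl rfl
  let c : GL (Fin k) F := ⟨A, B, h1 _ _ (mul_inv_cancel g), h1 _ _ (inv_mul_cancel g)⟩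
  have e : g = pureGL fun _ => c := Units.ext (by
    rw [pureGL_coe]
    ext x y
    rw [pureTensor_apply, Fin.prod_univ_one]
    show g.val x y = g.val (fun _ => x 0) fun _ => y 0
    have hx : (fun _ : Fin 1 => x 0) = x := funext fun l => congrArg x (Subsingleton.elim (α := Fin 1) _ _)
    have hy : (fun _ : Fin 1 => y 0) = y := funext fun l => congrArg y (Subsingleton.elim (α := Fin 1) _ _)
    rw [hx, hy])
  rw [e]
  exact pureGL_mem _

/-- elements preserving the slice are wreath elements -/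
theorem PairU.mem (hd : Hyp σ J a b) (hbig : Big σ k) (IH : LevelU σ J a b t)
    {G G' : Subgroup (GL (Fin (t + 2) → Fin k) F)} {g : GL (Fin (t + 2) → Fin k) F} (hG' : G' ≤ Iso σ J (t + 2))
    (h : PairU σ J a b G G' g) : g ∈ Wr F k (t + 2) := by
  classical
  obtain ⟨h0, w, hg⟩ := h.split hd hbig
  obtain ⟨hJa, hJb⟩ := J_row hd
  set M := h0.valᵀ * J * h0.val.map σ with hM
  set W := w.valᵀ * gram (t + 1) J * w.val.map σ with hW
  have heq : ∀ x y, M x y • W = J x y • gram (t + 1) J := by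
    intro x y
    have h1 := congrArg (fun N => blk N x y) (show g.valᵀ * gram (t + 2) J * g.val.map σ = gram (t + 2) J from h.iso)
    simp only [blk_gram] at h1
    rw [blk_conj_gram] at h1
    simp only [hg, Units.val_mul, sgl_coe, liftW_coe, blk_S0_lift, transpose_smul, Matrix.map_smul' _ _ _ (map_mul σ),
      smul_mul_assoc, mul_smul_comm, smul_smul, ← Finset.sum_smul] at h1
    rw [← h1, hM, hW, Matrix.mul_apply, Finset.sum_comm]
    refine congrArg (· • _) (Finset.sum_congr rfl fun q _ => ?_)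
    rw [Matrix.mul_apply, Finset.sum_mul]
    exact Finset.sum_congr rfl fun p _ => by rw [Matrix.transpose_apply, Matrix.map_apply]; ring
  have hgne : gram (t + 1) J ≠ 0 := fun e => by
    have := gram_entry (t := t + 1) hd
    rw [e, Matrix.zero_apply] at this
    exact zero_ne_one this
  have hab1 : M a b • W = gram (t + 1) J := by rw [heq, hJa, if_pos rfl, one_smul]
  have hba1 : M b a • W = gram (t + 1) J := by rw [heq, hJb, if_pos rfl, one_smul]
  have hW0 : W ≠ 0 := fun e => hgne (by rw [← hab1, e, smul_zero])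
  have hreal : σ (M a b) = M a b := by
    have h1 : M b a = M a b := smul_left_injective F hW0 (hba1.trans hab1.symm)
    have key : ∀ p q, M p q = frm σ J (h0.val *ᵥ Pi.single p 1) (h0.val *ᵥ Pi.single q 1) := fun p q => by
      simp only [frm]
      rw [formOfGram_mul, ← hM]
      simp [Cfsg.Geo.formOfGram, Pi.single_apply, apply_ite σ]
    calc σ (M a b) = M b a := by rw [key, key, ← hd.herm.herm]
      _ = _ := h1
  have hM0 : M a b ≠ 0 := fun e => hgne (by rw [← hab1, e, zero_smul])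
  obtain ⟨r, hr⟩ := Cfsg.Agent.Forms.Bases.exists_norm_eq σ hd.herm.ne_id hd.herm.inv (M a b) hreal
  have hr0 : r ≠ 0 := fun e => hM0 (by rw [← hr, e, mul_zero])
  let sc : GL (Fin (t + 1) → Fin k) F := ⟨r • 1, r⁻¹ • 1, by rw [smul_mul_smul_comm, mul_inv_cancel₀ hr0, one_smul, one_mul],
    by rw [smul_mul_smul_comm, inv_mul_cancel₀ hr0, one_smul, one_mul]⟩
  set w1 := sc * w with hw1
  have hw1v : w1.val = r • w.val := by
    rw [hw1, Units.val_mul]
    show r • (1 : Matrix _ _ F) * w.val = _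
    rw [smul_mul_assoc, one_mul]
  have hsc : sc ∈ Wr F k (t + 1) := by
    let c : GL (Fin k) F := ⟨r • 1, r⁻¹ • 1, by rw [smul_mul_smul_comm, mul_inv_cancel₀ hr0, one_smul, one_mul],
      by rw [smul_mul_smul_comm, inv_mul_cancel₀ hr0, one_smul, one_mul]⟩
    have e : sc = sgl 0 c := Units.ext (by
      rw [sgl_coe]
      show r • (1 : Matrix _ _ F) = S 0 (r • 1)
      rw [map_smul, map_one])
    rw [e]; exact sgl_mem _ _
  have hw1iso : w1 ∈ Iso σ J (t + 1) := by
    rw [mem_Iso, hw1v, transpose_smul, Matrix.map_smul' _ _ _ (map_mul σ), smul_mul_assoc, smul_mul_assoc, mul_smul_comm,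
      smul_smul, ← hW, mul_comm r, hr, hab1]
  have hwr1 : w1 ∈ Wr F k (t + 1) := by
    refine mem_of_conj_roots hd hbig hw1iso fun i s hs => ?_
    have e : w1 * sgl i s * w1⁻¹ = w * sgl i s * w⁻¹ := by
      have hc : ∀ z : GL (Fin (t + 1) → Fin k) F, sc * z = z * sc := fun z => Units.ext (by
        rw [Units.val_mul, Units.val_mul]
        show r • (1 : Matrix _ _ F) * z.val = z.val * r • 1
        rw [smul_mul_assoc, one_mul, mul_smul_comm, mul_one])
      rw [hw1, _root_.mul_inv_rev, show sc * w * sgl i s * (w⁻¹ * sc⁻¹) = sc * (w * sgl i s * w⁻¹) * sc⁻¹ by group, hc,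
        mul_inv_cancel_right]
    rw [e]
    refine IH _ h.base'.comap (comap_iso (fun e => hgne (by
      have : J a b = 0 := by rw [e]; rfl
      rw [hJa, if_pos rfl] at this
      exact absurd this one_ne_zero)) hG') h.tame'.comap ?_
    rw [Subgroup.mem_comap, map_mul, map_mul, map_inv, liftW_sgl]
    have hm := h.maps _ (h.base i.succ s hs)
    have hc0 : sgl (0 : Fin (t + 2)) h0 * (liftW w * sgl i.succ s * (liftW w)⁻¹) * (sgl 0 h0)⁻¹ =
        liftW w * sgl i.succ s * (liftW w)⁻¹ := by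
      rw [mul_inv_eq_iff_eq_mul, ← liftW_sgl, ← map_inv, ← map_mul, ← map_mul]
      exact Units.ext (by simp only [Units.val_mul, sgl_coe, liftW_coe]; exact S0_lift_comm _ _)
    rw [hg] at hm
    have e2 : sgl (0 : Fin (t + 2)) h0 * liftW w * sgl i.succ s * (sgl 0 h0 * liftW w)⁻¹ =
        sgl (0 : Fin (t + 2)) h0 * (liftW w * sgl i.succ s * (liftW w)⁻¹) * (sgl 0 h0)⁻¹ := by group
    rw [e2, hc0] at hm
    exact hm
  have hwr : w ∈ Wr F k (t + 1) := by
    have e : w = sc⁻¹ * w1 := by rw [hw1]; group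
    rw [e]; exact mul_mem (inv_mem hsc) hwr1
  rw [hg]
  exact mul_mem (sgl_mem _ _) (liftW_mem hwr)

/-- a slot transvection is carried to the normal position -/
theorem normalize_root (hd : Hyp σ J a b) (j : Fin (t + 1)) (e : Fin k → F) (he : frm σ J e e = 0) (he0 : e ≠ 0) (c : F)
    (hc : c ≠ 0) : ∃ W ∈ W0 σ J (t + 1), ∃ d : F, d ≠ 0 ∧
      W * sgl j (tvU σ J e he c) * W⁻¹ = sgl 0 (tvU σ J (Pi.single a 1) (frm_aa hd) d) := by
  obtain ⟨h, hh, l, hl, hl0⟩ := exists_move hd.herm he (frm_aa hd) he0 fun e => by simpa using congrFun e a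
  refine ⟨sgl 0 h * permGL (Equiv.swap 0 j), mul_mem (sgl_mem_W0 _ hh) (perm_mem_W0 _), c * (l * σ l),
    mul_ne_zero hc (mul_ne_zero hl0 ((map_ne_zero σ).2 hl0)), Units.ext ?_⟩
  rw [← conjMat_units, sgl_coe, conjMat_mul, conj_perm_S, Equiv.swap_apply_right, sgl_eq, conj_pure_S, sgl_coe,
    Pi.mulSingle_eq_same, tvU_coe, tvU_coe, map_add (conjMat h), map_one, map_smul, conj_Nm hh, hl, Nm_smul, smul_smul]

/-- conjugates of transvection groups inside the wreath group are conjugates by wreath elements -/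
theorem goodU (hd : Hyp σ J a b) (hbig : Big σ k) (IH : LevelU σ J a b t)
    {G : Subgroup (GL (Fin (t + 2) → Fin k) F)} (hB : BaseU σ J G) (hI : G ≤ Iso σ J (t + 2)) (hT : TameU σ J a b G)
    {g : GL (Fin (t + 2) → Fin k) F} (hg : g ∈ G) (j : Fin (t + 2)) (e : Fin k → F) (he : frm σ J e e = 0) (he0 : e ≠ 0)
    (hy : ∀ c : F, c + σ c = 0 → g⁻¹ * sgl j (tvU σ J e he c) * g ∈ Wr F k (t + 2)) : g ∈ Wr F k (t + 2) := by
  classical
  obtain ⟨c, l, f, hf, d, -, hc0, hf0, hd0, e1⟩ :=
    exists_root_conj hd hbig g⁻¹ (inv_mem (hI hg)) j e he he0 fun c hc => by rw [inv_inv]; exact hy c hc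
  rw [inv_inv] at e1
  obtain ⟨Wu, hWu, du, hdu, eu⟩ := normalize_root hd j e he he0 c hc0
  obtain ⟨Wy, hWy, dy, hdy, ey⟩ := normalize_root hd l f hf hf0 d hd0
  obtain ⟨g', hg'⟩ : ∃ g', g' = Wu * g * Wy⁻¹ := ⟨_, rfl⟩
  have hcomm : sgl 0 (tvU σ J (Pi.single a 1) (frm_aa hd) du) * g' =
      g' * sgl 0 (tvU σ J (Pi.single a 1) (frm_aa hd) dy) := by
    rw [← eu, ← ey, ← e1, hg']; group
  have hblk : ∀ (d : F) (x y : Fin k), blk (S (0 : Fin (t + 2)) (d • Matrix.single a b 1) * g'.val) x y =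
      (if x = a then d else 0) • blk g'.val b y ∧
      blk (g'.val * S (0 : Fin (t + 2)) (d • Matrix.single a b 1)) x y =
      (if y = b then d else 0) • blk g'.val x a := by
    intro d x y
    constructor
    · rw [map_mul, blk_S_zero, Matrix.mul_apply, Finset.sum_eq_single_of_mem b (Finset.mem_univ b) fun p _ hp => ?_]
      · rw [Matrix.map_apply, ← Algebra.smul_def, Matrix.smul_apply, Matrix.single_apply]
        simp [eq_comm]
      · rw [Matrix.map_apply, Matrix.smul_apply, Matrix.single_apply, if_neg (fun h => hp h.2.symm), smul_zero, map_zero,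
          zero_mul]
    · rw [map_mul, blk_S_zero, Matrix.mul_apply, Finset.sum_eq_single_of_mem a (Finset.mem_univ a) fun p _ hp => ?_]
      · rw [Matrix.map_apply, ← Algebra.commutes, ← Algebra.smul_def, Matrix.smul_apply, Matrix.single_apply]
        simp [eq_comm]
      · rw [Matrix.map_apply, Matrix.smul_apply, Matrix.single_apply, if_neg (fun h => hp h.1.symm), smul_zero, map_zero,
          mul_zero]
  have hval := congrArg Units.val hcomm
  rw [Units.val_mul, Units.val_mul, sgl_coe, sgl_coe, tvU_coe, tvU_coe, Nm_a hd, map_add, map_add, map_one, add_mul,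
    mul_add, one_mul, mul_one, add_right_inj] at hval
  have hP : PairU σ J a b (conjSub Wy G) (conjSub Wu G) g' := by
    refine ⟨hB.conjSub hWy, hB.conjSub hWu, hT.conjSub hWy, hT.conjSub hWu,
      (by rw [hg']; exact mul_mem (mul_mem (W0_le_iso hWu) (hI hg)) (inv_mem (W0_le_iso hWy))), fun z hz => ?_, fun z hz => ?_,
      fun x hx => ?_, fun y hy => ?_⟩
    · rw [mem_conjSub] at hz ⊢
      have e2 : Wu⁻¹ * (g' * z * g'⁻¹) * Wu = g * (Wy⁻¹ * z * Wy) * g⁻¹ := by rw [hg']; group
      rw [e2]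
      exact mul_mem (mul_mem hg hz) (inv_mem hg)
    · rw [mem_conjSub] at hz ⊢
      have e2 : Wy⁻¹ * (g'⁻¹ * z * g') * Wy = g⁻¹ * (Wu⁻¹ * z * Wu) * g := by rw [hg']; group
      rw [e2]
      exact mul_mem (mul_mem (inv_mem hg) hz) hg
    · have := congrArg (fun M => blk M x b) hval
      simp only [(hblk du x b).1, (hblk dy x b).2, if_neg hx, if_pos, zero_smul] at this
      exact (smul_eq_zero.1 this.symm).resolve_left hdy
    · have := congrArg (fun M => blk M a y) hval
      simp only [(hblk du a y).1, (hblk dy a y).2, if_neg hy, if_pos, zero_smul] at this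
      exact (smul_eq_zero.1 this).resolve_left hdu
  have hmem := hP.mem hd hbig IH (conjSub_iso hI hWu)
  have e2 : g = Wu⁻¹ * g' * Wy := by rw [hg']; group
  rw [e2]
  exact mul_mem (mul_mem (inv_mem (W0_le_wr hWu)) hmem) (W0_le_wr hWy)

end Cfsg.Agent.TensorWreath.Un
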