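import Cfsg.Agent.Lib.Forms.Max.TensorWreath.Unitary.Sums
import Cfsg.Agent.Lib.Forms.Max.TensorWreath.Unitary.Good
import Cfsg.Agent.Lib.Forms.Max.TensorWreath.Contract

/-!
# Tame overgroups of the slot isometries lie in the wreath group
-/

set_option autoImplicit false
set_option linter.unusedSectionVars false

namespace Cfsg.Agent.TensorWreath.Un

open Matrix Cfsg.Agent.Aschbacher Cfsg.Agent.Forms.Max Cfsg.Agent.Forms.Max.UnitaryInLinear Cfsg.Agent.Forms.Max.HermTools

variable {F : Type*} [Field F] [Fintype F] {k t : ℕ} {σ : F →+* F} {J : Matrix (Fin k) (Fin k) F} {a b : Fin k}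

/-- an equivariant extension agrees on the centraliser of a transvection up to the orbit sums -/
theorem err_spec (hd : Hyp σ J a b) (hbig : Big σ k) (IH : LevelU σ J a b t)
    {G : Subgroup (GL (Fin (t + 2) → Fin k) F)} (hB : BaseU σ J G) (hI : G ≤ Iso σ J (t + 2)) (hT : TameU σ J a b G) :
    ∃ ρ : Matrix (Fin (t + 2) → Fin k) (Fin (t + 2) → Fin k) F →ₗ[F] Matrix (Fin (t + 2) → Fin k) (Fin (t + 2) → Fin k) F,
      (∀ g ∈ G, ∀ v, ρ (conjMat g v) = conjMat g (ρ v)) ∧
      ∀ (e : Fin k → F), frm σ J e e = 0 → e ≠ 0 → ∀ v, S 0 (Nm σ J e) * v = v * S 0 (Nm σ J e) →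
        ∃ Y Y', ρ v - ctr (swSum F k (t + 2)) v = S 0 (Nm σ J e) * Y + Y' * S 0 (Nm σ J e) ∧
          ((∃ l : F, l ≠ 0 ∧ l * σ l ≠ 1) → Y' = 0) := by
  classical
  obtain ⟨p, hp⟩ := CharP.exists F
  haveI : Fact p.Prime := ⟨(CharP.char_is_prime_or_zero F p).resolve_right (CharP.char_ne_zero_of_finite F p)⟩
  set R := ctr (swSum F k (t + 2))
  have hR : ∀ h ∈ Wr F k (t + 2), ∀ v, R (conjMat h v) = conjMat h (R v) := fun h hh v =>
    ctr_equiv (swSum_fixed hh) v
  let H : Subgroup G := (Wr F k (t + 2)).subgroupOf G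
  let L : G → (Matrix (Fin (t + 2) → Fin k) (Fin (t + 2) → Fin k) F →ₗ[F] Matrix (Fin (t + 2) → Fin k) (Fin (t + 2) → Fin k) F) :=
    fun g => (conjMat g.1).toLinearMap ∘ₗ R ∘ₗ (conjMat g.1⁻¹).toLinearMap
  have hL : ∀ g v, L g v = conjMat g.1 (R (conjMat g.1⁻¹ v)) := fun g v => rfl
  let Lq : G ⧸ H → _ := fun x => L x.out
  have hLq : ∀ (g : G) v, Lq (QuotientGroup.mk g) v = L g v := fun g v => by
    obtain ⟨h, hh⟩ := QuotientGroup.mk_out_eq_mul H g
    show L (QuotientGroup.mk g : G ⧸ H).out v = _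
    rw [hh, hL, hL, Subgroup.coe_mul, _root_.mul_inv_rev, conjMat_mul, conjMat_mul,
      hR ((h : G).1)⁻¹ ((Wr F k (t + 2)).inv_mem (Subgroup.mem_subgroupOf.1 h.2)), ← conjMat_mul (h : G).1, mul_inv_cancel]
    simp [conjMat_apply]
  have hsm : ∀ (g : G) (x : G ⧸ H) v, Lq (g • x) (conjMat g.1 v) = conjMat g.1 (Lq x v) := fun g x v => by
    induction x using QuotientGroup.induction_on with
    | H r =>
      rw [MulAction.Quotient.smul_mk, smul_eq_mul, hLq, hLq, hL, hL, Subgroup.coe_mul, _root_.mul_inv_rev,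
        ← conjMat_mul (g := g.1), ← conjMat_mul (r.1⁻¹ * g.1⁻¹), inv_mul_cancel_right]
  refine ⟨∑ x, Lq x, fun g hg v => ?_, fun e he he0 v hv => ?_⟩
  · rw [LinearMap.sum_apply, LinearMap.sum_apply, map_sum]
    exact (Fintype.sum_equiv (MulAction.toPerm (⟨g, hg⟩ : G)) _ _ fun x => (hsm ⟨g, hg⟩ x v).symm).symm
  set x₀ : G ⧸ H := QuotientGroup.mk 1
  let u : skew σ → G := fun c => ⟨uel e he c, hB 0 _ (tvU_mem hd.herm e he c.2)⟩
  let f : G ⧸ H → Matrix (Fin (t + 2) → Fin k) (Fin (t + 2) → Fin k) F := fun x => Lq x v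
  have hu0 : ∀ x : G ⧸ H, u 0 • x = x := fun x => by
    rw [show u 0 = 1 from Subtype.ext (uel_zero e he)]; exact one_smul _ _
  have huadd : ∀ c d (x : G ⧸ H), u (c + d) • x = u c • u d • x := fun c d x => by
    rw [show u (c + d) = u c * u d from Subtype.ext (uel_add e he c d), mul_smul]
  have hf : ∀ c x, f (u c • x) = conjMat (uel e he c) (f x) := fun c x => by
    have h1 := hsm (u c) x v
    rw [show conjMat (u c).1 v = v from uel_fix_of_comm e he c hv] at h1
    exact h1
  have hfix0 : ∀ c, u c • x₀ = x₀ := fun c => by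
    rw [MulAction.Quotient.smul_mk, smul_eq_mul, mul_one]
    refine QuotientGroup.eq.2 ?_
    rw [mul_one, Subgroup.inv_mem_iff, Subgroup.mem_subgroupOf]
    exact sgl_mem _ _
  have hne0 : ∀ c (x : G ⧸ H), x ≠ x₀ → u c • x ≠ x₀ := fun c x hx h => hx (smul_left_cancel _ (h.trans (hfix0 c).symm))
  set T := (Finset.univ.erase x₀).filter fun x => ∃ c, c ≠ 0 ∧ u c • x = x
  set T' := (Finset.univ.erase x₀).filter fun x => ¬∃ c, c ≠ 0 ∧ u c • x = x
  have hinvQ : ∀ c (x : G ⧸ H), (∃ d, d ≠ 0 ∧ u d • x = x) → ∃ d, d ≠ 0 ∧ u d • (u c • x) = u c • x := by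
    rintro c x ⟨d, hd0, hdx⟩
    exact ⟨d, hd0, by rw [← huadd, add_comm d c, huadd, hdx]⟩
  have h1 : ∑ x ∈ T, f x = 0 := by
    refine sum_no_fix p (skew_p p) (fun M => by rw [← Nat.cast_smul_eq_nsmul F, CharP.cast_eq_zero, zero_smul])
      (fun c x => u c • x) hu0 huadd f T (fun c x hx => ?_) (fun c x hx => ?_) fun x hx => ?_
    · obtain ⟨hx1, hx2⟩ := Finset.mem_filter.1 hx
      exact Finset.mem_filter.2 ⟨Finset.mem_erase.2 ⟨hne0 c x (Finset.mem_erase.1 hx1).1, Finset.mem_univ _⟩, hinvQ c x hx2⟩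
    · obtain ⟨-, d, hd0, hdx⟩ := Finset.mem_filter.1 hx
      rw [hf]
      refine uel_fix_of_comm e he c (comm_of_uel_fix e he hd0 ?_)
      rw [← hf, hdx]
    · obtain ⟨hx1, -⟩ := Finset.mem_filter.1 hx
      by_contra hno
      push Not at hno
      refine (Finset.mem_erase.1 hx1).1 ?_
      obtain ⟨g, rfl⟩ := QuotientGroup.mk_surjective x
      refine QuotientGroup.eq.2 ?_
      rw [mul_one, Subgroup.inv_mem_iff, Subgroup.mem_subgroupOf]
      refine goodU hd hbig IH hB hI hT g.2 0 e he he0 fun c hc => ?_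
      have h := hno ⟨c, hc⟩
      rw [MulAction.Quotient.smul_mk, smul_eq_mul, QuotientGroup.eq, Subgroup.mem_subgroupOf] at h
      have := inv_mem h
      simpa [u, uel, mul_assoc] using this
  obtain ⟨w, h2⟩ := sum_free (A := skew σ) (fun c x => u c • x) hu0 huadd f
    (fun c => (conjMat (uel (t := t + 1) e he c)).toLinearMap.toAddMonoidHom) hf T'
    (fun c x hx => by
      obtain ⟨hx1, hx2⟩ := Finset.mem_filter.1 hx
      refine Finset.mem_filter.2 ⟨Finset.mem_erase.2 ⟨hne0 c x (Finset.mem_erase.1 hx1).1, Finset.mem_univ _⟩, fun h => hx2 ?_⟩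
      obtain ⟨d, hd0, hd'⟩ := hinvQ (-c) _ h
      rw [show u (-c) • (u c • x) = x by rw [← huadd, neg_add_cancel, hu0]] at hd'
      exact ⟨d, hd0, hd'⟩)
    (fun c x hx h => by
      by_contra hc
      exact (Finset.mem_filter.1 hx).2 ⟨c, hc, h⟩)
  obtain ⟨Y, Y', hY, hY'⟩ := sum_uel (t := t + 1) hd.herm e he w
  refine ⟨Y, Y', ?_, hY'⟩
  have hx0 : f x₀ = R v := by
    show Lq (QuotientGroup.mk 1) v = _
    rw [hLq, hL]
    simp [conjMat_apply]
  have hsplit : ∑ x, f x = f x₀ + (∑ x ∈ T, f x + ∑ x ∈ T', f x) := by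
    rw [← Finset.add_sum_erase _ _ (Finset.mem_univ x₀), Finset.sum_filter_add_sum_filter_not]
  rw [LinearMap.sum_apply]
  show (∑ x, f x) - R v = _
  rw [hsplit, hx0, h1, h2, zero_add, add_sub_cancel_left, ← hY]
  rfl

/-- contraction of blocks with a row and a column -/
def cblk (ψ z : Fin k → F) (M : Matrix (Fin (t + 1) → Fin k) (Fin (t + 1) → Fin k) F) :
    Matrix (Fin t → Fin k) (Fin t → Fin k) F :=
  ∑ x, ∑ y, (ψ x * z y) • blk M x y

theorem cblk_left (ψ z e : Fin k → F) (h : ψ ⬝ᵥ e = 0) (Y : Matrix (Fin (t + 1) → Fin k) (Fin (t + 1) → Fin k) F) :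
    cblk ψ z (S 0 (Nm σ J e) * Y) = 0 := by
  rw [cblk, Finset.sum_comm]
  refine Finset.sum_eq_zero fun y _ => ?_
  simp only [map_mul, blk_S_zero, Matrix.mul_apply, Matrix.map_apply, ← Algebra.smul_def, Finset.smul_sum, smul_smul]
  rw [Finset.sum_comm]
  refine Finset.sum_eq_zero fun p _ => ?_
  rw [← Finset.sum_smul]
  simp only [Nm, vecMulVec_apply]
  have : ∑ x, ψ x * z y * (e x * phi σ J e p) = (ψ ⬝ᵥ e) * (z y * phi σ J e p) := by
    rw [dotProduct, Finset.sum_mul]
    exact Finset.sum_congr rfl fun x _ => by ring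
  rw [this, h, zero_mul, zero_smul]

theorem cblk_right (ψ z e : Fin k → F) (h : frm σ J z e = 0) (Y : Matrix (Fin (t + 1) → Fin k) (Fin (t + 1) → Fin k) F) :
    cblk ψ z (Y * S 0 (Nm σ J e)) = 0 := by
  rw [cblk]
  refine Finset.sum_eq_zero fun x _ => ?_
  simp only [map_mul, blk_S_zero, Matrix.mul_apply, Matrix.map_apply, ← Algebra.commutes, ← Algebra.smul_def,
    Finset.smul_sum, smul_smul]
  rw [Finset.sum_comm]
  refine Finset.sum_eq_zero fun p _ => ?_
  rw [← Finset.sum_smul]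
  simp only [Nm, vecMulVec_apply]
  have : ∑ y, ψ x * z y * (e p * phi σ J e y) = (phi σ J e ⬝ᵥ z) * (ψ x * e p) := by
    rw [dotProduct, Finset.sum_mul]
    exact Finset.sum_congr rfl fun x _ => by ring
  rw [this, ← frm_eq, h, zero_mul, zero_smul]

theorem cblk_single (M : Matrix (Fin (t + 1) → Fin k) (Fin (t + 1) → Fin k) F) (x y : Fin k) :
    cblk (Pi.single x 1) (Pi.single y 1) M = blk M x y := by
  simp [cblk, Pi.single_apply]

theorem cblk_lin (ψ ψ' z z' : Fin k → F) (c : F) (M : Matrix (Fin (t + 1) → Fin k) (Fin (t + 1) → Fin k) F) :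
    cblk (ψ + c • ψ') z M = cblk ψ z M + c • cblk ψ' z M ∧ cblk ψ (z + c • z') M = cblk ψ z M + c • cblk ψ z' M := by
  constructor <;>
    simp only [cblk, Pi.add_apply, Pi.smul_apply, smul_eq_mul, add_mul, mul_add, add_smul, Finset.sum_add_distrib,
      Finset.smul_sum, smul_smul, mul_assoc, mul_left_comm]

/-- a matrix in all three ideals vanishes -/
theorem eq_zero_of_three (hd : Hyp σ J a b) {e : Fin 3 → Fin k → F} (he : LinearIndependent F e)
    {M : Matrix (Fin (t + 1) → Fin k) (Fin (t + 1) → Fin k) F}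
    (h : ∀ i, ∃ Y Y', M = S 0 (Nm σ J (e i)) * Y + Y' * S 0 (Nm σ J (e i))) : M = 0 := by
  classical
  have hB : ∀ ψ z, (∃ i, ψ ⬝ᵥ e i = 0 ∧ frm σ J z (e i) = 0) → cblk ψ z M = 0 := by
    rintro ψ z ⟨i, h1, h2⟩
    obtain ⟨Y, Y', hM⟩ := h i
    rw [hM]
    have hadd : ∀ A B : Matrix (Fin (t + 1) → Fin k) (Fin (t + 1) → Fin k) F, cblk ψ z (A + B) = cblk ψ z A + cblk ψ z B :=
      fun A B => by simp only [cblk, map_add, Matrix.add_apply, smul_add, Finset.sum_add_distrib]
    rw [hadd, cblk_left ψ z (e i) h1, cblk_right ψ z (e i) h2, add_zero]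
  have hdual : ∀ i, ∃ ψ : Fin k → F, ∀ j, ψ ⬝ᵥ e j = if j = i then 1 else 0 := fun i => by
    have hn : e i ∉ Submodule.span F (e '' {j | j ≠ i}) := he.notMem_span_image fun h => h rfl
    obtain ⟨ψ, h0, h1⟩ := exists_row_of_not_mem hn
    refine ⟨ψ, fun j => ?_⟩
    split_ifs with hj
    · rw [hj, h1]
    · exact h0 _ (Submodule.subset_span ⟨j, hj, rfl⟩)
  choose ψd hψd using hdual
  have hz : ∀ i, ∃ z : Fin k → F, ∀ j, frm σ J z (e j) = if j = i then 1 else 0 := fun i => by
    obtain ⟨z, hz⟩ := exists_repr hd.herm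
      { toFun := fun x => ψd i ⬝ᵥ x
        map_add' := fun p q => dotProduct_add _ p q
        map_smul' := fun c p => dotProduct_smul c _ p }
    refine ⟨z, fun j => ?_⟩
    rw [hd.herm.herm, show frm σ J (e j) z = ψd i ⬝ᵥ e j from hz _, hψd, apply_ite σ, map_one, map_zero]
  choose zd hzd using hz
  have third : ∀ i j : Fin 3, ∃ l, l ≠ i ∧ l ≠ j := by decide
  have hexp : ∀ (ψ z : Fin k → F), cblk ψ z M = 0 := by
    intro ψ z
    have hψ : ∀ ψ, ∃ ψ0, (∀ j, ψ0 ⬝ᵥ e j = 0) ∧ ψ = ψ0 + ∑ i, (ψ ⬝ᵥ e i) • ψd i := fun ψ =>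
      ⟨ψ - ∑ i, (ψ ⬝ᵥ e i) • ψd i, fun j => by simp [sub_dotProduct, sum_dotProduct, hψd], by abel⟩
    have hz' : ∀ z, ∃ z0, (∀ j, frm σ J z0 (e j) = 0) ∧ z = z0 + ∑ i, frm σ J z (e i) • zd i := fun z =>
      ⟨z - ∑ i, frm σ J z (e i) • zd i, fun j => by
        rw [frm_eq, dotProduct_sub, dotProduct_sum]
        simp [dotProduct_smul, ← frm_eq, hzd], by abel⟩
    obtain ⟨ψ0, hψ0, eψ⟩ := hψ ψ
    obtain ⟨z0, hz0, ez⟩ := hz' z
    have key : ∀ χ, (∀ i, ∃ l, χ ⬝ᵥ e l = 0 ∧ l ≠ i) → cblk χ z M = 0 := by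
      intro χ hχ
      rw [ez, Fin.sum_univ_three]
      have e1 : z0 + (frm σ J z (e 0) • zd 0 + frm σ J z (e 1) • zd 1 + frm σ J z (e 2) • zd 2) =
          z0 + frm σ J z (e 0) • zd 0 + frm σ J z (e 1) • zd 1 + frm σ J z (e 2) • zd 2 := by abel
      rw [e1, (cblk_lin χ χ _ _ _ M).2, (cblk_lin χ χ _ _ _ M).2, (cblk_lin χ χ _ _ _ M).2]
      have hi : ∀ i, cblk χ (zd i) M = 0 := fun i => by
        obtain ⟨l, hl, hli⟩ := hχ i
        exact hB _ _ ⟨l, hl, by rw [hzd, if_neg hli]⟩
      obtain ⟨l, hl, -⟩ := hχ 0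
      rw [hi, hi, hi, hB _ _ ⟨l, hl, hz0 l⟩]
      simp
    rw [eψ, Fin.sum_univ_three]
    have e1 : ψ0 + ((ψ ⬝ᵥ e 0) • ψd 0 + (ψ ⬝ᵥ e 1) • ψd 1 + (ψ ⬝ᵥ e 2) • ψd 2) =
        ψ0 + (ψ ⬝ᵥ e 0) • ψd 0 + (ψ ⬝ᵥ e 1) • ψd 1 + (ψ ⬝ᵥ e 2) • ψd 2 := by abel
    rw [e1, (cblk_lin _ _ z z _ M).1, (cblk_lin _ _ z z _ M).1, (cblk_lin _ _ z z _ M).1]
    have hi : ∀ j, cblk (ψd j) z M = 0 := fun j => key _ fun i => by
      obtain ⟨l, hlj, hli⟩ := third j i
      exact ⟨l, by rw [hψd, if_neg hlj], hli⟩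
    rw [hi, hi, hi, key ψ0 fun i => by obtain ⟨l, hl, -⟩ := third i i; exact ⟨l, hψ0 l, hl⟩]
    simp
  refine (blk (F := F) (m := k) (t := t)).injective (Matrix.ext fun x y => ?_)
  rw [← cblk_single, hexp, map_zero, Matrix.zero_apply]

/-- a matrix in two left ideals vanishes -/
theorem eq_zero_of_two {e f : Fin k → F} (he : e ≠ 0) (hf : f ∉ Submodule.span F {e})
    {M : Matrix (Fin (t + 1) → Fin k) (Fin (t + 1) → Fin k) F}
    (h1 : ∃ Y, M = S 0 (Nm σ J e) * Y) (h2 : ∃ Y, M = S 0 (Nm σ J f) * Y) : M = 0 := by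
  classical
  obtain ⟨Y1, hY1⟩ := h1
  obtain ⟨Y2, hY2⟩ := h2
  obtain ⟨ψ0, hψe, hψf⟩ := exists_row_of_not_mem hf
  have hψe' : ψ0 ⬝ᵥ e = 0 := hψe e (Submodule.mem_span_singleton_self e)
  refine (blk (F := F) (m := k) (t := t)).injective (Matrix.ext fun x y => ?_)
  rw [← cblk_single, map_zero, Matrix.zero_apply]
  set ψ : Fin k → F := Pi.single x 1
  have e1 : ψ = (ψ - (ψ ⬝ᵥ f) • ψ0) + (ψ ⬝ᵥ f) • ψ0 := by abel
  rw [e1, (cblk_lin _ _ (Pi.single y 1) (Pi.single y 1) _ M).1]
  nth_rewrite 1 [hY2]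
  rw [hY1, cblk_left ψ0 _ e hψe', cblk_left _ _ f (by rw [sub_dotProduct, smul_dotProduct, hψf, smul_eq_mul, mul_one, sub_self]),
    smul_zero, add_zero]

/-- tame overgroups lie in the wreath group -/
theorem levelU (hd : Hyp σ J a b) (hbig : Big σ k) (t : ℕ) : LevelU σ J a b t := by
  induction t with
  | zero => exact levelU_zero
  | succ t IH =>
    classical
    intro G hB hI hT g hg
    obtain ⟨ρ, hρ, herr⟩ := err_spec hd hbig IH hB hI hT
    set R := ctr (swSum F k (t + 2))
    have hh := hd.herm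
    -- vanishing on the projectors
    have hproj : ∀ (x : Fin k → F), frm σ J x x ≠ 0 → ∀ M, ρ (S 0 (Nm σ J x) * lift M) = R (S 0 (Nm σ J x) * lift M) := by
      intro x hx M
      obtain ⟨hnd, hdim⟩ := perp_spec hh hx
      have hv : ∀ e, frm σ J e x = 0 → S (0 : Fin (t + 2)) (Nm σ J e) * (S 0 (Nm σ J x) * lift M) =
          S 0 (Nm σ J x) * lift M * S 0 (Nm σ J e) := by
        intro e hex
        have hxe : frm σ J x e = 0 := comm_zero hh hex
        have h1 : Nm σ J e * Nm σ J x = 0 := by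
          rw [Nm, Nm, vecMulVec_mul_vecMulVec, ← frm_eq, hxe, zero_smul, vecMulVec_zero]
        have h2 : Nm σ J x * Nm σ J e = 0 := by
          rw [Nm, Nm, vecMulVec_mul_vecMulVec, ← frm_eq, hex, zero_smul, vecMulVec_zero]
        rw [← mul_assoc, ← map_mul, h1, map_zero, zero_mul, mul_assoc, ← S0_lift_comm, ← mul_assoc, ← map_mul, h2, map_zero,
          zero_mul]
      refine sub_eq_zero.1 ?_
      by_cases h4 : 4 ≤ k
      · obtain ⟨e, hli, hes⟩ := exists_three_in hh hnd (by omega)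
        refine eq_zero_of_three hd hli fun i => ?_
        obtain ⟨hm, hee⟩ := hes i
        obtain ⟨Y, Y', hY, -⟩ := herr (e i) hee (hli.ne_zero i) _ (hv _ hm)
        exact ⟨Y, Y', hY⟩
      · have hl := hbig.resolve_left h4
        obtain ⟨e, he, f, hf, he0, hee, hff, hef, -⟩ := exists_pair_in hh hnd (by have := hd.hk; omega)
        have hf0 : f ≠ 0 := fun h => by rw [h, zero_right hh] at hef; exact zero_ne_one hef
        refine eq_zero_of_two (σ := σ) (J := J) (e := e) (f := f) he0 (fun h => ?_) ?_ ?_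
        · obtain ⟨r, rfl⟩ := Submodule.mem_span_singleton.1 h
          rw [smul_right hh, hee, mul_zero] at hef
          exact zero_ne_one hef
        · obtain ⟨Y, Y', hY, hY'⟩ := herr e hee he0 _ (hv _ he)
          exact ⟨Y, by rw [hY, hY' hl, zero_mul, add_zero]⟩
        · obtain ⟨Y, Y', hY, hY'⟩ := herr f hff hf0 _ (hv _ hf)
          exact ⟨Y, by rw [hY, hY' hl, zero_mul, add_zero]⟩
    obtain ⟨θ, hθ⟩ : ∃ θ : F, σ θ ≠ θ := by
      by_contra hc
      push Not at hc
      exact hh.ne_id (RingHom.ext hc)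
    have hθ0 : θ ≠ 0 := fun h => hθ (by rw [h, map_zero])
    -- extend to all projectors
    let E : Matrix (Fin k) (Fin k) F → Prop := fun z => ∀ M, ρ (S 0 z * lift M) = R (S 0 z * lift M)
    have hEadd : ∀ {y z}, E y → E z → E (y + z) := fun hy hz M => by rw [map_add, add_mul, map_add, map_add, hy, hz]
    have hEsmul : ∀ (c : F) {z}, E z → E (c • z) := fun c z hz M => by rw [map_smul, smul_mul_assoc, map_smul, map_smul, hz]
    have hEsub : ∀ {y z}, E y → E z → E (y - z) := fun {y z} hy hz => by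
      rw [sub_eq_add_neg, ← neg_one_smul F z]; exact hEadd hy (hEsmul _ hz)
    have hphi : ∀ x y, phi σ J (x + y) = phi σ J x + phi σ J y := fun x y => dotProduct_eq _ _ fun z => by
      rw [add_dotProduct, ← frm_eq, ← frm_eq, ← frm_eq, add_right hh]
    have hexp : ∀ (x y : Fin k → F) (r : F), Nm σ J (x + r • y) =
        Nm σ J x + σ r • vecMulVec x (phi σ J y) + r • vecMulVec y (phi σ J x) + (r * σ r) • Nm σ J y := by
      intro x y r
      simp only [Nm, hphi, phi_smul, add_vecMulVec, vecMulVec_add, smul_vecMulVec, vecMulVec_smul, smul_add, smul_smul, mul_comm r]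
      abel
    have hall : ∀ x, E (Nm σ J x) := by
      intro x
      by_cases hx : frm σ J x x = 0
      swap
      · exact hproj x hx
      by_cases hx0 : x = 0
      · intro M; simp [hx0, Nm]
      obtain ⟨y, hyx, hyy⟩ : ∃ y, frm σ J y x = 0 ∧ frm σ J y y ≠ 0 := by
        by_contra hc
        push Not at hc
        obtain ⟨f, hff, hxf, hfx⟩ := exists_partner hh hx0 hx
        have hle : LinearMap.ker (form hh x) ≤ Submodule.span F {x} := by
          intro z hz
          have hzx : frm σ J z x = 0 := hz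
          set w := z - frm σ J z f • x with hw
          have hwx : frm σ J w x = 0 := by rw [hw, sub_left hh, hh.smul, hzx, hx, mul_zero, sub_zero]
          have hwf : frm σ J w f = 0 := by rw [hw, sub_left hh, hh.smul, hxf, mul_one, sub_self]
          have hw0 : w = 0 := hh.nd w fun v => by
            have hv : v - frm σ J v x • f ∈ LinearMap.ker (form hh x) := by
              show frm σ J _ x = 0
              rw [sub_left hh, hh.smul, hfx, mul_one, sub_self]
            have h1 := polar_zero hh (S := LinearMap.ker (form hh x)) (fun u hu => hc u hu) (show w ∈ _ from hwx) hv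
            rwa [sub_right hh, smul_right hh, hwf, mul_zero, sub_zero] at h1
          rw [hw, sub_eq_zero] at hw0
          rw [hw0]
          exact Submodule.smul_mem _ _ (Submodule.mem_span_singleton_self x)
        have h1 := Submodule.finrank_mono hle
        rw [finrank_span_singleton hx0] at h1
        have h2 := LinearMap.finrank_range_add_finrank_ker (form hh x)
        have h3 := Submodule.finrank_le (LinearMap.range (form hh x))
        rw [Module.finrank_self] at h3
        rw [Module.finrank_fintype_fun_eq_card, Fintype.card_fin] at h2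
        have := hd.hk
        omega
      have hxy : frm σ J x y = 0 := comm_zero hh hyx
      have hr : ∀ r : F, r ≠ 0 → E (Nm σ J x + σ r • vecMulVec x (phi σ J y) + r • vecMulVec y (phi σ J x)) := by
        intro r hr
        have h1 : E (Nm σ J (x + r • y)) := hproj _ (by
          simp only [hh.add, add_right hh, hh.smul, smul_right hh, hx, hxy, hyx, mul_zero, zero_add]
          exact mul_ne_zero hr (mul_ne_zero ((map_ne_zero σ).2 hr) hyy))
        have h2 := hEsub h1 (hEsmul (r * σ r) (z := Nm σ J y) (hproj y hyy))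
        rwa [hexp, add_sub_cancel_right] at h2
      have h1θ : (1 : F) + θ ≠ 0 := fun h => hθ (by
        rw [eq_neg_of_add_eq_zero_right h, map_neg, map_one])
      have h := hEsub (hEadd (hr 1 one_ne_zero) (hr θ hθ0)) (hr (1 + θ) h1θ)
      convert h using 1
      rw [map_add, map_one, add_smul, add_smul]
      abel
    have hpolar : ∀ x y, E (vecMulVec x (phi σ J y)) := by
      intro x y
      have hr : ∀ r : F, E (σ r • vecMulVec x (phi σ J y) + r • vecMulVec y (phi σ J x)) := fun r => by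
        have h := hEsub (hEsub (hall (x + r • y)) (hEsmul (r * σ r) (hall y))) (hall x)
        convert h using 1
        rw [hexp]; abel
      have h := hEsub (hr θ) (hEsmul θ (hr 1))
      have h' := hEsmul (σ θ - θ)⁻¹ h
      convert h' using 1
      rw [map_one, one_smul, one_smul, smul_add, show σ θ • vecMulVec x (phi σ J y) + θ • vecMulVec y (phi σ J x) -
        (θ • vecMulVec x (phi σ J y) + θ • vecMulVec y (phi σ J x)) = (σ θ - θ) • vecMulVec x (phi σ J y) by
          rw [sub_smul]; abel, smul_smul, inv_mul_cancel₀ (sub_ne_zero.2 hθ), one_smul]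
    have hEz : ∀ z, E z := by
      intro z
      rw [Matrix.matrix_eq_sum_single z]
      refine Finset.sum_induction _ E (fun _ _ => hEadd) (fun M => by simp) fun p _ => ?_
      refine Finset.sum_induction _ E (fun _ _ => hEadd) (fun M => by simp) fun q _ => ?_
      obtain ⟨g', hg'⟩ := exists_repr hh (LinearMap.proj q : (Fin k → F) →ₗ[F] F)
      have e : Matrix.single p q (z p q) = z p q • vecMulVec (Pi.single p 1) (phi σ J g') := by
        have : phi σ J g' = Pi.single q 1 := dotProduct_eq _ _ fun x => by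
          rw [← frm_eq, hg', LinearMap.proj_apply, single_dotProduct, one_mul]
        rw [this]
        ext u v
        simp [Matrix.single_apply, vecMulVec_apply, Pi.single_apply]
        aesop
      rw [e]
      exact hEsmul _ (hpolar _ _)
    have hρR : ρ = R := by
      refine LinearMap.ext fun v => ?_
      have e : v = ∑ p, ∑ q, S 0 (Matrix.single p q (1 : F)) * lift (blk v p q) := by
        refine (blk (F := F) (m := k) (t := t + 1)).injective (Matrix.ext fun x y => ?_)
        simp [Matrix.sum_apply, blk_S0_lift, Matrix.single_apply, ite_and, -map_mul]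
      rw [e, map_sum, map_sum]
      refine Finset.sum_congr rfl fun p _ => ?_
      rw [map_sum, map_sum]
      exact Finset.sum_congr rfl fun q _ => hEz _ _
    refine mem_of_root hd.hk (Nat.succ_pos _) fun i x y hxy c => ?_
    let X : Fin (t + 2) → Matrix (Fin k) (Fin k) F := Function.update (fun _ => Matrix.single x x 1) i (Matrix.single x y c)
    have htr : (pureTensor X).trace = 0 := by
      rw [trace_pureTensor]
      refine Finset.prod_eq_zero (Finset.mem_univ i) ?_
      simp only [X, Function.update_self]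
      exact mem_sl.1 (single_mem_sl hxy c)
    have e : S i (Matrix.single x y c) = R (pureTensor X) := by
      show _ = ctr (swSum F k (t + 2)) (pureTensor X)
      rw [swSum, ctr_sum, Finset.sum_eq_single i (fun j _ hj => ?_) (by simp)]
      · rw [ctr_kp_pure, slotHom_apply]
        congr 1
        funext l
        rcases eq_or_ne l i with rfl | hl
        · simp [X, ctr_sw]
        · simp [X, Function.update_of_ne hl, Pi.mulSingle_eq_of_ne hl, ctr_one, Matrix.trace_single_eq_same]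
      · rw [ctr_kp_pure]
        refine pure_zero _ i ?_
        rw [Function.update_of_ne hj.symm, Pi.one_apply, ctr_one]
        simp [X, mem_sl.1 (single_mem_sl hxy c)]
    rw [e, ← hρR, ← hρ g hg, hρR]
    refine ctr_swSum_mem ?_
    rw [conjMat_apply, Matrix.trace_mul_comm, ← mul_assoc, ← Units.val_mul, inv_mul_cancel, Units.val_one, one_mul, htr]

end Cfsg.Agent.TensorWreath.Un
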