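import Cfsg.Agent.Lib.Forms.Max.TensorWreath.Unitary.NonTame
import Cfsg.Agent.Lib.Forms.Max.TensorWreath.Unitary.AllCentres

/-!
# Overgroups are in the wreath group or contain all transvections
-/

set_option autoImplicit false
set_option linter.unusedSectionVars false

namespace Cfsg.Agent.TensorWreath.Un

open Matrix Cfsg.Agent.Aschbacher Cfsg.Agent.Forms.Max Cfsg.Agent.Forms.Max.UnitaryInLinear Cfsg.Agent.Forms.Max.HermTools

variable {F : Type*} [Field F] [Fintype F] {k t : ℕ} {σ : F →+* F} {J : Matrix (Fin k) (Fin k) F} {a b : Fin k}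

/-- the isotropic vectors all whose transvections are in the group -/
def ctrs (σ : F →+* F) (J : Matrix (Fin k) (Fin k) F) (G : Subgroup (GL (Fin t → Fin k) F)) :
    Set ((Fin t → Fin k) → F) :=
  {v | Phi σ J t v v = 0 ∧ ∀ (g : GL (Fin t → Fin k) F) (c : F), c + σ c = 0 →
    (∀ x, g.val *ᵥ x = x + (c * Phi σ J t x v) • v) → g ∈ G}

theorem iso_phi {g : GL (Fin t → Fin k) F} (hg : g ∈ Iso σ J t) (x y : (Fin t → Fin k) → F) :
    Phi σ J t (g.val *ᵥ x) (g.val *ᵥ y) = Phi σ J t x y := by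
  simp only [Phi]; rw [formOfGram_mul, mem_Iso.1 hg]

theorem mulVec_cancel' (g : GL (Fin t → Fin k) F) (x : (Fin t → Fin k) → F) : g.val *ᵥ ((g⁻¹).val *ᵥ x) = x := by
  rw [mulVec_mulVec, ← Units.val_mul, mul_inv_cancel, Units.val_one, one_mulVec]

theorem mulVec_cancel (g : GL (Fin t → Fin k) F) (x : (Fin t → Fin k) → F) : (g⁻¹).val *ᵥ (g.val *ᵥ x) = x := by
  rw [mulVec_mulVec, ← Units.val_mul, inv_mul_cancel, Units.val_one, one_mulVec]

variable {G : Subgroup (GL (Fin t → Fin k) F)}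

theorem ctrs_zero (hh : Herm σ (frm σ J)) : (0 : (Fin t → Fin k) → F) ∈ ctrs σ J G := by
  refine ⟨zero_left (phi_herm hh t) 0, fun g c _ hg => ?_⟩
  have e : g = 1 := Forms.Max.gl_ext fun x => by rw [hg, smul_zero, add_zero, Units.val_one, one_mulVec]
  rw [e]; exact one_mem G

theorem ctrs_smul (hh : Herm σ (frm σ J)) {v : (Fin t → Fin k) → F} (hv : v ∈ ctrs σ J G) (r : F) :
    r • v ∈ ctrs σ J G := by
  have hP := phi_herm hh t
  refine ⟨by rw [hP.smul, smul_right hP, hv.1, mul_zero, mul_zero], fun g c hc hg => hv.2 g (c * (r * σ r)) ?_ fun x => ?_⟩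
  · rw [map_mul, map_mul, hh.inv]; linear_combination (r * σ r) * hc
  · rw [hg, smul_right hP, smul_smul]; congr 2; ring

theorem ctrs_map (hh : Herm σ (frm σ J)) (hG : Over σ J G) {g : GL (Fin t → Fin k) F} (hg : g ∈ G)
    {v : (Fin t → Fin k) → F} (hv : v ∈ ctrs σ J G) : g.val *ᵥ v ∈ ctrs σ J G := by
  refine ⟨by rw [iso_phi (hG.iso hg)]; exact hv.1, fun h c hc hhx => ?_⟩
  have h1 := hv.2 (g⁻¹ * h * g) c hc fun x => by
    rw [Units.val_mul, Units.val_mul, ← mulVec_mulVec, ← mulVec_mulVec, hhx, mulVec_add, mulVec_smul, mulVec_cancel,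
      mulVec_cancel, iso_phi (hG.iso hg)]
  have h2 := mul_mem (mul_mem hg h1) (inv_mem hg)
  rwa [show g * (g⁻¹ * h * g) * g⁻¹ = h by group] at h2

theorem ctrs_closed (hh : Herm σ (frm σ J)) (hG : Over σ J G) : Closed σ (Phi σ J t) (ctrs σ J G) := by
  refine ⟨fun v hv => hv.1, fun r v hv => ctrs_smul hh hv r, fun v hv w hw c hc => ?_⟩
  obtain ⟨g, -, hgx⟩ := exists_tv (phi_herm hh t) hv.1 hc
  have hg : g ∈ G := hv.2 g c hc hgx
  rw [← hgx w]
  exact ctrs_map hh hG hg hw

theorem pv_mulVec (X : Fin t → Matrix (Fin k) (Fin k) F) (u : Fin t → Fin k → F) :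
    pureTensor X *ᵥ pv u = pv fun i => X i *ᵥ u i := by
  classical
  funext x
  simp only [mulVec, dotProduct, pv, pureTensor_apply, ← Finset.prod_mul_distrib]
  exact (Fintype.prod_sum fun i j => X i (x i) j * u i j).symm

theorem pure_vecMulVec (u φ : Fin t → Fin k → F) :
    pureTensor (fun i => vecMulVec (u i) (φ i)) = vecMulVec (pv u) (pv φ) := by
  ext x y
  simp [pureTensor_apply, vecMulVec_apply, pv, Finset.prod_mul_distrib]

theorem pv_smul (l : Fin t → F) (u : Fin t → Fin k → F) : (pv fun i => l i • u i) = (∏ i, l i) • pv u := by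
  funext x
  simp [pv, Finset.prod_mul_distrib]

variable (hd : Hyp σ J a b)
include hd

theorem np_all_mulVec (x : (Fin t → Fin k) → F) :
    np a b (fun _ => true) *ᵥ x = Phi σ J t x (pv fun _ => Pi.single a 1) • pv fun _ : Fin t => Pi.single a (1 : F) := by
  have e1 : (np a b (fun _ : Fin t => true) : Matrix (Fin t → Fin k) (Fin t → Fin k) F) =
      vecMulVec (pv fun _ => Pi.single a 1) (pv fun _ => phi σ J (Pi.single a 1)) := by
    rw [← pure_vecMulVec, np]
    congr 1
    funext i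
    rw [if_pos rfl, ← Nm_a hd, Nm]
  rw [e1, vecMulVec_mulVec, op_smul_eq_smul]
  congr 1
  rw [Phi, formOfGram_dot, dotProduct_comm x, gram,
    show (fun i => σ (pv (fun _ : Fin t => Pi.single a (1 : F)) i)) = pv fun _ => fun p => σ ((Pi.single a (1 : F) : Fin k → F) p)
      from funext fun i => map_prod σ _ _, pv_mulVec]
  rfl

/-- the pure isotropic vectors are centres -/
theorem pure_centre {G : Subgroup (GL (Fin (t + 1) → Fin k) F)} (hG : Over σ J G)
    (hall : Has a b G fun _ => true) {u : Fin (t + 1) → Fin k → F} (hu : ∀ i, frm σ J (u i) (u i) = 0) :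
    pv u ∈ ctrs σ J G := by
  classical
  have hh := hd.herm
  set A : Fin (t + 1) → Fin k → F := fun _ => Pi.single a 1
  have hA : Phi σ J (t + 1) (pv A) (pv A) = 0 := by
    rw [pv_succ, phi_tens, frm_aa hd, zero_mul]
  have hA0 : pv A ≠ 0 := fun e => by
    have := congrFun e (fun _ => a)
    simp [pv, A] at this
  obtain ⟨g, hg, c, hc, hgv⟩ := hall
  have hgx : ∀ x, g.val *ᵥ x = x + (c * Phi σ J (t + 1) x (pv A)) • pv A := fun x => by
    rw [hgv, add_mulVec, one_mulVec, smul_mulVec, np_all_mulVec hd, smul_smul]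
  have hP := phi_herm hh (t + 1)
  obtain ⟨y, hy⟩ := exists_value_one hP hA0
  have hskew : c + σ c = 0 := by
    have h1 := iso_phi (hG.iso hg) y y
    rw [hgx] at h1
    simp only [hP.add, add_right hP, hP.smul, smul_right hP, hy, hA, map_mul, map_one, mul_one,
      show Phi σ J (t + 1) (pv A) y = 1 by rw [hP.herm, hy, map_one]] at h1
    linear_combination h1
  have hcA : pv A ∈ ctrs σ J G := by
    refine ⟨hA, fun g' d hdd hg'x => ?_⟩
    obtain ⟨z, hz, hzz⟩ := exists_mid_norm hd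
    obtain ⟨l, hl⟩ := Cfsg.Agent.Forms.Bases.exists_norm_eq σ hh.ne_id hh.inv (d / c) (by
      rw [map_div₀, eq_neg_of_add_eq_zero_right hskew, eq_neg_of_add_eq_zero_right hdd, neg_div_neg_eq])
    rcases eq_or_ne l 0 with rfl | hl0
    · have hd0 : d = 0 := by
        rw [mul_zero, eq_comm, div_eq_zero_iff] at hl
        exact hl.resolve_right hc
      have e : g' = 1 := Forms.Max.gl_ext fun x => by rw [hg'x, hd0, zero_mul, zero_smul, add_zero, Units.val_one, one_mulVec]
      rw [e]; exact one_mem G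
    obtain ⟨h, hh', hha, -, -⟩ := exists_torus hd hl0 hz hzz
    set s := sgl (0 : Fin (t + 1)) h
    have hs : s ∈ G := hG.base 0 _ hh'
    have hsA : s.val *ᵥ pv A = l • pv A := by
      rw [sgl_coe, pv_succ, S0_mulVec_tens, hha]
      funext x
      simp [tens, mul_assoc, A]
    have e : g' = s * g * s⁻¹ := Forms.Max.gl_ext fun x => by
      rw [hg'x, Units.val_mul, Units.val_mul, ← mulVec_mulVec, ← mulVec_mulVec, hgx, mulVec_add, mulVec_smul, hsA,
        mulVec_cancel', smul_smul]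
      congr 2
      have h1 : Phi σ J (t + 1) ((s⁻¹).val *ᵥ x) (pv A) = σ l * Phi σ J (t + 1) x (pv A) := by
        rw [← iso_phi (hG.iso hs), mulVec_cancel', hsA, smul_right hP]
      rw [h1]
      field_simp at hl
      linear_combination (-Phi σ J (t + 1) x (pv A)) * hl
    rw [e]
    exact mul_mem (mul_mem hs hg) (inv_mem hs)
  by_cases hz : ∀ i, u i ≠ 0
  swap
  · push Not at hz
    obtain ⟨i, hi⟩ := hz
    have e : pv u = 0 := funext fun x => Finset.prod_eq_zero (Finset.mem_univ i) (by rw [hi]; rfl)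
    rw [e]; exact ctrs_zero hh
  have ha0 : (Pi.single a (1 : F) : Fin k → F) ≠ 0 := fun e => one_ne_zero (by simpa using congrFun e a : (1 : F) = 0)
  choose x hx l hxl hl using fun i => exists_move hh (frm_aa hd) (hu i) ha0 (hz i)
  have h1 := ctrs_smul hh (ctrs_map hh hG (hG.pure_mem hx) hcA) (∏ i, l i)⁻¹
  rwa [pureGL_coe, pv_mulVec, show (fun i => (x i).val *ᵥ A i) = fun i => l i • u i from funext hxl, pv_smul, smul_smul,
    inv_mul_cancel₀ (Finset.prod_ne_zero_iff.2 fun i _ => hl i), one_smul] at h1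

/-- overgroups of the wreath isometries are in the wreath group or contain all transvections -/
theorem wr_or_all (hbig : Big σ k) {G : Subgroup (GL (Fin (t + 1) → Fin k) F)} (hG : Over σ J G) :
    G ≤ Wr F k (t + 1) ∨ ∀ (g : GL (Fin (t + 1) → Fin k) F) (v : (Fin (t + 1) → Fin k) → F) (c : F),
      Phi σ J (t + 1) v v = 0 → c + σ c = 0 → (∀ x, g.val *ᵥ x = x + (c * Phi σ J (t + 1) x v) • v) → g ∈ G := by
  by_cases hT : TameU σ J a b G
  · exact Or.inl (levelU hd hbig t G hG.base hG.iso hT)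
  refine Or.inr fun g v c hv hc hgx => ?_
  obtain ⟨w, hw, hall⟩ := has_of_not_tame hd hbig hG hT
  have hG' := hG.conjSub hw
  set v' := w.val *ᵥ v
  have hwI := W0_le_iso hw
  have h1 := all_centres hd.herm hd.hk t _ (ctrs_closed hd.herm hG') (fun u hu => pure_centre hd hG' hall hu) v'
    (by rw [iso_phi hwI]; exact hv)
  have h2 := h1.2 (w * g * w⁻¹) c hc fun x => by
    rw [Units.val_mul, Units.val_mul, ← mulVec_mulVec, ← mulVec_mulVec, hgx, mulVec_add, mulVec_smul, mulVec_cancel',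
      show Phi σ J (t + 1) ((w⁻¹).val *ᵥ x) v = Phi σ J (t + 1) x v' by
        rw [← iso_phi hwI, mulVec_cancel']]
  have h3 := mem_conjSub.1 h2
  rwa [show w⁻¹ * (w * g * w⁻¹) * w = g by group] at h3

end Cfsg.Agent.TensorWreath.Un
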