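import Cfsg.Agent.Lib.Forms.Max.TensorWreath.Unitary.Escape
import Cfsg.Agent.Lib.Forms.Max.TensorWreath.Maximal
import Cfsg.Agent.Lib.Forms.Max.Factor
import Cfsg.Agent.Lib.Forms.Max.UnitaryBase

/-!
# Stabilisers of tensor power decompositions are maximal in the special unitary groups
-/

set_option autoImplicit false
set_option linter.unusedSectionVars false

namespace Cfsg.Agent.TensorWreath.Un

open Matrix Cfsg.Agent.Forms Cfsg.Agent.Aschbacher Cfsg.Agent.Forms.Max Cfsg.Agent.Forms.Max.UnitaryInLinear Cfsg.Agent.Forms.Max.HermTools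

variable {F : Type*} [Field F] [Fintype F] {k t : ℕ} {σ : F →+* F}

/-- a basis change adapting the Gram matrix to a hyperbolic pair -/
theorem exists_hyp {G : Matrix (Fin k) (Fin k) F} (hh : Herm σ (frm σ G)) (hk : 3 ≤ k) :
    ∃ (B : GL (Fin k) F) (a b : Fin k), Hyp σ (B.valᵀ * G * B.val.map σ) a b := by
  classical
  obtain ⟨m, rfl⟩ : ∃ m, k = m + 2 := ⟨k - 2, by omega⟩
  obtain ⟨e, -, f, -, -, hee, hff, hef, hfe⟩ := exists_pair_in hh (S := ⊤)
    (fun x _ h => hh.nd x fun y => h y trivial) (by rw [finrank_top, Module.finrank_fintype_fun_eq_card, Fintype.card_fin]; omega)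
  set L := (form hh e).prod (form hh f) with hL
  set S := LinearMap.ker L with hS
  have hr : LinearMap.range L = ⊤ := by
    refine eq_top_iff.2 fun p _ => ⟨p.1 • f + p.2 • e, ?_⟩
    refine Prod.ext ?_ ?_
    · show frm σ G (p.1 • f + p.2 • e) e = _
      rw [hh.add, hh.smul, hh.smul, hfe, hee, mul_one, mul_zero, add_zero]
    · show frm σ G (p.1 • f + p.2 • e) f = _
      rw [hh.add, hh.smul, hh.smul, hff, hef, mul_one, mul_zero, zero_add]
  have hdim : Module.finrank F S = m := by
    have h1 := LinearMap.finrank_range_add_finrank_ker L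
    rw [hr, finrank_top, Module.finrank_prod, Module.finrank_self, Module.finrank_fintype_fun_eq_card,
      Fintype.card_fin] at h1
    rw [hS]; omega
  let bs := Module.finBasisOfFinrankEq F S hdim
  have hse : ∀ i, frm σ G (bs i : Fin (m + 2) → F) e = 0 ∧ frm σ G (bs i : Fin (m + 2) → F) f = 0 := fun i => by
    have := (bs i).2
    simp only [hS, hL, LinearMap.mem_ker, LinearMap.prod_apply, Function.prod, Prod.ext_iff] at this
    exact this
  set v : Fin (m + 2) → Fin (m + 2) → F := Fin.cons e (Fin.cons f fun i => (bs i : Fin (m + 2) → F)) with hv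
  have hli : LinearIndependent F v := by
    refine Fintype.linearIndependent_iff.2 fun g hg => ?_
    rw [Fin.sum_univ_succ, Fin.sum_univ_succ] at hg
    simp only [hv, Fin.cons_zero, Fin.cons_succ] at hg
    have hse' : ∀ x ∈ S, frm σ G x e = 0 ∧ frm σ G x f = 0 := fun x hx => by
      simpa [hS, hL, Prod.ext_iff, form] using hx
    set z := ∑ i : Fin m, g i.succ.succ • (bs i : Fin (m + 2) → F)
    have hz : z ∈ S := S.sum_mem fun i _ => S.smul_mem _ (bs i).2
    have h0 : g 0 = 0 := by
      have := congrArg (fun x => frm σ G x f) hg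
      simpa [hh.add, hh.smul, hef, hff, (hse' z hz).2, zero_left hh] using this
    have h1 : g (Fin.succ 0) = 0 := by
      have := congrArg (fun x => frm σ G x e) hg
      simpa [hh.add, hh.smul, hee, hfe, (hse' z hz).1, zero_left hh] using this
    rw [h0, h1, zero_smul, zero_smul, zero_add, zero_add] at hg
    have h2 : ∀ i : Fin m, g i.succ.succ = 0 := by
      refine Fintype.linearIndependent_iff.1 bs.linearIndependent (fun i => g i.succ.succ) (Subtype.ext ?_)
      rw [Submodule.coe_sum, ZeroMemClass.coe_zero]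
      exact hg
    intro i
    induction i using Fin.cases with
    | zero => exact h0
    | succ i =>
      induction i using Fin.cases with
      | zero => exact h1
      | succ i => exact h2 i
  have hu : IsUnit (Matrix.of fun p q => v q p) := by
    rw [← Matrix.linearIndependent_cols_iff_isUnit]
    exact hli
  obtain ⟨B, hB⟩ := hu
  have hent : ∀ p q, (B.valᵀ * G * B.val.map σ) p q = frm σ G (v p) (v q) := fun p q => by
    have h1 : frm σ (B.valᵀ * G * B.val.map σ) (Pi.single p 1) (Pi.single q 1) = (B.valᵀ * G * B.val.map σ) p q := by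
      simp [frm, Cfsg.Geo.formOfGram, Pi.single_apply, apply_ite σ]
    rw [← h1, frm, ← formOfGram_mul, hB]
    simp only [Matrix.mulVec_single_one]
    rfl
  have hh' : Herm σ (frm σ (B.valᵀ * G * B.val.map σ)) := by
    have e : ∀ x y, frm σ (B.valᵀ * G * B.val.map σ) x y = frm σ G (B.val *ᵥ x) (B.val *ᵥ y) := fun x y =>
      (formOfGram_mul G B.val x y).symm
    refine ⟨hh.ne_id, hh.inv, fun x y z => ?_, fun c x z => ?_, fun x y => ?_, fun x hx => ?_⟩
    · rw [e, e, e, mulVec_add, hh.add]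
    · rw [e, e, mulVec_smul, hh.smul]
    · rw [e, e, ← hh.herm]
    · have h1 : B.val *ᵥ x = 0 := hh.nd _ fun y => by
        rw [← mulVec_inv_cancel B y, ← e]; exact hx _
      exact mulVec_inj B (h1.trans (mulVec_zero _).symm)
  refine ⟨B, 0, Fin.succ 0, hh', hk, (Fin.succ_ne_zero 0).symm, fun p => ?_, fun p => ?_⟩
  · rw [hent]
    induction p using Fin.cases with
    | zero => simp [hv, hee]
    | succ p =>
      induction p using Fin.cases with
      | zero => simp [hv, hfe]
      | succ p =>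
        rw [if_neg fun h => Fin.succ_ne_zero _ (Fin.succ_injective _ h)]
        simp [hv, (hse p).1]
  · rw [hent]
    induction p using Fin.cases with
    | zero => simp [hv, hef]
    | succ p =>
      induction p using Fin.cases with
      | zero => simp [hv, hff]
      | succ p => simp [hv, (hse p).2]

variable {J : Matrix (Fin k) (Fin k) F} {a b : Fin k}

/-- the wreath group does not contain all isometries -/
theorem not_iso_le (hd : Hyp σ J a b) (ht : 2 ≤ t) :
    ¬ Iso σ J t ⊓ Cfsg.Geo.specialLinear (Fin t → Fin k) F ≤ Wr F k t := by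
  classical
  intro h
  have hh := hd.herm
  have hP := phi_herm hh t
  obtain ⟨c, hc0, hc⟩ := exists_skew hh
  let i₀ : Fin t := ⟨0, by omega⟩
  let i₁ : Fin t := ⟨1, by omega⟩
  have hi : i₁ ≠ i₀ := by simp [i₀, i₁]
  set u := pv fun _ : Fin t => Pi.single a (1 : F)
  have hu : Phi σ J t u u = 0 := by
    obtain ⟨s, rfl⟩ : ∃ s, t = s + 1 := ⟨t - 1, by omega⟩
    simp only [u]
    rw [pv_succ, phi_tens, frm_aa hd, zero_mul]
  obtain ⟨g, hg, hgx⟩ := exists_tv hP hu (trace_zero_of hP hc)
  have hgI : g ∈ Iso σ J t := by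
    rw [mem_Iso]
    ext p q
    have := hg.1 (Pi.single p 1) (Pi.single q 1)
    simp only [Phi] at this
    rw [formOfGram_mul] at this
    simpa [Cfsg.Geo.formOfGram, Pi.single_apply, apply_ite σ] using this
  have hgW := h ⟨hgI, Aschbacher.mem_specialLinear.2 hg.2⟩
  let P : Fin t → Fin k := fun _ => a
  let Q : Fin t → Fin k := fun _ => b
  have hPQ : P ≠ Q := fun e => hd.hab (congrFun e i₀)
  have hnp : (np a b (fun _ : Fin t => true) : Matrix (Fin t → Fin k) (Fin t → Fin k) F) = Matrix.single P Q 1 := by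
    ext x y
    simp only [np, if_true, pureTensor_apply, Matrix.single_apply, P, Q]
    by_cases hxy : (fun _ => a) = x ∧ (fun _ => b) = y
    · obtain ⟨rfl, rfl⟩ := hxy
      simp
    · rw [if_neg hxy]
      obtain ⟨l, hl⟩ : ∃ l, ¬(a = x l ∧ b = y l) := by
        by_contra hcc
        push Not at hcc
        exact hxy ⟨funext fun l => (hcc l).1, funext fun l => (hcc l).2⟩
      exact Finset.prod_eq_zero (Finset.mem_univ l) (if_neg hl)
  have hgv : g.val = 1 + c • Matrix.single P Q (1 : F) := by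
    rw [← hnp]
    refine Matrix.ext_of_mulVec_single fun i => ?_
    rw [add_mulVec, one_mulVec, smul_mulVec, np_all_mulVec hd, hgx, smul_smul]
  obtain ⟨π, cs, hcs⟩ := exists_nf hgW
  have he : ∀ x y, g.val x y = ∏ l, (cs l).val (x (π l)) (y l) := fun x y => by rw [hcs, mulVec_perm_pure]
  have hPP : g.val P P ≠ 0 := by simp [hgv, hPQ.symm]
  have hPQ' : g.val P Q ≠ 0 := by simp [hgv, hPQ, hc0]
  rw [he, Finset.prod_ne_zero_iff] at hPP hPQ'
  let Y : Fin t → Fin k := Function.update P i₀ b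
  have hne : g.val P Y ≠ 0 := by
    rw [he, Finset.prod_ne_zero_iff]
    intro l hl
    rcases eq_or_ne l i₀ with rfl | hl'
    · simpa [Y, P, Q] using hPQ' i₀ hl
    · simpa [Y, Function.update_of_ne hl', P] using hPP l hl
  refine hne ?_
  have h1 : P ≠ Y := fun e => hd.hab (by simpa [Y, P] using congrFun e i₀)
  have h2 : Q ≠ Y := fun e => hd.hab (by simpa [Y, P, Q, Function.update_of_ne hi] using (congrFun e i₁).symm)
  rw [hgv, Matrix.add_apply, Matrix.one_apply_ne h1, Matrix.smul_apply, Matrix.single_apply, if_neg fun h' => h2 h'.2,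
    smul_zero, add_zero]

/-- the stabilisers of tensor power decompositions in the special unitary groups -/
theorem unitary_wreath_maximal {n q : ℕ} (hF : Fintype.card F = q ^ 2) (hn : 4 ≤ n) (hk : 3 ≤ k) (ht : 2 ≤ t)
    (hex : ¬ (q = 2 ∧ k = 3)) (e : Fin n ≃ (Fin t → Fin k)) (P : GL (Fin n) F)
    {f₁ : (Fin k → F) → (Fin k → F) → F} (hf₁ : Cfsg.Geo.IsUnitaryFormPow q f₁)
    (hT : Cfsg.Geo.IsTensorPowerFormStructure (fun x : F => x ^ q) (Cfsg.hermForm n F q) f₁ e P) :
    Cfsg.Geo.IsMaximalIn (Cfsg.GU n F q ⊓ Cfsg.Geo.specialLinear (Fin n) F)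
      (Cfsg.Geo.tensorWreathSubgroup k t e P ⊓ (Cfsg.GU n F q ⊓ Cfsg.Geo.specialLinear (Fin n) F)) := by
  classical
  let s := HermStd.qHom hF
  have hs : ∀ x : F, s x = x ^ q := fun x => rfl
  have hβ : Herm s f₁ := ⟨HermStd.qHom_ne_id hF, HermStd.qHom_qHom hF, hf₁.add_left, hf₁.smul_left, hf₁.herm,
    fun v hv => by
      by_contra h0
      obtain ⟨⟨x, hx⟩, y, hy⟩ := hf₁.nondegenerate v h0
      first
        | exact hx (hv x)
        | exact hy (hv y)⟩
  have hgram : frm s (Cfsg.Geo.gramMatrix f₁) = f₁ := funext fun x => funext fun y =>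
    Factor.formOfGram_gram s hβ.add hβ.smul (add_right hβ) (fun c v w => smul_right hβ c v w) x y
  obtain ⟨B, a, b, hd⟩ := exists_hyp (G := Cfsg.Geo.gramMatrix f₁) (σ := s) (hgram.symm ▸ hβ) hk
  set J := B.valᵀ * Cfsg.Geo.gramMatrix f₁ * B.val.map s
  obtain ⟨κ, hκ0, hval⟩ := hT
  set Q : GL (Fin t → Fin k) F := pureGL fun _ => B
  have hQW : Q ∈ Wr F k t := pureGL_mem _
  let φ : GL (Fin t → Fin k) F ≃* GL (Fin n) F :=
    (MulAut.conj Q).trans ((Cfsg.Geo.glReindex e.symm).trans (MulAut.conj P))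
  let π : ((Fin t → Fin k) → F) → (Fin n → F) := fun x => (Units.val P) *ᵥ ((Q.val *ᵥ x) ∘ e)
  have hform : ∀ x y, Cfsg.hermForm n F q (π x) (π y) = κ * Phi s J t x y := fun x y => by
    have e1 : Phi s J t x y = Cfsg.Geo.formOfGram s (gram t (Cfsg.Geo.gramMatrix f₁)) (Q.val *ᵥ x) (Q.val *ᵥ y) := by
      rw [formOfGram_mul, Phi]
      congr 1
      simp only [Q, J, gram, pureGL_coe, pure_transpose, pure_map, ← map_mul]
      rfl
    rw [e1]
    simp only [π]
    rw [hval]
    simp only [Cfsg.Geo.formOfGram, gram, pureTensor_apply]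
    rfl
  have hcoord : ∀ z, ∃ x, z = π x := fun z =>
    ⟨(Q⁻¹).val *ᵥ (((Units.val P⁻¹) *ᵥ z) ∘ e.symm), by
      simp only [π]
      rw [mulVec_cancel', Function.comp_assoc, Equiv.symm_comp_self, Function.comp_id, mulVec_inv_cancel]⟩
  have hreidx : ∀ (g : GL (Fin t → Fin k) F) (x : (Fin t → Fin k) → F),
      (Cfsg.Geo.glReindex e.symm g).val *ᵥ (x ∘ e) = (g.val *ᵥ x) ∘ e := fun g x => by
    show Matrix.reindexAlgEquiv F F e.symm g.val *ᵥ _ = _
    rw [Matrix.reindexAlgEquiv_apply, Matrix.reindex_apply, Matrix.submatrix_mulVec_equiv]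
    simp [Function.comp_assoc]
  have hφ : ∀ g x, (Units.val (φ g)) *ᵥ π x = π (g.val *ᵥ x) := fun g x => by
    show (P * Cfsg.Geo.glReindex e.symm (Q * g * Q⁻¹) * P⁻¹ : GL (Fin n) F).val *ᵥ π x = _
    simp only [π, Units.val_mul]
    rw [← mulVec_mulVec, ← mulVec_mulVec, mulVec_mulVec _ (P⁻¹).val, ← Units.val_mul, inv_mul_cancel, Units.val_one,
      one_mulVec, hreidx, Units.val_mul, Units.val_mul, ← mulVec_mulVec, ← mulVec_mulVec, mulVec_cancel]
  have hπinj : Function.Injective π := fun x y h => by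
    have h2 := mulVec_inj P h
    refine mulVec_inj Q (funext fun i => ?_)
    simpa using congrFun h2 (e.symm i)
  have hdet : ∀ g, (Units.val (φ g)).det = (Units.val g).det := fun g => by
    show ((P * Cfsg.Geo.glReindex e.symm (Q * g * Q⁻¹) * P⁻¹ : GL (Fin n) F) : Matrix (Fin n) (Fin n) F).det = _
    rw [Units.val_mul, Units.val_mul, Matrix.det_units_conj]
    refine (Matrix.det_reindexAlgEquiv F F e.symm _).trans ?_
    rw [Units.val_mul, Units.val_mul, Matrix.det_units_conj]
  set K := Iso s J t ⊓ Cfsg.Geo.specialLinear (Fin t → Fin k) F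
  have hmap : K.map φ.toMonoidHom = Cfsg.GU n F q ⊓ Cfsg.Geo.specialLinear (Fin n) F := by
    ext g
    constructor
    · rintro ⟨x, hx, rfl⟩
      refine Forms.Max.Unitary.mem_SUn.2 ⟨fun u v => ?_, (hdet x).trans (Aschbacher.mem_specialLinear.1 hx.2)⟩
      obtain ⟨u, rfl⟩ := hcoord u
      obtain ⟨v, rfl⟩ := hcoord v
      show Cfsg.hermForm n F q ((Units.val (φ x)) *ᵥ _) ((Units.val (φ x)) *ᵥ _) = _
      rw [hφ, hφ, hform, hform, iso_phi hx.1]
    · intro hg
      obtain ⟨hg1, hg2⟩ := Forms.Max.Unitary.mem_SUn.1 hg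
      refine ⟨φ.symm g, ⟨?_, Aschbacher.mem_specialLinear.2 (by rw [← hdet, φ.apply_symm_apply]; exact hg2)⟩,
        φ.apply_symm_apply g⟩
      have hpres : ∀ x y, Phi s J t ((φ.symm g).val *ᵥ x) ((φ.symm g).val *ᵥ y) = Phi s J t x y := fun x y => by
        refine mul_left_cancel₀ hκ0 ?_
        rw [← hform, ← hform, ← hφ, ← hφ, φ.apply_symm_apply]
        exact hg1 _ _
      show φ.symm g ∈ Iso s J t
      rw [mem_Iso]
      ext p p'
      have := hpres (Pi.single p 1) (Pi.single p' 1)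
      simp only [Phi] at this
      rw [formOfGram_mul] at this
      simpa [Cfsg.Geo.formOfGram, Pi.single_apply, apply_ite s] using this
  have hκ : s κ = κ := by
    have hP' := phi_herm hd.herm t
    obtain ⟨x, hx⟩ : ∃ x, Phi s J t x x ≠ 0 := by
      by_contra hcc
      push Not at hcc
      haveI : Nonempty (Fin t → Fin k) := ⟨fun _ => a⟩
      obtain ⟨i⟩ := this
      have h1 : (Pi.single i (1 : F) : (Fin t → Fin k) → F) = 0 :=
        hP'.nd _ fun y => polar_zero hP' (S := ⊤) (fun z _ => hcc z) trivial trivial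
      simpa using congrFun h1 i
    have h1 := Cfsg.Agent.Classical.Unitary.H_conj hF (π x) (π x)
    rw [hform, mul_pow, ← hs, ← hs, self_fixed hP' x] at h1
    exact mul_right_cancel₀ hx h1
  have hbig : Big s k := by
    by_cases h4 : 4 ≤ k
    · exact Or.inl h4
    refine Or.inr ?_
    have hq2 : q ≠ 2 := fun h => hex ⟨h, by omega⟩
    have hq : 1 < q := HermStd.one_lt_q hF
    obtain ⟨g, hg⟩ := IsCyclic.exists_generator (α := Fˣ)
    have ho : orderOf g = q ^ 2 - 1 := by
      rw [orderOf_eq_card_of_forall_mem_zpowers hg, Nat.card_units, Nat.card_eq_fintype_card, hF]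
    refine ⟨(g : F), Units.ne_zero _, fun h1 => ?_⟩
    have h2 : g ^ (q + 1) = 1 := Units.ext (by
      rw [Units.val_pow_eq_pow_val, Units.val_one, pow_succ', ← hs]; exact h1)
    have h3 := Nat.le_of_dvd (by omega) (orderOf_dvd_of_pow_eq_one h2)
    rw [ho] at h3
    have : 3 * q ≤ q ^ 2 := by rw [sq]; exact Nat.mul_le_mul_right q (by omega)
    omega
  obtain ⟨t, rfl⟩ : ∃ t', t = t' + 1 := ⟨t - 1, by omega⟩
  have hcore : Cfsg.Geo.IsMaximalIn K (Wr F k (t + 1) ⊓ K) := by
    refine isMaximalIn_of inf_le_right (fun h => not_iso_le hd ht fun g hg => (h hg).1) fun M hM hMK g hgM hg => ?_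
    have hO : Over s J M := ⟨fun x hx => hM ⟨hx.1.1, hx.1.2, hx.2⟩, fun x hx => (hMK hx).1⟩
    rcases wr_or_all hd hbig hO with h | h
    · exact absurd ⟨h hgM, hMK hgM⟩ hg
    rw [← Subgroup.map_le_map_iff_of_injective (f := φ.toMonoidHom) φ.injective, hmap]
    refine Forms.Max.Unitary.SUn_le_of_tv hF (by omega) (by omega) fun g' v c hv hc hg' => ?_
    obtain ⟨v', rfl⟩ := hcoord v
    refine ⟨φ.symm g', h _ v' (c * κ) ?_ ?_ fun x => ?_, φ.apply_symm_apply g'⟩
    · rw [hform] at hv
      exact (mul_eq_zero.1 hv).resolve_left hκ0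
    · rw [map_mul, hκ, hs c, ← add_mul, hc, zero_mul]
    · refine hπinj ?_
      rw [← hφ, φ.apply_symm_apply, hg', hform, mul_assoc]
      simp only [π, mulVec_add, mulVec_smul]
      rw [show ((Q.val *ᵥ x + (c * (κ * Phi s J (t + 1) x v')) • Q.val *ᵥ v') ∘ e) =
        (Q.val *ᵥ x) ∘ e + (c * (κ * Phi s J (t + 1) x v')) • ((Q.val *ᵥ v') ∘ e) from rfl, mulVec_add, mulVec_smul]
  have h := SubfieldLinear.isMaximalIn_map φ hcore
  rw [Subgroup.map_inf (Wr F k (t + 1)) K _ φ.injective, hmap] at h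
  convert h using 2
  have hfix : (Wr F k (t + 1)).map (MulAut.conj Q).toMonoidHom = Wr F k (t + 1) := by
    ext x
    constructor
    · rintro ⟨y, hy, rfl⟩
      exact mul_mem (mul_mem hQW hy) (inv_mem hQW)
    · intro hx
      exact ⟨Q⁻¹ * x * Q, mul_mem (mul_mem (inv_mem hQW) hx) hQW, by simp [mul_assoc]⟩
  rw [Cfsg.Geo.tensorWreathSubgroup, show Cfsg.Geo.tensorWreathStandard k (t + 1) F = Wr F k (t + 1) from rfl]
  conv_lhs => rw [← hfix]
  rw [Subgroup.map_map, Subgroup.map_map]
  rfl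

end Cfsg.Agent.TensorWreath.Un
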