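import Cfsg.Agent.Lib.Forms.Max.TensorWreath.Unitary.Patterns
import Cfsg.Agent.Lib.Forms.Max.TensorWreath.Unitary.Corner
import Cfsg.Agent.Lib.Forms.Max.TensorWreath.Escape

/-!
# Overgroups which are not tame have a pure root in at least two slots
-/

set_option autoImplicit false
set_option linter.unusedSectionVars false

namespace Cfsg.Agent.TensorWreath.Un

open Matrix Cfsg.Agent.Aschbacher Cfsg.Agent.Forms.Max Cfsg.Agent.Forms.Max.UnitaryInLinear Cfsg.Agent.Forms.Max.HermTools

variable {F : Type*} [Field F] [Fintype F] {k t : ℕ} {σ : F →+* F} {J : Matrix (Fin k) (Fin k) F} {a b : Fin k}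

/-- between the wreath isometries and all isometries -/
structure Over (σ : F →+* F) (J : Matrix (Fin k) (Fin k) F) (G : Subgroup (GL (Fin t → Fin k) F)) : Prop where
  full : Wr F k t ⊓ Iso σ J t ⊓ Cfsg.Geo.specialLinear (Fin t → Fin k) F ≤ G
  iso : G ≤ Iso σ J t

variable {G : Subgroup (GL (Fin t → Fin k) F)}

theorem Over.base (hG : Over σ J G) : BaseU σ J G := fun j _ hh =>
  hG.full ⟨⟨sgl_mem j _, sgl_iso j hh⟩, Aschbacher.mem_specialLinear.2 (sgl_det j hh.2)⟩

theorem Over.conjSub (hG : Over σ J G) {w : GL (Fin t → Fin k) F} (hw : w ∈ W0 σ J t) :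
    Over σ J (TensorWreath.conjSub w G) := by
  refine ⟨fun x hx => mem_conjSub.2 (hG.full ?_), conjSub_iso hG.iso hw⟩
  obtain ⟨⟨hxW, hxI⟩, hxS⟩ := hx
  refine ⟨⟨(Wr F k t).mul_mem ((Wr F k t).mul_mem ((Wr F k t).inv_mem (W0_le_wr hw)) hxW) (W0_le_wr hw),
    (Iso σ J t).mul_mem ((Iso σ J t).mul_mem ((Iso σ J t).inv_mem (W0_le_iso hw)) hxI) (W0_le_iso hw)⟩, ?_⟩
  refine Aschbacher.mem_specialLinear.2 ?_
  have h := Aschbacher.mem_specialLinear.1 hxS
  have e : (w⁻¹ * x * w).val.det = (w⁻¹ * x * w⁻¹⁻¹).val.det := by rw [inv_inv]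
  rw [e, Units.val_mul, Units.val_mul, Matrix.det_units_conj, h]

theorem Over.pure_mem (hG : Over σ J G) {c : Fin t → GL (Fin k) F} (hc : ∀ i, c i ∈ isoSL (frm σ J)) :
    pureGL c ∈ G := by
  classical
  have key : ∀ s : Finset (Fin t), pureGL (fun i => if i ∈ s then c i else 1) ∈ G := by
    intro s
    induction s using Finset.induction with
    | empty =>
      rw [show (fun i => if i ∈ (∅ : Finset (Fin t)) then c i else 1) = 1 from funext fun i => by simp, pureGL_one]
      exact one_mem _
    | @insert j s hj ih =>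
      have e : (fun i => if i ∈ insert j s then c i else 1) = Pi.mulSingle j (c j) * fun i => if i ∈ s then c i else 1 := by
        funext i
        rcases eq_or_ne i j with rfl | hi
        · simp [hj]
        · simp [hi, Pi.mulSingle_eq_of_ne hi]
      rw [e, ← pureGL_mul, ← sgl_eq]
      exact mul_mem (hG.base j _ (hc j)) ih
  simpa using key Finset.univ

theorem conj_perm_pureT (π : Equiv.Perm (Fin t)) (X : Fin t → Matrix (Fin k) (Fin k) F) :
    conjMat (permGL π) (pureTensor X) = pureTensor (X ∘ π.symm) := by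
  rw [conjMat_eq_iff_mul]
  exact perm_pure π X

theorem conj_pure_pureT (c : Fin t → GL (Fin k) F) (X : Fin t → Matrix (Fin k) (Fin k) F) :
    conjMat (pureGL c) (pureTensor X) = pureTensor fun i => conjMat (c i) (X i) := by
  rw [conjMat_eq_iff_mul, pureGL_coe, ← map_mul, ← map_mul]
  congr 1
  funext i
  exact ((conjMat_eq_iff_mul ..).1 rfl)

/-- a root in the slots of `O` -/
def Has (a b : Fin k) (G : Subgroup (GL (Fin t → Fin k) F)) (O : Fin t → Bool) : Prop :=
  ∃ g ∈ G, ∃ c : F, c ≠ 0 ∧ g.val = 1 + c • np a b O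

theorem Has.conj_perm {O : Fin t → Bool} {π : Equiv.Perm (Fin t)} (h : Has a b G O) :
    Has a b (TensorWreath.conjSub (permGL π) G) (O ∘ π.symm) := by
  obtain ⟨g, hg, c, hc, hgv⟩ := h
  refine ⟨permGL π * g * (permGL π)⁻¹, conj_mem_conjSub hg, c, hc, ?_⟩
  rw [← conjMat_units, hgv, map_add, map_one, map_smul, np, conj_perm_pureT]
  rfl

theorem Has.of_conj_perm {O : Fin t → Bool} {π : Equiv.Perm (Fin t)}
    (h : Has a b (TensorWreath.conjSub (permGL π) G) O) : Has a b G (O ∘ π) := by
  obtain ⟨g, hg, c, hc, hgv⟩ := h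
  refine ⟨(permGL π)⁻¹ * g * ((permGL π)⁻¹)⁻¹, by rw [inv_inv]; exact mem_conjSub.1 hg, c, hc, ?_⟩
  rw [← conjMat_units, hgv, map_add, map_one, map_smul, np, permGL_inv, conj_perm_pureT]
  rfl

variable (hd : Hyp σ J a b)
include hd

/-- the corners of an overgroup -/
def corners (G : Subgroup (GL (Fin (t + 1) → Fin k) F)) : AddSubgroup (Matrix (Fin t → Fin k) (Fin t → Fin k) F) where
  carrier := {B | cor σ J (Pi.single a 1) (frm_aa hd) B ∈ G}
  zero_mem' := by
    have e : cor σ J (Pi.single a 1) (frm_aa hd) (0 : Matrix (Fin t → Fin k) (Fin t → Fin k) F) = 1 :=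
      Units.ext (by rw [cor_coe, map_zero, mul_zero, add_zero, Units.val_one])
    show _ ∈ G
    rw [e]; exact one_mem G
  add_mem' {B C} hB hC := by show _ ∈ G; rw [← cor_mul]; exact mul_mem hB hC
  neg_mem' {B} hB := by
    show _ ∈ G
    have e : (cor σ J (Pi.single a 1) (frm_aa hd) B)⁻¹ = cor σ J (Pi.single a 1) (frm_aa hd) (-B) := by
      refine inv_eq_of_mul_eq_one_right (Units.ext ?_)
      rw [cor_mul, add_neg_cancel, cor_coe, map_zero, mul_zero, add_zero, Units.val_one]
    rw [← e]; exact inv_mem hB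

theorem corners_spc {G : Subgroup (GL (Fin (t + 1) → Fin k) F)} (hG : Over σ J G) : Spc σ J (corners hd G) := by
  refine ⟨fun j h hh B hB => ?_, fun l B hB => ?_⟩
  · show cor σ J _ _ (conjMat (sgl j h) B) ∈ G
    rw [← cor_lift, liftW_sgl]
    exact mul_mem (mul_mem (hG.base _ _ hh) hB) (inv_mem (hG.base _ _ hh))
  · rcases eq_or_ne l 0 with rfl | hl
    · rw [map_zero, mul_zero, zero_smul]; exact zero_mem _
    obtain ⟨z, hz, hzz⟩ := exists_mid_norm hd
    obtain ⟨x, hx, hxa, -, -⟩ := exists_torus hd hl hz hzz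
    have hl' : frm σ J (l • (Pi.single a (1 : F))) (l • (Pi.single a (1 : F))) = 0 := by
      rw [hd.herm.smul, smul_right hd.herm, frm_aa hd, mul_zero, mul_zero]
    have h1 : sgl 0 x * cor σ J (Pi.single a 1) (frm_aa hd) B * (sgl 0 x)⁻¹ ∈ G :=
      mul_mem (mul_mem (hG.base 0 _ hx) hB) (inv_mem (hG.base 0 _ hx))
    rw [cor_conj hx _ _ (by rw [hxa]; exact hl')] at h1
    show cor σ J _ _ ((l * σ l) • B) ∈ G
    rw [← cor_smul l _ (frm_aa hd) hl' B]
    have e : cor σ J (x.val *ᵥ Pi.single a 1) (by rw [hxa]; exact hl') B = cor σ J (l • Pi.single a 1) hl' B :=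
      Units.ext (by rw [cor_coe, cor_coe, hxa])
    exact e ▸ h1

theorem Has.of_corner {G : Subgroup (GL (Fin (t + 1) → Fin k) F)} {O : Fin t → Bool} {c : F} (hc : c ≠ 0)
    (h : c • np a b O ∈ corners hd G) : Has a b G (Fin.cons true O) := by
  refine ⟨_, h, c, hc, ?_⟩
  rw [cor_coe, Nm_a hd, map_smul, mul_smul_comm, np_succ]
  simp [Function.comp_def]

omit hd in
theorem shp_mul_one {R : Type*} [Ring R] (hab : a ≠ b) {X Y : Matrix (Fin k) (Fin k) R} (hX : Shp a b X)
    (hY : Shp a b Y) : X * Y = Matrix.single a b ((X * Y) a b) := by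
  ext x y
  rw [Matrix.single_apply]
  split_ifs with h
  · rw [h.1, h.2]
  rw [Matrix.mul_apply]
  refine Finset.sum_eq_zero fun p _ => ?_
  by_cases h1 : (x = a ∧ p ≠ a) ∨ (p = b ∧ x ≠ b)
  · by_cases h2 : (p = a ∧ y ≠ a) ∨ (y = b ∧ p ≠ b)
    · exfalso
      rcases h1 with ⟨hx, hp⟩ | ⟨hp, hx⟩ <;> rcases h2 with ⟨hp', hy⟩ | ⟨hy, hp'⟩
      · exact hp hp'
      · exact h ⟨hx.symm, hy.symm⟩
      · exact hab (hp'.symm.trans hp)
      · exact hp' hp
    · rw [hY p y h2, mul_zero]
  · rw [hX x p h1, zero_mul]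

/-- an overgroup which is not tame has a non-scalar corner, up to conjugation -/
theorem corner_of_not_tame {G : Subgroup (GL (Fin (t + 1) → Fin k) F)} (hG : Over σ J G) (hT : ¬TameU σ J a b G) :
    ∃ w ∈ W0 σ J (t + 1), ∃ B ∈ corners hd (TensorWreath.conjSub w G), ∀ r : F, B ≠ r • 1 := by
  classical
  have hh := hd.herm
  unfold TameU at hT
  push Not at hT
  obtain ⟨w, hw, z, hz, hzs, y, hya, hy⟩ := hT
  refine ⟨w, hw, ?_⟩
  set G' := TensorWreath.conjSub w G
  have hG' : Over σ J G' := hG.conjSub hw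
  set z' := w * z * w⁻¹
  have hz' : z' ∈ G' := conj_mem_conjSub hz
  clear_value z'
  set X := blk z'.val - 1 with hX
  have hXrow : ∀ q, q ≠ a → X a q = blk z'.val a q := fun q hq => by
    rw [hX, Matrix.sub_apply, Matrix.one_apply_ne (Ne.symm hq), sub_zero]
  -- the Siegel elements with their row and column
  have hsg : ∀ u ∈ mid F a b, ∃ s ∈ isoSL (frm σ J), Shp a b (s.val - 1) ∧
      (∀ q, q ≠ b → (s.val - 1) a q = -phi σ J u q) ∧ ∀ p, p ≠ a → (s.val - 1) p b = u p := by
    intro u hu
    obtain ⟨hua, hub⟩ := mem_mid.1 hu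
    obtain ⟨s, hs, r, hr⟩ := exists_sg hd hu
    have he : ∀ x y, (s.val - 1) x y =
        (if y = b then u x else 0) + (-phi σ J u y + r * (if y = b then 1 else 0)) * (if x = a then 1 else 0) := by
      intro x y
      have := congrFun (hr (Pi.single y 1)) x
      rw [mulVec_single_one] at this
      rw [Matrix.sub_apply, show s.val x y = _ from this, frm_eq, dotProduct_single, mul_one]
      simp only [Pi.add_apply, Pi.smul_apply, smul_eq_mul, Pi.single_apply, Matrix.one_apply, mul_ite, ite_mul, one_mul,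
        zero_mul, mul_one, mul_zero, eq_comm (a := b)]
      ring
    refine ⟨s, hs, fun x y hxy => ?_, fun q hq => by rw [he]; simp [hq], fun p hp => by rw [he]; simp [hp]⟩
    push Not at hxy
    rw [he]
    rcases eq_or_ne x a with rfl | hxa
    · have hy' := hxy.1 rfl
      subst hy'
      simp [hd.hab, phi_at_a hd, hub]
    · rw [if_neg hxa, mul_zero, add_zero]
      split_ifs with hy'
      · rw [hxy.2 hy', hub]
      · rfl
  by_cases hmid : ∃ q, q ≠ a ∧ q ≠ b ∧ ∀ r : F, blk z'.val a q ≠ r • 1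
  · obtain ⟨q, hqa, hqb, hR⟩ := hmid
    let C : (Fin k → F) → (Fin k → F) → Matrix (Fin t → Fin k) (Fin t → Fin k) F := fun u φ =>
      (∑ p, if p ≠ a ∧ p ≠ b then u p • X a p else 0) + ∑ p, if p ≠ a ∧ p ≠ b then φ p • X p b else 0
    have hC : ∀ u ∈ mid F a b, C u (phi σ J u) ∈ corners hd G' := by
      intro u hu
      obtain ⟨s, hs, hss, hsr, hsc⟩ := hsg u hu
      set Y := (s.val - 1).map (algebraMap F (Matrix (Fin t → Fin k) (Fin t → Fin k) F)) with hY
      have hsb : blk (sgl (0 : Fin (t + 1)) s).val = 1 + Y := by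
        rw [hY, sgl_coe, ← blk_S_zero, map_sub, map_one, map_sub, map_one]; abel
      have hYs : Shp a b Y := fun x y hxy => by rw [hY, Matrix.map_apply, hss x y hxy, map_zero]
      have hz1 : blk z'.val = 1 + X := by rw [hX]; abel
      have hdiff : (X * Y) a b - (Y * X) a b = C u (phi σ J u) := by
        rw [Matrix.mul_apply, Matrix.mul_apply, ← Finset.sum_sub_distrib]
        simp only [C, ← Finset.sum_add_distrib]
        refine Finset.sum_congr rfl fun p _ => ?_
        rcases eq_or_ne p a with rfl | hpa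
        · rw [hzs p p (by rintro (⟨-, h⟩ | ⟨h, -⟩); exacts [h rfl, hd.hab h]), hYs p p
            (by rintro (⟨-, h⟩ | ⟨h, -⟩); exacts [h rfl, hd.hab h])]
          simp
        rcases eq_or_ne p b with rfl | hpb
        · rw [hzs p p (by rintro (⟨h, -⟩ | ⟨-, h⟩); exacts [hd.hab h.symm, h rfl]), hYs p p
            (by rintro (⟨h, -⟩ | ⟨-, h⟩); exacts [hd.hab h.symm, h rfl])]
          simp
        rw [hY, Matrix.map_apply, Matrix.map_apply, hsr p hpb, hsc p hpa, ← Algebra.commutes, ← Algebra.smul_def,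
          ← Algebra.smul_def, if_pos ⟨hpa, hpb⟩, if_pos ⟨hpa, hpb⟩, neg_smul, sub_neg_eq_add]
      have key : cor σ J (Pi.single a 1) (frm_aa hd) (C u (phi σ J u)) * (sgl 0 s * z') = z' * sgl 0 s := by
        refine blk_ext ?_
        have hcb : blk (cor σ J (Pi.single a 1) (frm_aa hd) (C u (phi σ J u))).val =
            1 + Matrix.single a b (C u (phi σ J u)) := by
          rw [← sub_eq_iff_eq_add']
          refine Matrix.ext fun x y => ?_
          rw [blk_cor, Nm_a hd, Matrix.single_apply, Matrix.single_apply, ite_smul, one_smul, zero_smul]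
        rw [Units.val_mul, Units.val_mul, Units.val_mul, map_mul, map_mul, map_mul, hcb, hsb, hz1]
        have hXY := shp_mul_one hd.hab hzs hYs
        have hYX := shp_mul_one hd.hab hYs hzs
        have hE : ∀ (M : Matrix (Fin t → Fin k) (Fin t → Fin k) F) (V : Matrix (Fin k) (Fin k) _), Shp a b V →
            Matrix.single a b M * V = 0 := by
          intro M V hV
          ext x y : 1
          rcases eq_or_ne x a with rfl | hx
          · rw [Matrix.single_mul_apply_same, hV b y, mul_zero, Matrix.zero_apply]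
            rintro (⟨h, -⟩ | ⟨-, h⟩)
            exacts [hd.hab h.symm, h rfl]
          · rw [Matrix.single_mul_apply_of_ne _ _ _ _ _ hx, Matrix.zero_apply]
        have e : (1 + Matrix.single a b (C u (phi σ J u))) * ((1 + Y) * (1 + X)) =
            (1 + Y) * (1 + X) + Matrix.single a b (C u (phi σ J u)) := by
          simp only [add_mul, mul_add, one_mul, mul_one, ← mul_assoc, hE _ _ hYs, hE _ _ hzs, zero_mul, add_zero]
          abel
        rw [e]
        simp only [add_mul, mul_add, one_mul, mul_one]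
        rw [hXY, hYX, ← hdiff, show Matrix.single a b ((X * Y) a b - (Y * X) a b) =
            Matrix.single a b ((X * Y) a b) - Matrix.single a b ((Y * X) a b) from
          map_sub (Matrix.singleAddMonoidHom a b) _ _]
        abel
      show _ ∈ G'
      have e : cor σ J (Pi.single a 1) (frm_aa hd) (C u (phi σ J u)) = z' * sgl 0 s * (sgl 0 s * z')⁻¹ := by
        rw [← key, mul_inv_cancel_right]
      rw [e]
      exact mul_mem (mul_mem hz' (hG'.base 0 _ hs)) (inv_mem (mul_mem (hG'.base 0 _ hs) hz'))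
    obtain ⟨θ, hθ⟩ : ∃ θ : F, σ θ ≠ θ := by
      by_contra hc
      push Not at hc
      exact hh.ne_id (RingHom.ext hc)
    set u : Fin k → F := Pi.single q 1 with hu
    have hum : u ∈ mid F a b := single_mem_mid hqa hqb
    by_contra hcon
    push Not at hcon
    obtain ⟨r₁, hr₁⟩ := hcon _ (hC _ hum)
    obtain ⟨r₂, hr₂⟩ := hcon _ (hC _ ((mid F a b).smul_mem θ hum))
    have e : C (θ • u) (phi σ J (θ • u)) - σ θ • C u (phi σ J u) = (θ - σ θ) • blk z'.val a q := by
      simp only [C, phi_smul, Pi.smul_apply, smul_eq_mul, Finset.smul_sum, smul_add, smul_ite, smul_zero, smul_smul]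
      rw [add_sub_add_right_eq_sub, ← Finset.sum_sub_distrib, Finset.sum_eq_single_of_mem q (Finset.mem_univ q) fun p _ hp => by
        simp [hu, hp]]
      simp [hu, hqa, hqb, hXrow q hqa, sub_smul]
    rw [hr₁, hr₂, smul_smul, ← sub_smul] at e
    refine hR ((θ - σ θ)⁻¹ * (r₂ - σ θ * r₁)) ?_
    rw [← smul_smul, e, inv_smul_smul₀ (sub_ne_zero.2 (Ne.symm hθ))]
  push Not at hmid
  have hyb : y = b := by
    by_contra hyb
    obtain ⟨r, hr⟩ := hmid y hya hyb
    exact hy r hr
  subst hyb
  choose! r hr using hmid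
  let φ : Fin k → F := fun q => if q = a ∨ q = y then 0 else r q
  obtain ⟨u, hu, hphi⟩ := exists_phi hd (φ := φ) (by simp [φ]) (by simp [φ])
  obtain ⟨s, hs, hshp, hsr, -⟩ := hsg u hu
  set U1 := z' * sgl 0 s with hU1
  have hsb : blk (sgl (0 : Fin (t + 1)) s).val - 1 = (s.val - 1).map (algebraMap F _) := by
    rw [sgl_coe, ← blk_S_zero, map_sub, map_one, map_sub, map_one]
  have hsS : Shp a y (blk (sgl (0 : Fin (t + 1)) s).val - 1) := fun p q hpq => by
    rw [hsb, Matrix.map_apply, hshp p q hpq, map_zero]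
  obtain ⟨hU1s, hU1row⟩ := shp_mul hd.hab hzs hsS
  rw [← map_mul, ← Units.val_mul, ← hU1] at hU1s hU1row
  have h10 : ∀ q, q ≠ a → q ≠ y → blk U1.val a q = 0 := fun q hqa hqb => by
    have e : blk (sgl (0 : Fin (t + 1)) s).val a q = ((s.val - 1) a q) • 1 := by
      have := congrFun (congrFun hsb a) q
      rw [Matrix.sub_apply, Matrix.one_apply_ne (Ne.symm hqa), sub_zero, Matrix.map_apply] at this
      rw [this, Algebra.algebraMap_eq_smul_one]
    rw [hU1row q hqa hqb, hr q hqa hqb, e, hsr q hqb, hphi, ← add_smul]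
    simp [φ, hqa, hqb]
  have hU1m : U1 ∈ G' := mul_mem hz' (hG'.base 0 _ hs)
  have hcor := cor_of_shp hd (hG'.iso hU1m) hU1s h10
  refine ⟨blk U1.val a y, show _ ∈ G' from hcor ▸ hU1m, fun r' hr' => ?_⟩
  let W : Submodule F (Matrix (Fin t → Fin k) (Fin t → Fin k) F) := Submodule.span F {1}
  obtain ⟨d1, d2⟩ := shp_diag_aa hd.hab hzs
  have h1 : blk U1.val a y - blk z'.val a y ∈ W := by
    have e : blk U1.val a y = blk z'.val a y + ∑ p, if p ≠ y then (s.val p y) • blk z'.val a p else 0 := by
      rw [hU1, Units.val_mul, map_mul, Matrix.mul_apply, sgl_coe, blk_S_zero,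
        ← Finset.add_sum_erase _ _ (Finset.mem_univ y), ← Finset.add_sum_erase Finset.univ (fun p => if p ≠ y then _ else _) (Finset.mem_univ y)]
      have hsy : s.val y y = 1 := by
        have := (shp_diag_aa hd.hab hshp).2
        exact this
      rw [Matrix.map_apply, hsy, map_one, mul_one, if_neg (fun h => h rfl), zero_add]
      refine congrArg (blk z'.val a y + ·) (Finset.sum_congr rfl fun p hp => ?_)
      rw [Matrix.map_apply, if_pos (Finset.ne_of_mem_erase hp), ← Algebra.commutes, ← Algebra.smul_def]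
    rw [e, add_sub_cancel_left]
    refine W.sum_mem fun p _ => ?_
    split_ifs with hp
    · refine W.smul_mem _ ?_
      rcases eq_or_ne p a with rfl | hpa
      · rw [d1]; exact Submodule.mem_span_singleton_self _
      · rw [hr p hpa hp]; exact W.smul_mem _ (Submodule.mem_span_singleton_self _)
    · exact W.zero_mem
  obtain ⟨d, hd'⟩ := Submodule.mem_span_singleton.1 h1
  exact hy (r' - d) (by rw [sub_smul, ← hr', hd', sub_sub_cancel])

/-- enlarging the set of slots of a root by the first slot -/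
theorem grow (hbig : Big σ k) {G : Subgroup (GL (Fin (t + 1) → Fin k) F)} (hG : Over σ J G) {O : Fin (t + 1) → Bool}
    (h : Has a b G O) (h0 : O 0 = false) {j m : Fin (t + 1)} (hjm : j ≠ m) (hj : O j = true) (hm : O m = true) :
    Has a b G (Function.update O 0 true) := by
  classical
  have hh := hd.herm
  obtain ⟨g1, hg1, c, hc, hg1v⟩ := h
  have hj0 : (0 : Fin (t + 1)) ≠ j := fun e => by rw [← e, h0] at hj; exact Bool.noConfusion hj
  have hm0 : (0 : Fin (t + 1)) ≠ m := fun e => by rw [← e, h0] at hm; exact Bool.noConfusion hm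
  set π := Equiv.swap (0 : Fin (t + 1)) j * Equiv.swap j m with hπ
  have hπG : permGL π ∈ G := by
    have := three_cycle_mem (F := F) (m := k) hj0 hjm hm0
    exact hG.full ⟨⟨this.1, perm_iso π⟩, this.2⟩
  have p0 : π.symm 0 = m := by
    rw [Equiv.symm_apply_eq, hπ, Equiv.Perm.mul_apply, Equiv.swap_apply_right, Equiv.swap_apply_right]
  have pj : π.symm j = 0 := by
    rw [Equiv.symm_apply_eq, hπ, Equiv.Perm.mul_apply, Equiv.swap_apply_of_ne_of_ne hj0 hm0, Equiv.swap_apply_left]
  have pm : π.symm m = j := by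
    rw [Equiv.symm_apply_eq, hπ, Equiv.Perm.mul_apply, Equiv.swap_apply_left, Equiv.swap_apply_of_ne_of_ne hm0.symm hjm.symm]
  have pother : ∀ i, i ≠ 0 → i ≠ j → i ≠ m → π.symm i = i := fun i h1 h2 h3 => by
    rw [Equiv.symm_apply_eq, hπ, Equiv.Perm.mul_apply, Equiv.swap_apply_of_ne_of_ne h2 h3,
      Equiv.swap_apply_of_ne_of_ne h1 h2]
  -- the isometry exchanging the pair
  obtain ⟨x, hx, hxa⟩ : ∃ x ∈ isoSL (frm σ J), x.val *ᵥ Pi.single a 1 = Pi.single b (1 : F) := by
    obtain ⟨x, hx, l, hxa, hl⟩ := exists_move hh (frm_aa hd) (frm_bb hd)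
      (fun e => one_ne_zero (by simpa using congrFun e a : (1 : F) = 0))
      (fun e => one_ne_zero (by simpa using congrFun e b : (1 : F) = 0))
    obtain ⟨z, hz, hzz⟩ := exists_mid_norm hd
    obtain ⟨h', hh', ha', -, -⟩ := exists_torus hd (inv_ne_zero hl) hz hzz
    exact ⟨x * h', mul_mem hx hh', by
      rw [Units.val_mul, ← mulVec_mulVec, ha', mulVec_smul, hxa, inv_smul_smul₀ hl]⟩
  set O' : Fin (t + 1) → Bool := fun i => decide (i = 0) || decide (i = j)
  set K : Fin (t + 1) → Bool := fun i => O i && !decide (i = j) with hK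
  set Eab := (Matrix.single a b (1 : F))
  set Eba := (Matrix.single b a (1 : F))
  have hconj : conjMat x Eab = Eba := by
    have e1 : Nm σ J (Pi.single b (1 : F)) = Eba := by
      rw [Nm, phi_b hd]
      ext p q
      simp only [Eba, vecMulVec_apply, Pi.single_apply, Matrix.single_apply, ite_mul, one_mul, zero_mul, ← ite_and]
      exact if_congr (and_congr eq_comm eq_comm) rfl rfl
    simp only [Eab, ← Nm_a hd, conj_Nm hx, hxa, e1]
  set P : Fin (t + 1) → GL (Fin k) F := fun i => if K i = true then x else 1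
  have hPG : pureGL P ∈ G := hG.pure_mem fun i => by
    simp only [P]; split_ifs
    exacts [hx, one_mem _]
  set g3 := pureGL P * (permGL π * g1 * (permGL π)⁻¹) * (pureGL P)⁻¹ with hg3
  have hg3G : g3 ∈ G := mul_mem (mul_mem hPG (mul_mem (mul_mem hπG hg1) (inv_mem hπG))) (inv_mem hPG)
  set X2 : Fin (t + 1) → Matrix (Fin k) (Fin k) F := fun i =>
    if i = 0 then Eab else if K i = true then Eba else 1 with hX2
  have hg3v : g3.val = 1 + c • pureTensor X2 := by
    rw [hg3, ← conjMat_units, ← conjMat_units, hg1v, map_add, map_one, map_smul, np, conj_perm_pureT, map_add, map_one,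
      map_smul, conj_pure_pureT]
    congr 2
    refine congrArg pureTensor (funext fun i => ?_)
    simp only [Function.comp_apply, P, hX2]
    rcases eq_or_ne i 0 with rfl | hi0
    · rw [p0, if_pos hm, if_pos rfl, if_neg (by simp [K, h0]), conjMat_apply]
      simp [Eab]
    rw [if_neg hi0]
    rcases eq_or_ne i j with rfl | hij
    · have hKi : K i = false := by simp [K]
      simp only [pj, h0, hKi, Bool.false_eq_true, if_false]
      simp
    have hKi : K i = O i := by simp [K, hij]
    have hOi : O (π.symm i) = O i := by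
      rcases eq_or_ne i m with rfl | him
      · rw [pm, hj, hm]
      · rw [pother i hi0 hij him]
    rw [hOi, hKi]
    cases hO : O i
    · simp
    · simp only [if_true]
      exact hconj
  set X1 : Fin (t + 1) → Matrix (Fin k) (Fin k) F := fun i => if O i = true then Eab else 1 with hX1
  set A := c • pureTensor X1 with hA
  set B := c • pureTensor X2 with hB
  have hg1v' : g1.val = 1 + A := hg1v
  have hEE : Eab * Eab = 0 := Matrix.single_mul_single_of_ne _ _ _ _ (Ne.symm hd.hab) _
  have hAA : A * A = 0 := by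
    rw [hA, smul_mul_smul_comm, ← map_mul, pure_zero _ j (by simp [hX1, hj, hEE]), smul_zero]
  have hBB : B * B = 0 := by
    rw [hB, smul_mul_smul_comm, ← map_mul, pure_zero _ 0 (by simp [hX2, hEE]), smul_zero]
  have hABA : A * B * A = 0 := by
    have hKj : K j = false := by simp [K]
    rw [hA, hB, smul_mul_smul_comm, smul_mul_smul_comm, ← map_mul, ← map_mul,
      pure_zero _ j (by simp [hX1, hX2, hj, hKj, hj0.symm, hEE]), smul_zero]
  have hBAB : B * A * B = 0 := by
    rw [hA, hB, smul_mul_smul_comm, smul_mul_smul_comm, ← map_mul, ← map_mul,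
      pure_zero _ 0 (by simp [hX1, hX2, h0, hEE]), smul_zero]
  have hinv : ∀ (g : GL (Fin (t + 1) → Fin k) F) (M : Matrix _ _ F), g.val = 1 + M → M * M = 0 → (g⁻¹).val = 1 - M := by
    intro g M hg hM
    refine Units.inv_eq_of_mul_eq_one_right ?_
    rw [hg, add_mul, one_mul, mul_sub, mul_one, hM]
    abel
  set gΔ := g1 * g3 * g1⁻¹ * g3⁻¹
  have hgΔ : gΔ.val = 1 + (A * B - B * A) := by
    have e1 : ∀ X, X * A * B * A = (0 : Matrix (Fin (t + 1) → Fin k) (Fin (t + 1) → Fin k) F) := fun X => by
      rw [mul_assoc, mul_assoc, ← mul_assoc A, hABA, mul_zero]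
    simp only [gΔ, Units.val_mul, hg1v', hg3v, ← hB, hinv g1 A hg1v' hAA, hinv g3 B hg3v hBB, mul_add, add_mul, mul_sub,
      sub_mul, one_mul, mul_one, hAA, hBB, hABA, hBAB, zero_mul, sub_zero, zero_sub]
    noncomm_ring [hAA, hBB, hABA, hBAB]
  have hprod : ∀ x' : Fin k, pureTensor (fun i => if O' i then Eab else if K i then Matrix.single x' x' 1 else 1) =
      (pat a b x' O' K : Matrix (Fin (t + 1) → Fin k) (Fin (t + 1) → Fin k) F) := fun x' => rfl
  have hAB : A * B = (c * c) • pat a b a O' K := by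
    rw [hA, hB, smul_mul_smul_comm, ← map_mul, ← hprod]
    congr 2
    funext i
    simp only [Pi.mul_apply, hX1, hX2, O']
    rcases eq_or_ne i 0 with rfl | hi0
    · simp [h0]
    rcases eq_or_ne i j with rfl | hij
    · simp [hj, K, hi0]
    · cases hO : O i <;> simp [K, hij, hi0, hO, Eab, Eba]
  have hBA : B * A = (c * c) • pat a b b O' K := by
    rw [hA, hB, smul_mul_smul_comm, ← map_mul, ← hprod]
    congr 2
    funext i
    simp only [Pi.mul_apply, hX1, hX2, O']
    rcases eq_or_ne i 0 with rfl | hi0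
    · simp [h0]
    rcases eq_or_ne i j with rfl | hij
    · simp [hj, K, hi0]
    · cases hO : O i <;> simp [K, hij, hi0, hO, Eab, Eba]
  set Z : Matrix (Fin t → Fin k) (Fin t → Fin k) F :=
    (c * c) • pat a b a (O' ∘ Fin.succ) (K ∘ Fin.succ) - (c * c) • pat a b b (O' ∘ Fin.succ) (K ∘ Fin.succ) with hZ
  have hZm : Z ∈ corners hd G := by
    show _ ∈ G
    have e : cor σ J (Pi.single a 1) (frm_aa hd) Z = gΔ := Units.ext (by
      rw [hgΔ, hAB, hBA, cor_coe, Nm_a hd, hZ, pat_succ, pat_succ]
      simp only [O', decide_true, Bool.true_or, if_true, map_sub, map_smul, mul_sub, mul_smul_comm, Function.comp_def])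
    rw [e]
    exact mul_mem (mul_mem (mul_mem hg1 hg3G) (inv_mem hg1)) (inv_mem hg3G)
  have hZ0 : Z ≠ 0 := by
    obtain ⟨m', hm'⟩ := Fin.exists_succ_eq.2 hm0.symm
    have hKm : K m'.succ = true := by rw [hm']; simp [K, hm, hjm.symm]
    have hOm : O' m'.succ = false := by rw [hm']; simp [O', hm0.symm, hjm.symm]
    intro hz
    have h2 := congrFun (congrFun hz (fun _ => a)) (fun i => if O' i.succ = true then b else a)
    simp only [hZ, Matrix.sub_apply, Matrix.smul_apply, smul_eq_mul, pat, pureTensor_apply, Matrix.zero_apply,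
      Function.comp_apply] at h2
    rw [Finset.prod_eq_one (fun i _ => ?_), Finset.prod_eq_zero (Finset.mem_univ m') (by
      simp [Matrix.single_apply, hd.hab.symm, hOm, hKm]), mul_one, mul_zero, sub_zero] at h2
    · exact mul_ne_zero hc hc h2
    · split_ifs <;> simp_all [Matrix.single_apply]
  obtain ⟨c', hc', hmem⟩ := mix_root hd hbig t _ (corners_spc hd hG) (O' ∘ Fin.succ) (K ∘ Fin.succ) Z hZm hZ0
    (Submodule.mem_span_pair.2 ⟨-(c * c), c * c, by rw [hZ, neg_smul]; abel⟩)
  have := Has.of_corner hd hc' hmem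
  convert this using 1
  funext i
  induction i using Fin.cases with
  | zero => simp
  | succ i =>
    simp only [Fin.cons_succ, Function.update_of_ne (Fin.succ_ne_zero i), Function.comp_apply, O', K]
    rcases eq_or_ne i.succ j with e | e
    · rw [e, hj]; simp [hj0.symm]
    · simp [e, Fin.succ_ne_zero i]

/-- a root in two slots spreads to all slots -/
theorem has_all (hbig : Big σ k) {G : Subgroup (GL (Fin (t + 1) → Fin k) F)} (hG : Over σ J G)
    {O : Fin (t + 1) → Bool} (h : Has a b G O) {j m : Fin (t + 1)} (hjm : j ≠ m) (hj : O j = true) (hm : O m = true) :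
    Has a b G fun _ => true := by
  classical
  induction hn : (Finset.univ.filter fun i => O i = false).card using Nat.strong_induction_on generalizing O G j m with
  | _ n ih =>
  by_cases hall : ∀ i, O i = true
  · rwa [show (fun _ => true) = O from funext fun i => (hall i).symm]
  push Not at hall
  obtain ⟨l, hl⟩ := hall
  have hl' : O l = false := by simpa using hl
  set π := Equiv.swap (0 : Fin (t + 1)) l with hπ
  have hw : (permGL π : GL (Fin (t + 1) → Fin k) F) ∈ W0 σ J (t + 1) := perm_mem_W0 π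
  have h1 := h.conj_perm (π := π)
  have hsymm : π.symm = π := Equiv.symm_swap _ _
  rw [hsymm] at h1
  have h2 := grow hd hbig (hG.conjSub hw) h1 (by simp [hπ, hl'])
    (j := π j) (m := π m) (fun e => hjm (π.injective e)) (by simp [hπ, hj]) (by simp [hπ, hm])
  have hlt : (Finset.univ.filter fun i => Function.update (O ∘ π) 0 true i = false).card < n := by
    subst hn
    refine lt_of_lt_of_eq (Finset.card_lt_card ?_) (Finset.card_equiv π fun i => by simp : (Finset.univ.filter fun i => (O ∘ π) i = false).card = _)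
    refine Finset.ssubset_iff_of_subset (fun i hi => ?_) |>.2 ⟨0, by simp [hπ, hl'], by simp⟩
    simp only [Finset.mem_filter, Finset.mem_univ, true_and] at hi ⊢
    rcases eq_or_ne i 0 with rfl | hi0
    · simp at hi
    · rwa [Function.update_of_ne hi0] at hi
  have h3 := ih _ hlt (hG.conjSub hw) h2 (π.injective.ne hjm)
    (by rw [Function.update_apply]; simp [hπ, hj]) (by rw [Function.update_apply]; simp [hπ, hm]) rfl
  exact h3.of_conj_perm

/-- an overgroup which is not tame has a root in all slots, up to conjugation -/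
theorem has_of_not_tame (hbig : Big σ k) {G : Subgroup (GL (Fin (t + 1) → Fin k) F)} (hG : Over σ J G)
    (hT : ¬TameU σ J a b G) :
    ∃ w ∈ W0 σ J (t + 1), Has a b (TensorWreath.conjSub w G) fun _ => true := by
  obtain ⟨w, hw, B, hB, hns⟩ := corner_of_not_tame hd hG hT
  refine ⟨w, hw, ?_⟩
  obtain ⟨O, c, hc, hO, hne⟩ := exists_pure_root hd hbig t _ (corners_spc hd (hG.conjSub hw)) B hB
    (fun e => hns 0 (by rw [e, zero_smul]))
  obtain ⟨i, hi⟩ := hne hns
  exact has_all hd hbig (hG.conjSub hw) (Has.of_corner hd hc hO) (j := 0) (m := i.succ) (Fin.succ_ne_zero i).symm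
    (by simp) (by simp [hi])

end Cfsg.Agent.TensorWreath.Un
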