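import Cfsg.Agent.Lib.Forms.Max.TensorWreath.Unitary.Shape

/-!
# Elements preserving a slice of two tame overgroups
-/

set_option autoImplicit false
set_option linter.unusedSectionVars false

namespace Cfsg.Agent.TensorWreath.Un

open Matrix Cfsg.Agent.Aschbacher Cfsg.Agent.Forms.Max Cfsg.Agent.Forms.Max.UnitaryInLinear Cfsg.Agent.Forms.Max.HermTools

variable {F : Type*} [Field F] {k t : ℕ} {σ : F →+* F} {J : Matrix (Fin k) (Fin k) F} {a b : Fin k}

/-- the setting -/
structure PairU (σ : F →+* F) (J : Matrix (Fin k) (Fin k) F) (a b : Fin k)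
    (G G' : Subgroup (GL (Fin (t + 1) → Fin k) F)) (g : GL (Fin (t + 1) → Fin k) F) : Prop where
  base : BaseU σ J G
  base' : BaseU σ J G'
  tame : TameU σ J a b G
  tame' : TameU σ J a b G'
  iso : g ∈ Iso σ J (t + 1)
  maps : ∀ z ∈ G, g * z * g⁻¹ ∈ G'
  maps' : ∀ z ∈ G', g⁻¹ * z * g ∈ G
  col : ∀ x, x ≠ a → blk g.val x a = 0
  row : ∀ y, y ≠ b → blk g.val b y = 0

variable {G G' : Subgroup (GL (Fin (t + 1) → Fin k) F)} {g : GL (Fin (t + 1) → Fin k) F}

theorem PairU.inv_facts (h : PairU σ J a b G G' g) :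
    blk (g⁻¹).val a a * blk g.val a a = 1 ∧ blk g.val a a * blk (g⁻¹).val a a = 1 ∧
      blk g.val b b * blk (g⁻¹).val b b = 1 ∧ blk (g⁻¹).val b b * blk g.val b b = 1 ∧
      (∀ x, x ≠ a → blk (g⁻¹).val x a = 0) ∧ ∀ y, y ≠ b → blk (g⁻¹).val b y = 0 := by
  have e : blk (g⁻¹).val * blk g.val = 1 := by rw [← map_mul, ← Units.val_mul, inv_mul_cancel, Units.val_one, map_one]
  have e' : blk g.val * blk (g⁻¹).val = 1 := by rw [← map_mul, ← Units.val_mul, mul_inv_cancel, Units.val_one, map_one]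
  have col : ∀ x, blk (g⁻¹).val x a * blk g.val a a =
      (1 : Matrix (Fin k) (Fin k) (Matrix (Fin t → Fin k) (Fin t → Fin k) F)) x a := fun x => by
    rw [← e, Matrix.mul_apply, Finset.sum_eq_single_of_mem a (Finset.mem_univ a) fun d _ hd => ?_]
    rw [h.col d hd, mul_zero]
  have row : ∀ y, blk g.val b b * blk (g⁻¹).val b y =
      (1 : Matrix (Fin k) (Fin k) (Matrix (Fin t → Fin k) (Fin t → Fin k) F)) b y := fun y => by
    rw [← e', Matrix.mul_apply, Finset.sum_eq_single_of_mem b (Finset.mem_univ b) fun d _ hd => ?_]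
    rw [h.row d hd, zero_mul]
  have h1 : blk (g⁻¹).val a a * blk g.val a a = 1 := by rw [col, Matrix.one_apply_eq]
  have h2 := mul_eq_one_comm.1 h1
  have h3 : blk g.val b b * blk (g⁻¹).val b b = 1 := by rw [row, Matrix.one_apply_eq]
  have h4 := mul_eq_one_comm.1 h3
  refine ⟨h1, h2, h3, h4, fun x hx => ?_, fun y hy => ?_⟩
  · have := congrArg (· * blk (g⁻¹).val a a) (col x)
    rwa [mul_assoc, h2, mul_one, Matrix.one_apply_ne hx, zero_mul] at this
  · have := congrArg (blk (g⁻¹).val b b * ·) (row y)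
    rwa [← mul_assoc, h4, one_mul, Matrix.one_apply_ne hy.symm, mul_zero] at this

theorem PairU.symm (h : PairU σ J a b G G' g) : PairU σ J a b G' G g⁻¹ := by
  obtain ⟨-, -, -, -, hc, hr⟩ := h.inv_facts
  refine ⟨h.base', h.base, h.tame', h.tame, inv_mem h.iso, fun z hz => ?_, fun z hz => ?_, hc, hr⟩
  · rw [inv_inv]; exact h.maps' z hz
  · rw [inv_inv]; exact h.maps z hz

/-- conjugates of shaped slot elements -/
theorem PairU.conj_shp (hd : Hyp σ J a b) (h : PairU σ J a b G G' g) {s : GL (Fin k) F}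
    (hs : s ∈ isoSL (frm σ J)) (hshp : Shp a b (s.val - 1)) :
    g * sgl 0 s * g⁻¹ ∈ G' ∧ Shp a b (blk (g * sgl 0 s * g⁻¹).val - 1) ∧
      (∀ y, y ≠ a → y ≠ b → (blk (g * sgl 0 s * g⁻¹).val - 1) a y =
        ∑ q, (s.val - 1) a q • (blk g.val a a * blk (g⁻¹).val q y)) := by
  obtain ⟨-, -, -, -, hc, hr⟩ := h.inv_facts
  refine ⟨h.maps _ (h.base 0 s hs), fun x y hxy => ?_, fun y ha hb => ?_⟩
  · rw [conj_blk]
    refine Finset.sum_eq_zero fun p _ => Finset.sum_eq_zero fun q _ => ?_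
    by_cases hN : (p = a ∧ q ≠ a) ∨ (q = b ∧ p ≠ b)
    swap
    · rw [hshp p q hN, zero_smul]
    by_cases hy : y = a
    · have hq : q ≠ a := hN.elim (fun h => h.2) fun h e => hd.hab (e.symm.trans h.1)
      rw [hy, hc q hq, mul_zero, smul_zero]
    by_cases hx : x = b
    · have hp : p ≠ b := hN.elim (fun h e => hd.hab (h.1.symm.trans e)) fun h => h.2
      rw [hx, h.row p hp, zero_mul, smul_zero]
    push Not at hxy
    have hxa : x ≠ a := fun e => hy (hxy.1 e)
    have hyb : y ≠ b := fun e => hx (hxy.2 e)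
    rcases hN with ⟨rfl, -⟩ | ⟨rfl, -⟩
    · rw [h.col x hxa, zero_mul, smul_zero]
    · rw [hr y hyb, mul_zero, smul_zero]
  · rw [conj_blk, Finset.sum_eq_single_of_mem a (Finset.mem_univ a) fun p _ hp => ?_]
    refine Finset.sum_eq_zero fun q _ => ?_
    by_cases hN : (p = a ∧ q ≠ a) ∨ (q = b ∧ p ≠ b)
    · rw [(hN.resolve_left fun h => hp h.1).1, hr y hb, mul_zero, smul_zero]
    · rw [hshp p q hN, zero_smul]

variable [Finite F]

/-- slot Siegel elements are shaped -/
theorem sg_shp (hd : Hyp σ J a b) {u : Fin k → F} (hu : u ∈ mid F a b) :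
    ∃ s ∈ isoSL (frm σ J), Shp a b (s.val - 1) ∧ ∀ q, q ≠ b → (s.val - 1) a q = -phi σ J u q := by
  obtain ⟨hua, hub⟩ := mem_mid.1 hu
  obtain ⟨s, hs, r, hr⟩ := exists_sg hd hu
  have he : ∀ x y, (s.val - 1) x y =
      (if y = b then u x else 0) + (-phi σ J u y + r * (if y = b then 1 else 0)) * (if x = a then 1 else 0) := by
    intro x y
    have := congrFun (hr (Pi.single y 1)) x
    rw [mulVec_single_one] at this
    rw [Matrix.sub_apply, show s.val x y = _ from this, frm_eq, dotProduct_single, mul_one]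
    simp only [Pi.add_apply, Pi.smul_apply, smul_eq_mul, Pi.single_apply, Matrix.one_apply, mul_ite, ite_mul, one_mul,
      zero_mul, mul_one, mul_zero, eq_comm (a := b)]
    ring
  refine ⟨s, hs, fun x y hxy => ?_, fun q hq => by rw [he, if_neg hq]; simp [hq]⟩
  push Not at hxy
  rw [he]
  rcases eq_or_ne x a with rfl | hxa
  · have hy := hxy.1 rfl
    subst hy
    simp [hd.hab, phi_at_a hd, hub]
  · rw [if_neg hxa, mul_zero, add_zero]
    split_ifs with hy
    · rw [hxy.2 hy, hub]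
    · rfl

theorem exists_phi (hd : Hyp σ J a b) {φ : Fin k → F} (ha : φ a = 0) (hb : φ b = 0) :
    ∃ u ∈ mid F a b, phi σ J u = φ := by
  obtain ⟨u, hu⟩ := exists_repr hd.herm
    { toFun := fun x => φ ⬝ᵥ x
      map_add' := fun p q => dotProduct_add φ p q
      map_smul' := fun c p => dotProduct_smul c φ p }
  have e : phi σ J u = φ := dotProduct_eq _ _ fun x => by rw [← frm_eq]; exact hu x
  refine ⟨u, mem_mid.2 ⟨?_, ?_⟩, e⟩
  · have := congrArg σ (phi_at_b hd u)
    rw [hd.herm.inv, e, hb, map_zero] at this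
    exact this.symm
  · have := congrArg σ (phi_at_a hd u)
    rw [hd.herm.inv, e, ha, map_zero] at this
    exact this.symm

theorem PairU.inv_block (hd : Hyp σ J a b) (h : PairU σ J a b G G' g) :
    (∀ q y, q ≠ a → q ≠ b → y ≠ a → y ≠ b → ∃ r : F, blk (g⁻¹).val q y = r • blk (g⁻¹).val a a) ∧
      ∃ r : F, blk (g⁻¹).val b b = r • blk (g⁻¹).val a a := by
  obtain ⟨h1, h2, -, -, hc, hr⟩ := h.inv_facts
  refine ⟨fun q y hqa hqb hya hyb => ?_, ?_⟩
  · obtain ⟨u, hu, hphi⟩ := exists_phi hd (φ := Pi.single q (-1 : F)) (Pi.single_eq_of_ne hqa.symm _)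
      (Pi.single_eq_of_ne hqb.symm _)
    obtain ⟨s, hs, hshp, hrow⟩ := sg_shp hd hu
    obtain ⟨hmem, hZ, hent⟩ := h.conj_shp hd hs hshp
    obtain ⟨c, hc'⟩ := h.tame'.self hmem hZ y hya
    have e := hent y hya hyb
    rw [Finset.sum_eq_single_of_mem q (Finset.mem_univ q) fun p _ hp => ?_, hrow q hqb, hphi, Pi.single_eq_same, neg_neg,
      one_smul, Matrix.sub_apply, hc', Matrix.one_apply_ne (Ne.symm hya), sub_zero] at e
    · refine ⟨c, ?_⟩
      have := congrArg (blk (g⁻¹).val a a * ·) e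
      rw [← mul_assoc, h1, one_mul, mul_smul_comm, mul_one] at this
      exact this.symm
    · rcases eq_or_ne p b with rfl | hpb
      · rw [hr y hyb, mul_zero, smul_zero]
      · rw [hrow p hpb, hphi, Pi.single_eq_of_ne hp, neg_zero, zero_smul]
  · obtain ⟨c, hc0, hc'⟩ := exists_skew hd.herm
    set s := tvU σ J (Pi.single a 1) (frm_aa hd) c with hsdef
    have hs : s ∈ isoSL (frm σ J) := tvU_mem hd.herm _ _ (trace_zero_of hd.herm hc')
    have hN : s.val - 1 = c • Matrix.single a b (1 : F) := by rw [hsdef, tvU_coe, add_sub_cancel_left, Nm_a hd]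
    have hshp : Shp a b (s.val - 1) := fun x y hxy => by
      rw [hN, Matrix.smul_apply, Matrix.single_apply, if_neg, smul_zero]
      rintro ⟨rfl, rfl⟩
      exact hxy (Or.inl ⟨rfl, hd.hab.symm⟩)
    obtain ⟨hmem, hZ, -⟩ := h.conj_shp hd hs hshp
    obtain ⟨d, hd'⟩ := h.tame'.self hmem hZ b hd.hab.symm
    have e := conj_blk g s a b
    rw [hN, Finset.sum_eq_single_of_mem a (Finset.mem_univ a) fun p _ hp => ?_,
      Finset.sum_eq_single_of_mem b (Finset.mem_univ b) fun q _ hq => ?_, Matrix.smul_apply, Matrix.single_apply_same,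
      smul_eq_mul, mul_one, Matrix.sub_apply, hd', Matrix.one_apply_ne hd.hab, sub_zero] at e
    · refine ⟨c⁻¹ * d, ?_⟩
      have := congrArg (fun M => c⁻¹ • (blk (g⁻¹).val a a * M)) e
      rw [mul_smul_comm, mul_one, smul_smul, mul_smul_comm, smul_smul, inv_mul_cancel₀ hc0, one_smul, ← mul_assoc, h1,
        one_mul] at this
      exact this.symm
    · rw [Matrix.smul_apply, Matrix.single_apply, if_neg (fun h' => hq h'.2.symm), smul_zero, zero_smul]
    · refine Finset.sum_eq_zero fun q _ => ?_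
      rw [Matrix.smul_apply, Matrix.single_apply, if_neg (fun h' => hp h'.1.symm), smul_zero, zero_smul]

end Cfsg.Agent.TensorWreath.Un
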