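import Cfsg.Agent.Lib.Forms.Max.TensorWreath.Unitary.Descent

/-!
# Pure roots inside spaces stable under the slot isometries
-/

set_option autoImplicit false
set_option linter.unusedSectionVars false

namespace Cfsg.Agent.TensorWreath.Un

open Matrix Cfsg.Agent.Aschbacher Cfsg.Agent.Forms.Max Cfsg.Agent.Forms.Max.UnitaryInLinear Cfsg.Agent.Forms.Max.HermTools

variable {F : Type*} [Field F] [Fintype F] {k t : ℕ} {σ : F →+* F} {J : Matrix (Fin k) (Fin k) F} {a b : Fin k}

/-- a pure product of roots -/
def np (a b : Fin k) (O : Fin t → Bool) : Matrix (Fin t → Fin k) (Fin t → Fin k) F :=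
  pureTensor fun i => if O i then Matrix.single a b 1 else 1

/-- roots and projectors -/
def pat (a b x : Fin k) (O K : Fin t → Bool) : Matrix (Fin t → Fin k) (Fin t → Fin k) F :=
  pureTensor fun i => if O i then Matrix.single a b 1 else if K i then Matrix.single x x 1 else 1

theorem S0_lift_pure (z : Matrix (Fin k) (Fin k) F) (X : Fin t → Matrix (Fin k) (Fin k) F) :
    S (0 : Fin (t + 1)) z * lift (pureTensor X) = pureTensor (Fin.cons z X) := by
  rw [lift_pure, slotHom_apply, ← map_mul]
  congr 1
  funext i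
  induction i using Fin.cases with
  | zero => simp
  | succ i => simp [Pi.mulSingle_eq_of_ne (Fin.succ_ne_zero i)]

theorem np_succ (O : Fin (t + 1) → Bool) :
    (np a b O : Matrix (Fin (t + 1) → Fin k) (Fin (t + 1) → Fin k) F) =
      S 0 (if O 0 then Matrix.single a b 1 else 1) * lift (np a b (O ∘ Fin.succ)) := by
  rw [np, np, S0_lift_pure]
  congr 1
  funext i
  induction i using Fin.cases <;> simp

theorem pat_succ (x : Fin k) (O K : Fin (t + 1) → Bool) :
    (pat a b x O K : Matrix (Fin (t + 1) → Fin k) (Fin (t + 1) → Fin k) F) =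
      S 0 (if O 0 then Matrix.single a b 1 else if K 0 then Matrix.single x x 1 else 1) *
        lift (pat a b x (O ∘ Fin.succ) (K ∘ Fin.succ)) := by
  rw [pat, pat, S0_lift_pure]
  congr 1
  funext i
  induction i using Fin.cases <;> simp

variable (hd : Hyp σ J a b)
include hd

/-- mixtures of two projector patterns give the full root -/
theorem mix_root (hbig : Big σ k) :
    ∀ (t : ℕ) (V : AddSubgroup (Matrix (Fin t → Fin k) (Fin t → Fin k) F)), Spc σ J V → ∀ (O K : Fin t → Bool) Y,
      Y ∈ V → Y ≠ 0 → Y ∈ Submodule.span F {pat a b b O K, pat a b a O K} →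
      ∃ c : F, c ≠ 0 ∧ c • np a b (fun i => O i || K i) ∈ V := by
  intro t
  induction t with
  | zero =>
    intro V _ O K Y hY hY0 hs
    obtain ⟨x, y, hxy⟩ := Submodule.mem_span_pair.1 hs
    have e : ∀ z, (pat a b z O K : Matrix (Fin 0 → Fin k) (Fin 0 → Fin k) F) = np a b fun i => O i || K i := fun z =>
      congrArg pureTensor (funext fun i => i.elim0)
    rw [e, e, ← add_smul] at hxy
    exact ⟨x + y, fun h => hY0 (by rw [← hxy, h, zero_smul]), hxy ▸ hY⟩
  | succ t ih =>
    intro V hV O K Y hY hY0 hs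
    classical
    obtain ⟨x, y, hxy⟩ := Submodule.mem_span_pair.1 hs
    set W : Submodule F (Matrix (Fin t → Fin k) (Fin t → Fin k) F) :=
      Submodule.span F {pat a b b (O ∘ Fin.succ) (K ∘ Fin.succ), pat a b a (O ∘ Fin.succ) (K ∘ Fin.succ)}
    set z : Fin k → Matrix (Fin k) (Fin k) F := fun p =>
      if O 0 then Matrix.single a b 1 else if K 0 then Matrix.single p p 1 else 1 with hz
    have hblk : ∀ p q, blk Y p q = (x * z b p q) • pat a b b (O ∘ Fin.succ) (K ∘ Fin.succ) +
        (y * z a p q) • pat a b a (O ∘ Fin.succ) (K ∘ Fin.succ) := fun p q => by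
      rw [← hxy, map_add, map_smul, map_smul, pat_succ, pat_succ, Matrix.add_apply, Matrix.smul_apply, Matrix.smul_apply,
        blk_S0_lift, blk_S0_lift, smul_smul, smul_smul]
    have hW : ∀ p q, blk Y p q ∈ W := fun p q => by
      rw [hblk]
      exact W.add_mem (W.smul_mem _ (Submodule.subset_span (Set.mem_insert _ _)))
        (W.smul_mem _ (Submodule.subset_span (Set.mem_insert_of_mem _ rfl)))
    by_cases hOK : (O 0 || K 0) = true
    · have hl : ¬∃ h, Y = lift h := by
        rintro ⟨h, rfl⟩
        obtain ⟨c, hca, hcb⟩ := exists_third' hd.hk a b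
        have h1 := hblk c c
        have hzc : ∀ p, p = a ∨ p = b → z p c c = 0 := by
          intro p hp
          rw [hz]
          dsimp only
          by_cases hO : O 0 = true
          · rw [if_pos hO, Matrix.single_apply, if_neg fun h => hca h.1.symm]
          · rw [if_neg hO, if_pos (by simpa [hO] using hOK), Matrix.single_apply, if_neg]
            rcases hp with rfl | rfl
            exacts [fun h => hca h.1.symm, fun h => hcb h.1.symm]
        rw [blk_lift, Matrix.diagonal_apply_eq, hzc b (Or.inr rfl), hzc a (Or.inl rfl), mul_zero, mul_zero, zero_smul,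
          zero_smul, add_zero] at h1
        exact hY0 (by rw [h1, map_zero])
      obtain ⟨h, hh0, hh, hhW⟩ := descend hd hbig hV hY hl
      obtain ⟨c, hc, hcmem⟩ := ih _ (hV.down _) _ _ h (mem_down.2 hh) hh0 (hhW W hW)
      refine ⟨c, hc, ?_⟩
      rw [mem_down, map_smul, mul_smul_comm] at hcmem
      rw [np_succ, if_pos hOK]
      exact hcmem
    · have hO : O 0 = false := by simp_all
      have hK : K 0 = false := by simp_all
      set h : Matrix (Fin t → Fin k) (Fin t → Fin k) F :=
        x • pat a b b (O ∘ Fin.succ) (K ∘ Fin.succ) + y • pat a b a (O ∘ Fin.succ) (K ∘ Fin.succ) with hh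
      have hYh : Y = S 0 1 * lift h := by
        rw [← hxy, hh, map_add, map_smul, map_smul, mul_add, mul_smul_comm, mul_smul_comm, pat_succ, pat_succ]
        simp [hO, hK]
      obtain ⟨c, hc, hcmem⟩ := ih _ (hV.down 1) _ _ h (mem_down.2 (hYh ▸ hY))
        (fun e => hY0 (by rw [hYh, e, map_zero, mul_zero])) (Submodule.mem_span_pair.2 ⟨x, y, rfl⟩)
      refine ⟨c, hc, ?_⟩
      rw [mem_down, map_smul, mul_smul_comm] at hcmem
      rw [np_succ, if_neg hOK]
      exact hcmem

/-- every non-zero element gives a pure root -/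
theorem exists_pure_root (hbig : Big σ k) :
    ∀ (t : ℕ) (V : AddSubgroup (Matrix (Fin t → Fin k) (Fin t → Fin k) F)), Spc σ J V → ∀ Y,
      Y ∈ V → Y ≠ 0 → ∃ (O : Fin t → Bool) (c : F), c ≠ 0 ∧ c • np a b O ∈ V ∧
        ((∀ r : F, Y ≠ r • 1) → ∃ i, O i = true) := by
  intro t
  induction t with
  | zero =>
    intro V _ Y hY hY0
    have e1 : (np a b (fun i : Fin 0 => false) : Matrix (Fin 0 → Fin k) (Fin 0 → Fin k) F) = 1 := by
      rw [np]; exact (congrArg pureTensor (funext fun i => i.elim0)).trans (map_one _)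
    have eY : Y = Y (fun i => i.elim0) (fun i => i.elim0) • (1 : Matrix _ _ F) := by
      ext p q
      obtain rfl : p = fun i => i.elim0 := funext fun i => i.elim0
      obtain rfl : q = fun i => i.elim0 := funext fun i => i.elim0
      simp
    exact ⟨fun i => false, Y (fun i => i.elim0) (fun i => i.elim0), fun h => hY0 (by rw [eY, h, zero_smul]), by rw [e1, ← eY]; exact hY,
      fun h => absurd eY (h _)⟩
  | succ t ih =>
    intro V hV Y hY hY0
    by_cases hl : ∃ h, Y = lift h
    · obtain ⟨h, rfl⟩ := hl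
      obtain ⟨O, c, hc, hmem, hne⟩ := ih _ (hV.down 1) h (mem_down.2 (by rwa [map_one, one_mul]))
        (fun e => hY0 (by rw [e, map_zero]))
      refine ⟨Fin.cons false O, c, hc, ?_, fun hns => ?_⟩
      · rw [mem_down, map_smul, mul_smul_comm] at hmem
        rw [np_succ]
        simpa using hmem
      · obtain ⟨i, hi⟩ := hne fun r hr => hns r (by rw [hr, map_smul, map_one])
        exact ⟨i.succ, by rw [Fin.cons_succ]; exact hi⟩
    · obtain ⟨h, hh0, hh, -⟩ := descend hd hbig hV hY hl
      obtain ⟨O, c, hc, hmem, -⟩ := ih _ (hV.down _) h (mem_down.2 hh) hh0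
      refine ⟨Fin.cons true O, c, hc, ?_, fun _ => ⟨0, rfl⟩⟩
      rw [mem_down, map_smul, mul_smul_comm] at hmem
      rw [np_succ]
      simpa using hmem

end Cfsg.Agent.TensorWreath.Un
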