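import Cfsg.Agent.Lib.Forms.Max.TensorWreath.Unitary.Setting

/-!
# Blocks of radical and Levi elements
-/

set_option autoImplicit false
set_option linter.unusedSectionVars false

namespace Cfsg.Agent.TensorWreath.Un

open Matrix Cfsg.Agent.Aschbacher Cfsg.Agent.Forms.Max Cfsg.Agent.Forms.Max.UnitaryInLinear Cfsg.Agent.Forms.Max.HermTools

variable {F : Type*} [Field F] {k t : ℕ} {σ : F →+* F} {J : Matrix (Fin k) (Fin k) F} {a b : Fin k}

/-- there are enough scalars when the middle space has dimension one -/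
def Big {F : Type*} [Field F] (σ : F →+* F) (k : ℕ) : Prop := 4 ≤ k ∨ ∃ l : F, l ≠ 0 ∧ l * σ l ≠ 1

/-- shaped unipotent matrices over a ring of blocks -/
theorem shp_mul {R : Type*} [Ring R] (hab : a ≠ b) {U V : Matrix (Fin k) (Fin k) R} (hU : Shp a b (U - 1))
    (hV : Shp a b (V - 1)) :
    Shp a b (U * V - 1) ∧ ∀ y, y ≠ a → y ≠ b → (U * V) a y = U a y + V a y := by
  have key : ∀ x y, (U * V) x y = (U - 1) x y + (V - 1) x y + (1 : Matrix (Fin k) (Fin k) R) x y +
      ∑ p, (U - 1) x p * (V - 1) p y := fun x y => by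
    have e : U * V = (U - 1) + (V - 1) + 1 + (U - 1) * (V - 1) := by noncomm_ring
    rw [e, Matrix.add_apply, Matrix.add_apply, Matrix.add_apply, Matrix.mul_apply]
  refine ⟨fun x y h => ?_, fun y ha hb => ?_⟩
  · rw [Matrix.sub_apply, key, hU x y h, hV x y h, zero_add, zero_add, add_sub_cancel_left]
    refine Finset.sum_eq_zero fun p _ => ?_
    by_cases h1 : (x = a ∧ p ≠ a) ∨ (p = b ∧ x ≠ b)
    · by_cases h2 : (p = a ∧ y ≠ a) ∨ (y = b ∧ p ≠ b)
      · exfalso
        rcases h1 with ⟨hx, hp⟩ | ⟨hp, hx⟩ <;> rcases h2 with ⟨hp', hy⟩ | ⟨hy, hp'⟩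
        · exact hp hp'
        · exact h (Or.inr ⟨hy, fun e => hab (hx.symm.trans e)⟩)
        · exact hab (hp'.symm.trans hp)
        · exact hp' hp
      · rw [hV p y h2, mul_zero]
    · rw [hU x p h1, zero_mul]
  · have hay : (1 : Matrix (Fin k) (Fin k) R) a y = 0 := Matrix.one_apply_ne (Ne.symm ha)
    rw [key, Matrix.sub_apply, Matrix.sub_apply, hay, sub_zero, sub_zero, add_zero, add_eq_left]
    refine Finset.sum_eq_zero fun p _ => ?_
    by_cases hp : p = a
    · subst hp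
      rw [hU p p (by rintro (⟨-, h⟩ | ⟨h, -⟩); exacts [h rfl, hab h]), zero_mul]
    · rw [hV p y (by rintro (⟨h, -⟩ | ⟨h, -⟩); exacts [hp h, hb h]), mul_zero]

theorem shp_diag_aa {R : Type*} [Ring R] (hab : a ≠ b) {U : Matrix (Fin k) (Fin k) R} (hU : Shp a b (U - 1)) :
    U a a = 1 ∧ U b b = 1 := by
  constructor
  · have := hU a a (by rintro (⟨-, h⟩ | ⟨h, -⟩); exacts [h rfl, hab h])
    rwa [Matrix.sub_apply, Matrix.one_apply_eq, sub_eq_zero] at this
  · have := hU b b (by rintro (⟨h, -⟩ | ⟨-, h⟩); exacts [hab h.symm, h rfl])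
    rwa [Matrix.sub_apply, Matrix.one_apply_eq, sub_eq_zero] at this

/-- blocks of a conjugate of a slot element -/
theorem conj_blk (g : GL (Fin (t + 1) → Fin k) F) (s : GL (Fin k) F) (x y : Fin k) :
    (blk (g * sgl 0 s * g⁻¹).val - 1) x y =
      ∑ p, ∑ q, (s.val - 1) p q • (blk g.val x p * blk (g⁻¹).val q y) := by
  have e : blk (g * sgl 0 s * g⁻¹).val - 1 = blk g.val * (s.val - 1).map (algebraMap F _) * blk (g⁻¹).val := by
    rw [← blk_S_zero, map_sub, map_one, map_sub, map_one, mul_sub, sub_mul, mul_one, ← map_mul blk g.val (g⁻¹).val,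
      ← Units.val_mul, mul_inv_cancel, Units.val_one, map_one, ← sgl_coe, ← map_mul, ← map_mul, ← Units.val_mul,
      ← Units.val_mul]
  rw [e, Matrix.mul_apply, Finset.sum_comm]
  refine Finset.sum_congr rfl fun q _ => ?_
  rw [Matrix.mul_apply, Finset.sum_mul]
  refine Finset.sum_congr rfl fun p _ => ?_
  rw [Matrix.map_apply, ← Algebra.commutes, ← Algebra.smul_def, smul_mul_assoc]

/-- blocks of a product with a slot element on both sides -/
theorem slot_mul_blk (h h' : Matrix (Fin k) (Fin k) F) (M : Matrix (Fin (t + 1) → Fin k) (Fin (t + 1) → Fin k) F)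
    (x y : Fin k) : blk (S 0 h * M * S 0 h') x y = ∑ p, ∑ q, (h x p * h' q y) • blk M p q := by
  rw [map_mul, map_mul, Matrix.mul_apply, Finset.sum_comm]
  refine Finset.sum_congr rfl fun q _ => ?_
  rw [Matrix.mul_apply, Finset.sum_mul]
  refine Finset.sum_congr rfl fun p _ => ?_
  rw [blk_S_zero, blk_S_zero, Matrix.map_apply, Matrix.map_apply, ← Algebra.commutes, ← Algebra.smul_def,
    ← Algebra.smul_def, smul_smul, mul_comm]

/-- fixing both lines of the pair -/
structure Levi (a b : Fin k) (h : Matrix (Fin k) (Fin k) F) : Prop where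
  colA : ∀ x, x ≠ a → h x a = 0
  rowA : ∀ y, y ≠ a → h a y = 0
  colB : ∀ x, x ≠ b → h x b = 0
  rowB : ∀ y, y ≠ b → h b y = 0

theorem Levi.shp (hab : a ≠ b) {h h' : Matrix (Fin k) (Fin k) F} (hl : Levi a b h) (hl' : Levi a b h') (e : h * h' = 1)
    {M : Matrix (Fin (t + 1) → Fin k) (Fin (t + 1) → Fin k) F} (hM : Shp a b (blk M - 1)) :
    Shp a b (blk (S 0 h * M * S 0 h') - 1) ∧
      ∀ y, y ≠ a → y ≠ b → blk (S 0 h * M * S 0 h') a y = ∑ q, (h a a * h' q y) • blk M a q := by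
  refine ⟨fun x y hxy => ?_, fun y ha hb => ?_⟩
  · have e1 : S (0 : Fin (t + 1)) h * (1 : Matrix _ _ F) * S 0 h' = 1 := by rw [mul_one, ← map_mul, e, map_one]
    have e2 : blk (S 0 h * M * S 0 h') - 1 = blk (S 0 h * (M - 1) * S 0 h') := by
      rw [mul_sub, sub_mul, map_sub, e1, map_one]
    rw [e2, slot_mul_blk]
    refine Finset.sum_eq_zero fun p _ => Finset.sum_eq_zero fun q _ => ?_
    rw [map_sub, map_one]
    by_cases h0 : h x p * h' q y = 0
    · rw [h0, zero_smul]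
    rw [hM p q, smul_zero]
    rintro (⟨hp, hq⟩ | ⟨hq, hp⟩)
    · have hx : x = a := by by_contra hx; exact h0 (by rw [hp, hl.colA x hx, zero_mul])
      refine hxy (Or.inl ⟨hx, fun hy => h0 ?_⟩)
      rw [hy, hl'.colA q hq, mul_zero]
    · have hy : y = b := by by_contra hy; exact h0 (by rw [hq, hl'.rowB y hy, mul_zero])
      refine hxy (Or.inr ⟨hy, fun hx => h0 ?_⟩)
      rw [hx, hl.rowB p hp, zero_mul]
  · rw [slot_mul_blk, Finset.sum_eq_single_of_mem a (Finset.mem_univ a) fun p _ hp => ?_]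
    refine Finset.sum_eq_zero fun q _ => ?_
    rw [hl.rowA p hp, zero_mul, zero_smul]

variable (hd : Hyp σ J a b)
include hd

theorem levi_of [Finite F] {h : GL (Fin k) F} (hh : h ∈ isoSL (frm σ J)) {l m : F} (hl : l ≠ 0) (hm : m ≠ 0)
    (ha : h.val *ᵥ Pi.single a 1 = l • Pi.single a 1) (hb : h.val *ᵥ Pi.single b 1 = m • Pi.single b 1) :
    Levi a b h.val ∧ Levi a b (h⁻¹).val ∧ h.val a a = l ∧
      (h⁻¹).val *ᵥ Pi.single a 1 = l⁻¹ • Pi.single a 1 ∧ (h⁻¹).val *ᵥ Pi.single b 1 = m⁻¹ • Pi.single b 1 := by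
  have inv : ∀ {g : GL (Fin k) F} {v : Fin k → F} {r : F}, r ≠ 0 → g.val *ᵥ v = r • v → (g⁻¹).val *ᵥ v = r⁻¹ • v := by
    intro g v r hr e
    have h1 := congrArg ((g⁻¹).val *ᵥ ·) e
    simp only [mulVec_mulVec, ← Units.val_mul, inv_mul_cancel, Units.val_one, one_mulVec, mulVec_smul] at h1
    conv_rhs => rw [h1, smul_smul, inv_mul_cancel₀ hr, one_smul]
  have key : ∀ {g : GL (Fin k) F}, g ∈ isoSL (frm σ J) → ∀ {r s : F}, r ≠ 0 → s ≠ 0 →
      g.val *ᵥ Pi.single a 1 = r • Pi.single a 1 → g.val *ᵥ Pi.single b 1 = s • Pi.single b 1 → Levi a b g.val := by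
    intro g hg r s hr hs ea eb
    refine ⟨fun x hx => ?_, fun y hy => ?_, fun x hx => ?_, fun y hy => ?_⟩
    · have := congrFun ea x
      simpa [hx] using this
    · have e1 : g.val a y = frm σ J (g.val *ᵥ Pi.single y 1) (Pi.single b 1) := by
        rw [frm_b hd]; simp
      rw [e1, ← inv_inv g, iso_inv_frm (inv_mem hg), inv hs eb, smul_right hd.herm, frm_b hd, Pi.single_eq_of_ne (Ne.symm hy), mul_zero]
    · have := congrFun eb x
      simpa [hx] using this
    · have e1 : g.val b y = frm σ J (g.val *ᵥ Pi.single y 1) (Pi.single a 1) := by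
        rw [frm_a hd]; simp
      rw [e1, ← inv_inv g, iso_inv_frm (inv_mem hg), inv hr ea, smul_right hd.herm, frm_a hd, Pi.single_eq_of_ne (Ne.symm hy), mul_zero]
  refine ⟨key hh hl hm ha hb, key (inv_mem hh) (inv_ne_zero hl) (inv_ne_zero hm) (inv hl ha) (inv hm hb), ?_,
    inv hl ha, inv hm hb⟩
  simpa using congrFun ha a

end Cfsg.Agent.TensorWreath.Un
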