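import Cfsg.Agent.Lib.Forms.Max.TensorWreath.Unitary.Setting
import Cfsg.Agent.Lib.Forms.Max.TensorWreath.Unitary.Shape

/-!
# Conjugates of slot transvections inside the wreath group
-/

set_option autoImplicit false
set_option linter.unusedSectionVars false

namespace Cfsg.Agent.TensorWreath.Un

open Matrix Cfsg.Agent.Aschbacher Cfsg.Agent.Forms.Max Cfsg.Agent.Forms.Max.UnitaryInLinear Cfsg.Agent.Forms.Max.HermTools

variable {F : Type*} [Field F] [Fintype F] {k t : ℕ} {σ : F →+* F} {J : Matrix (Fin k) (Fin k) F} {a b : Fin k}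

theorem tvU_add (e : Fin k → F) (he : frm σ J e e = 0) (c d : F) :
    tvU σ J e he c * tvU σ J e he d = tvU σ J e he (c + d) := by
  refine Units.ext ?_
  rw [Units.val_mul, tvU_coe, tvU_coe, tvU_coe, mul_add, mul_one, add_mul, one_mul, smul_mul_smul_comm, Nm_mul_self he,
    smul_zero, add_zero, add_smul]
  abel

theorem tvU_zero (e : Fin k → F) (he : frm σ J e e = 0) : tvU σ J e he 0 = 1 :=
  Units.ext (by rw [tvU_coe, zero_smul, add_zero, Units.val_one])

theorem tvU_inv (e : Fin k → F) (he : frm σ J e e = 0) (c : F) : (tvU σ J e he c)⁻¹ = tvU σ J e he (-c) :=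
  inv_eq_of_mul_eq_one_right (by rw [tvU_add, add_neg_cancel, tvU_zero])

theorem sgl_tv_sub (i : Fin t) (e : Fin k → F) (he : frm σ J e e = 0) (c : F) :
    (sgl i (tvU σ J e he c)).val - 1 = c • S i (Nm σ J e) := by
  rw [sgl_coe, tvU_coe, map_add, map_one, add_sub_cancel_left, map_smul]

theorem slot_of_iso (hd : Hyp σ J a b) {i : Fin t} {M : GL (Fin k) F} (h : sgl i M ∈ Iso σ J t) :
    ∀ x y, frm σ J (M.val *ᵥ x) (M.val *ᵥ y) = frm σ J x y := by
  classical
  have e : M.valᵀ * J * M.val.map σ = J := by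
    rw [mem_Iso, sgl_coe, slotHom_apply, pure_transpose, pure_map, gram, ← map_mul, ← map_mul] at h
    ext p q
    have := congrFun (congrFun h (Function.update (fun _ => a) i p)) (Function.update (fun _ => b) i q)
    rw [pureTensor_apply, pureTensor_apply, ← Finset.mul_prod_erase _ _ (Finset.mem_univ i),
      ← Finset.mul_prod_erase _ _ (Finset.mem_univ i)] at this
    have hr : ∀ l ∈ Finset.univ.erase i, ∀ N : Matrix (Fin k) (Fin k) F,
        N (Function.update (fun _ => a) i p l) (Function.update (fun _ => b) i q l) = N a b := fun l hl N => by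
      rw [Function.update_of_ne (Finset.ne_of_mem_erase hl), Function.update_of_ne (Finset.ne_of_mem_erase hl)]
    rw [Finset.prod_eq_one (f := fun l => J _ _) (fun l hl => by rw [hr l hl J, hd.jb, if_pos rfl]),
      Finset.prod_eq_one (fun l hl => by
        simp only [Pi.mul_apply, Pi.mulSingle_eq_of_ne (Finset.ne_of_mem_erase hl), transpose_one,
          Matrix.map_one _ (map_zero σ) (map_one σ), one_mul, mul_one]
        rw [hr l hl J, hd.jb, if_pos rfl])] at this
    simpa using this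
  intro x y
  simp only [frm]
  rw [formOfGram_mul, e]

/-- slot transvections which are isometries -/
theorem tv_of_iso (hd : Hyp σ J a b) {i : Fin t} {v φ : Fin k → F} {h0 : φ ⬝ᵥ v = 0}
    (h : sgl i (trv v φ h0) ∈ Iso σ J t) (hv : v ≠ 0) (hφ : φ ≠ 0) :
    ∃ (he : frm σ J v v = 0) (c : F), c ≠ 0 ∧ trv v φ h0 = tvU σ J v he c := by
  have hh := hd.herm
  have hiso := slot_of_iso hd h
  have key : ∀ x y, (φ ⬝ᵥ x) * frm σ J v y + σ (φ ⬝ᵥ y) * frm σ J x v + (φ ⬝ᵥ x) * σ (φ ⬝ᵥ y) * frm σ J v v = 0 := by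
    intro x y
    have := hiso x y
    rw [trv_mulVec, trv_mulVec] at this
    simp only [hh.add, add_right hh, hh.smul, smul_right hh] at this
    linear_combination this
  have hker : ∀ x, frm σ J x v = 0 → φ ⬝ᵥ x = 0 := by
    intro x hx
    by_contra hne
    have h1 : ∀ y, frm σ J v y + σ (φ ⬝ᵥ y) * frm σ J v v = 0 := fun y => by
      have := key x y
      rw [hx, mul_zero, add_zero] at this
      refine (mul_eq_zero.1 ?_).resolve_left hne
      linear_combination this
    have h2 := h1 v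
    rw [h0, map_zero, zero_mul, add_zero] at h2
    refine hv (hh.nd v fun y => ?_)
    have := h1 y
    rwa [h2, mul_zero, add_zero] at this
  obtain ⟨x₀, hx₀⟩ := exists_value_one hh hv
  have hφe : φ = (φ ⬝ᵥ x₀) • phi σ J v := by
    refine dotProduct_eq _ _ fun x => ?_
    rw [smul_dotProduct, ← frm_eq, smul_eq_mul]
    have := hker (x - frm σ J x v • x₀) (by rw [sub_left hh, hh.smul, hx₀, mul_one, sub_self])
    rw [dotProduct_sub, dotProduct_smul, sub_eq_zero, smul_eq_mul] at this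
    rw [this, mul_comm]
  have hc : φ ⬝ᵥ x₀ ≠ 0 := fun e => hφ (by rw [hφe, e, zero_smul])
  have he : frm σ J v v = 0 := by
    have h1 := h0
    rw [hφe, smul_dotProduct, ← frm_eq, smul_eq_mul] at h1
    exact (mul_eq_zero.1 h1).resolve_left hc
  refine ⟨he, φ ⬝ᵥ x₀, hc, Units.ext ?_⟩
  rw [tvU_coe, trv_coe]
  conv_lhs => rw [hφe, vecMulVec_smul]
  rfl

theorem S_ne_zero' {i : Fin t} {z : Matrix (Fin k) (Fin k) F} (hk : 0 < k) (hz : z ≠ 0) : S i z ≠ 0 := by
  haveI : Nonempty (Fin t → Fin k) := ⟨fun _ => ⟨0, hk⟩⟩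
  exact fun h => hz (algHom_matrix_injective (S (F := F) (m := k) i) (h.trans (map_zero _).symm))

/-- a conjugate of a slot transvection in the wreath group is a slot transvection or, in one exceptional case, a transposition -/
theorem conj_root (hd : Hyp σ J a b) {t : ℕ} (g : GL (Fin (t + 1) → Fin k) F) (hg : g ∈ Iso σ J (t + 1))
    (i : Fin (t + 1)) (e : Fin k → F) (he : frm σ J e e = 0) (he0 : e ≠ 0) {c : F} (hc : c + σ c = 0) (hc0 : c ≠ 0)
    (hW : g * sgl i (tvU σ J e he c) * g⁻¹ ∈ Wr F k (t + 1)) :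
    (∃ (j : Fin (t + 1)) (f : Fin k → F) (hf : frm σ J f f = 0) (d : F), f ≠ 0 ∧ d ≠ 0 ∧
      g * sgl i (tvU σ J e he c) * g⁻¹ = sgl j (tvU σ J f hf d)) ∨
    (k = 3 ∧ (2 : F) = 0 ∧ ∃ (j l : Fin (t + 1)) (q : Fin (t + 1) → GL (Fin k) F), j ≠ l ∧
      g * sgl i (tvU σ J e he c) * g⁻¹ = permGL (Equiv.swap j l) * pureGL q) := by
  obtain ⟨p, hp⟩ := CharP.exists F
  haveI : Fact p.Prime := ⟨(CharP.char_is_prime_or_zero F p).resolve_right (CharP.char_ne_zero_of_finite F p)⟩
  have hsub : (g * sgl i (tvU σ J e he c) * g⁻¹).val - 1 = conjMat g (c • S i (Nm σ J e)) := by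
    rw [conj_val_sub, sgl_tv_sub]
  rcases classify p hd.hk (Nat.succ_pos t) hW
    (by rw [hsub, ← map_mul, smul_mul_smul_comm, ← map_mul (S i), Nm_mul_self he, map_zero, smul_zero, map_zero])
    (by
      rw [hsub, rank_conjMat, ← map_smul, Nm, ← smul_vecMulVec]
      exact rank_S_le i _ _) with ⟨j, v, φ, h0, e1⟩ | ⟨hk, rfl, j, l, q, hjl, e1⟩
  · left
    have hne : (sgl j (trv v φ h0)).val - 1 ≠ 0 := by
      rw [← e1, hsub, map_ne_zero_iff _ (conjMat g).injective, ← map_smul]
      exact S_ne_zero' (Fin.pos a) (smul_ne_zero hc0 (Nm_ne_zero hd.herm he0))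
    rw [sgl_trv_sub] at hne
    have hv : v ≠ 0 := fun e => hne (by rw [e, zero_vecMulVec, map_zero])
    have hφ : φ ≠ 0 := fun e => hne (by rw [e, vecMulVec_zero, map_zero])
    have hiso : sgl j (trv v φ h0) ∈ Iso σ J (t + 1) :=
      e1 ▸ mul_mem (mul_mem hg (sgl_iso i (tvU_mem hd.herm e he hc))) (inv_mem hg)
    obtain ⟨hf, d, hd0, e2⟩ := tv_of_iso hd hiso hv hφ
    exact ⟨j, v, hf, d, hv, hd0, by rw [e1, e2]⟩
  · right
    refine ⟨hk, CharTwo.two_eq_zero, j, l, (q ∘ Equiv.swap j l) * 1 * q⁻¹, hjl, ?_⟩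
    rw [e1, ← conj_pure_nf, pureGL_one, mul_one]

/-- the conjugates of the group of one slot transvection centre contain a slot transvection -/
theorem exists_root_conj (hd : Hyp σ J a b) (hbig : Big σ k) {t : ℕ} (g : GL (Fin (t + 1) → Fin k) F)
    (hg : g ∈ Iso σ J (t + 1)) (i : Fin (t + 1)) (e : Fin k → F) (he : frm σ J e e = 0) (he0 : e ≠ 0)
    (hW : ∀ c : F, c + σ c = 0 → g * sgl i (tvU σ J e he c) * g⁻¹ ∈ Wr F k (t + 1)) :
    ∃ (c : F) (j : Fin (t + 1)) (f : Fin k → F) (hf : frm σ J f f = 0) (d : F), c + σ c = 0 ∧ c ≠ 0 ∧ f ≠ 0 ∧ d ≠ 0 ∧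
      g * sgl i (tvU σ J e he c) * g⁻¹ = sgl j (tvU σ J f hf d) := by
  obtain ⟨τ, hτ0, hτ⟩ := exists_skew hd.herm
  have hτ' := trace_zero_of hd.herm hτ
  by_contra hcon
  push Not at hcon
  have hsw : ∀ c : F, c + σ c = 0 → c ≠ 0 → k = 3 ∧ (2 : F) = 0 ∧ ∃ π q, Equiv.Perm.sign π = -1 ∧
      g * sgl i (tvU σ J e he c) * g⁻¹ = permGL π * pureGL q := by
    intro c hc hc0
    rcases conj_root hd g hg i e he he0 hc hc0 (hW c hc) with ⟨j, f, hf, d, hf0, hd0, e1⟩ | ⟨h1, h2, j, l, q, hjl, e1⟩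
    · exact absurd e1 (hcon c j f hf d hc hc0 hf0 hd0)
    · exact ⟨h1, h2, _, q, Equiv.Perm.sign_swap hjl, e1⟩
  obtain ⟨hk, h2, π₁, q₁, hs₁, e₁⟩ := hsw τ hτ' hτ0
  obtain ⟨l, hl0, hl⟩ := hbig.resolve_left (by omega)
  set n := l * σ l with hn
  have hn' : σ n = n := by rw [hn, map_mul, hd.herm.inv, mul_comm]
  have hn0 : n ≠ 0 := mul_ne_zero hl0 ((map_ne_zero σ).2 hl0)
  have hc2 : n * τ + σ (n * τ) = 0 := by rw [map_mul, hn']; linear_combination n * hτ'
  obtain ⟨-, -, π₂, q₂, hs₂, e₂⟩ := hsw (n * τ) hc2 (mul_ne_zero hn0 hτ0)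
  have hne : τ + n * τ ≠ 0 := fun h => hl (by
    have h3 : n * τ = τ := by linear_combination h - τ * h2
    exact (mul_eq_right₀ hτ0).1 h3)
  obtain ⟨-, -, π₃, q₃, hs₃, e₃⟩ := hsw (τ + n * τ) (by rw [map_add]; linear_combination hτ' + hc2) hne
  rw [← tvU_add, map_mul, show g * (sgl i (tvU σ J e he τ) * sgl i (tvU σ J e he (n * τ))) * g⁻¹ =
    (g * sgl i (tvU σ J e he τ) * g⁻¹) * (g * sgl i (tvU σ J e he (n * τ)) * g⁻¹) by group, e₁, e₂, mul_nf] at e₃
  have := congrArg Equiv.Perm.sign (nf_unique (by omega) e₃)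
  rw [map_mul, hs₁, hs₂, hs₃] at this
  exact absurd this (by decide)

/-- operators of nonorthogonal centres do not commute -/
theorem Nm_comm_frm (hd : Hyp σ J a b) {e f : Fin k → F} (he : frm σ J e e = 0) (hne : frm σ J e f ≠ 0) :
    Nm σ J e * Nm σ J f ≠ Nm σ J f * Nm σ J e := by
  intro h
  have h1 := congrArg (fun M => M *ᵥ e) h
  simp only [← mulVec_mulVec, Nm_mulVec, he, zero_smul, mulVec_zero, mulVec_smul, smul_smul, smul_eq_zero] at h1
  have hfe : frm σ J f e ≠ 0 := fun h0 => hne (comm_zero hd.herm h0)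
  rcases h1 with h1 | h1
  · exact mul_ne_zero hne hfe h1
  · exact hne (by rw [h1, zero_left hd.herm])

/-- isometries carrying the slot transvection groups into the wreath group are wreath elements -/
theorem mem_of_conj_roots (hd : Hyp σ J a b) (hbig : Big σ k) {t : ℕ} {w : GL (Fin (t + 1) → Fin k) F}
    (hw : w ∈ Iso σ J (t + 1))
    (hW : ∀ (i : Fin (t + 1)) (h : GL (Fin k) F), h ∈ isoSL (frm σ J) → w * sgl i h * w⁻¹ ∈ Wr F k (t + 1)) :
    w ∈ Wr F k (t + 1) := by
  classical
  have hh := hd.herm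
  have himg : ∀ (i : Fin (t + 1)) (e : Fin k → F), frm σ J e e = 0 → e ≠ 0 → ∃ (j : Fin (t + 1)) (y : Matrix (Fin k) (Fin k) F),
      conjMat w (S i (Nm σ J e)) = S j y := by
    intro i e he he0
    obtain ⟨c, j, f, hf, d, hc, hc0, -, -, e1⟩ := exists_root_conj hd hbig w hw i e he he0
      fun c hc => hW i _ (tvU_mem hh e he hc)
    refine ⟨j, (c⁻¹ * d) • Nm σ J f, ?_⟩
    have h1 : (w * sgl i (tvU σ J e he c) * w⁻¹).val - 1 = (sgl j (tvU σ J f hf d)).val - 1 := by rw [e1]
    rw [conj_val_sub, sgl_tv_sub, sgl_tv_sub, map_smul] at h1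
    rw [map_smul, ← smul_smul, ← h1, smul_smul, inv_mul_cancel₀ hc0, one_smul]
  have hA0 : (Pi.single a 1 : Fin k → F) ≠ 0 := fun e => by simpa using congrFun e a
  have hB0 : (Pi.single b 1 : Fin k → F) ≠ 0 := fun e => by simpa using congrFun e b
  choose π ya hya using fun i => himg i _ (frm_aa hd) hA0
  have hsame : ∀ i (e : Fin k → F), frm σ J e e = 0 → frm σ J e (Pi.single a 1) ≠ 0 →
      ∃ y, conjMat w (S i (Nm σ J e)) = S (π i) y := by
    intro i e he hea
    obtain ⟨j, y, hy⟩ := himg i e he fun e0 => hea (by rw [e0, zero_left hh])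
    rcases eq_or_ne j (π i) with rfl | hj
    · exact ⟨y, hy⟩
    exfalso
    refine Nm_comm_frm hd he hea ?_
    haveI : Nonempty (Fin (t + 1) → Fin k) := ⟨fun _ => a⟩
    refine algHom_matrix_injective (S (F := F) (m := k) i) ((conjMat w).injective ?_)
    rw [map_mul, map_mul, map_mul, map_mul, hy, hya, S_comm hj]
  let T : Fin (t + 1) → Subalgebra F (Matrix (Fin k) (Fin k) F) := fun i =>
    (S (F := F) (m := k) (π i)).range.comap ((conjMat w).toAlgHom.comp (S i))
  have hT : ∀ i z, z ∈ T i ↔ ∃ y, conjMat w (S i z) = S (π i) y := fun i z => by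
    simp only [T, Subalgebra.mem_comap, AlgHom.mem_range, AlgHom.comp_apply]
    exact ⟨fun ⟨y, h⟩ => ⟨y, h.symm⟩, fun ⟨y, h⟩ => ⟨y, h.symm⟩⟩
  have hall : ∀ i z, z ∈ T i := by
    intro i
    set ea : Fin k → F := Pi.single a 1
    set eb : Fin k → F := Pi.single b 1
    have hNa : Nm σ J ea ∈ T i := (hT i _).2 ⟨_, hya i⟩
    have hNe : ∀ e, frm σ J e e = 0 → frm σ J e ea ≠ 0 → Nm σ J e ∈ T i := fun e h1 h2 => (hT i _).2 (hsame i e h1 h2)
    have hdot : ∀ x y : Fin k → F, phi σ J y ⬝ᵥ x = frm σ J x y := fun x y => (frm_eq x y).symm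
    have hL : ∀ x, vecMulVec x (phi σ J ea) ∈ T i := by
      let P : Submodule F (Fin k → F) :=
        { carrier := {x | vecMulVec x (phi σ J ea) ∈ T i}
          zero_mem' := by rw [Set.mem_setOf_eq, zero_vecMulVec]; exact zero_mem _
          add_mem' := fun {x y} hx hy => by rw [Set.mem_setOf_eq, add_vecMulVec]; exact add_mem hx hy
          smul_mem' := fun r x hx => by rw [Set.mem_setOf_eq, smul_vecMulVec]; exact Subalgebra.smul_mem _ hx r }
      intro x
      have hP : P = ⊤ := span_nonorth hh hA0 (frm_aa hd) (T := P) hNa fun u hu hua => by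
        have := mul_mem (hNe u hu hua) hNa
        rw [Nm, Nm, vecMulVec_mul_vecMulVec, hdot, vecMulVec_smul] at this
        have h2 : frm σ J ea u ≠ 0 := fun h0 => hua (comm_zero hh h0)
        have h3 := Subalgebra.smul_mem _ this (frm σ J ea u)⁻¹
        rwa [smul_smul, inv_mul_cancel₀ h2, one_smul] at h3
      exact (hP ▸ Submodule.mem_top : x ∈ P)
    have hR : ∀ g, vecMulVec ea (phi σ J g) ∈ T i := by
      let P : Submodule F (Fin k → F) :=
        { carrier := {g | vecMulVec ea (phi σ J g) ∈ T i}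
          zero_mem' := by
            have : phi σ J (0 : Fin k → F) = 0 := by simpa using phi_smul (σ := σ) (J := J) (0 : F) ea
            rw [Set.mem_setOf_eq, this, vecMulVec_zero]; exact zero_mem _
          add_mem' := fun {x y} hx hy => by
            have : phi σ J (x + y) = phi σ J x + phi σ J y := dotProduct_eq _ _ fun z => by
              rw [add_dotProduct, hdot, hdot, hdot, add_right hh]
            rw [Set.mem_setOf_eq, this, vecMulVec_add]; exact add_mem hx hy
          smul_mem' := fun r x hx => by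
            rw [Set.mem_setOf_eq, phi_smul, vecMulVec_smul]; exact Subalgebra.smul_mem _ hx _ }
      intro g
      have hP : P = ⊤ := span_nonorth hh hA0 (frm_aa hd) (T := P) hNa fun u hu hua => by
        have := mul_mem hNa (hNe u hu hua)
        rw [Nm, Nm, vecMulVec_mul_vecMulVec, hdot, vecMulVec_smul] at this
        have h3 := Subalgebra.smul_mem _ this (frm σ J u ea)⁻¹
        rwa [smul_smul, inv_mul_cancel₀ hua, one_smul] at h3
      exact (hP ▸ Submodule.mem_top : g ∈ P)
    have hNb : Nm σ J eb ∈ T i := hNe _ (frm_bb hd) (by rw [frm_ba hd]; exact one_ne_zero)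
    have hone : ∀ x g, vecMulVec x (phi σ J g) ∈ T i := fun x g => by
      have := mul_mem (mul_mem (hL x) hNb) (hR g)
      rw [Nm, vecMulVec_mul_vecMulVec, hdot, frm_ba hd, one_smul, vecMulVec_mul_vecMulVec, hdot, frm_ab hd, one_smul] at this
      exact this
    intro z
    rw [Matrix.matrix_eq_sum_single z]
    refine sum_mem fun p _ => sum_mem fun q _ => ?_
    obtain ⟨g, hg⟩ := exists_repr hh (LinearMap.proj q : (Fin k → F) →ₗ[F] F)
    have e : Matrix.single p q (z p q) = z p q • vecMulVec (Pi.single p 1) (phi σ J g) := by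
      have : phi σ J g = Pi.single q 1 := dotProduct_eq _ _ fun x => by
        rw [hdot, hg, LinearMap.proj_apply, single_dotProduct, one_mul]
      rw [this]
      ext u v
      simp [Matrix.single_apply, vecMulVec_apply, Pi.single_apply]
      aesop
    rw [e]
    exact Subalgebra.smul_mem _ (hone _ _) _
  choose y hy using fun i z => (hT i z).1 (hall i z)
  have hinj : Function.Injective π := by
    intro i i' hii
    by_contra hne
    haveI : Nonempty (Fin (t + 1) → Fin k) := ⟨fun _ => a⟩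
    let L : Matrix (Fin k) (Fin k) F →ₗ[F] Matrix (Fin k) (Fin k) F :=
      { toFun := y i
        map_add' := fun u v => algHom_matrix_injective (S (F := F) (m := k) (π i)) (by
          rw [← hy, map_add, map_add, hy, hy, map_add])
        map_smul' := fun r u => algHom_matrix_injective (S (F := F) (m := k) (π i)) (by
          rw [← hy, map_smul, map_smul, hy, RingHom.id_apply, map_smul]) }
    have hLi : Function.Injective L := fun u v h => algHom_matrix_injective (S (F := F) (m := k) i)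
      ((conjMat w).injective (by rw [hy, hy]; exact congrArg _ h))
    obtain ⟨z, hz⟩ := (LinearMap.injective_iff_surjective.1 hLi) (y i' (Nm σ J (Pi.single a 1)))
    have e : S i z = S i' (Nm σ J (Pi.single a 1)) := (conjMat w).injective (by
      rw [hy, hy]
      show S (π i) (L z) = _
      rw [hz, hii])
    refine Nm_comm_frm hd (frm_aa hd) (f := Pi.single b 1) (by rw [frm_ab hd]; exact one_ne_zero) ?_
    refine algHom_matrix_injective (S (F := F) (m := k) i') ?_
    rw [map_mul, map_mul, ← e, S_comm hne]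
  exact mem_of_slots (Fin.pos a) (Nat.succ_pos t) (Equiv.ofBijective π (Finite.injective_iff_bijective.1 hinj))
    fun i z => ⟨y i z, hy i z⟩

end Cfsg.Agent.TensorWreath.Un
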