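import Cfsg.Agent.Lib.Forms.Max.TensorWreath.Unitary.Data
import Cfsg.Agent.Lib.Forms.Max.TensorWreath.Descent

/-!
# Isometries of a tensor power of a hermitian space
-/

set_option autoImplicit false
set_option linter.unusedSectionVars false

namespace Cfsg.Agent.TensorWreath.Un

open Matrix Cfsg.Agent.Aschbacher Cfsg.Agent.Forms.Max Cfsg.Agent.Forms.Max.UnitaryInLinear Cfsg.Agent.Forms.Max.HermTools

variable {F : Type*} [Field F] {k t : ℕ} {σ : F →+* F} {J : Matrix (Fin k) (Fin k) F} {a b : Fin k}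

theorem formOfGram_dot {ι : Type} [Fintype ι] (G : Matrix ι ι F) (x y : ι → F) :
    Cfsg.Geo.formOfGram σ G x y = x ⬝ᵥ (G *ᵥ fun i => σ (y i)) := by
  simp only [Cfsg.Geo.formOfGram, dotProduct, Matrix.mulVec, Finset.mul_sum, mul_assoc]

theorem formOfGram_mul {ι : Type} [Fintype ι] (G M : Matrix ι ι F) (x y : ι → F) :
    Cfsg.Geo.formOfGram σ G (M *ᵥ x) (M *ᵥ y) = Cfsg.Geo.formOfGram σ (Mᵀ * G * M.map σ) x y := by
  have e : (fun i => σ ((M *ᵥ y) i)) = M.map σ *ᵥ fun i => σ (y i) := funext fun i => RingHom.map_mulVec σ M y i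
  rw [formOfGram_dot, formOfGram_dot, e, mulVec_mulVec, dotProduct_comm, dotProduct_mulVec, ← mulVec_transpose,
    mulVec_mulVec, dotProduct_comm, Matrix.mul_assoc]

/-- the Gram matrix of the tensor power -/
def gram (t : ℕ) (J : Matrix (Fin k) (Fin k) F) : Matrix (Fin t → Fin k) (Fin t → Fin k) F :=
  pureTensor fun _ => J

/-- the isometries of the tensor power -/
def Iso (σ : F →+* F) (J : Matrix (Fin k) (Fin k) F) (t : ℕ) : Subgroup (GL (Fin t → Fin k) F) where
  carrier := {g | g.valᵀ * gram t J * g.val.map σ = gram t J}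
  one_mem' := by simp [Matrix.map_one]
  mul_mem' {g h} hg hh := by
    show (g * h).valᵀ * gram t J * (g * h).val.map σ = gram t J
    rw [Units.val_mul, transpose_mul, Matrix.map_mul]
    calc h.valᵀ * g.valᵀ * gram t J * (g.val.map σ * h.val.map σ)
        = h.valᵀ * (g.valᵀ * gram t J * g.val.map σ) * h.val.map σ := by simp only [Matrix.mul_assoc]
      _ = _ := by rw [hg, hh]
  inv_mem' {g} hg := by
    show (g⁻¹).valᵀ * gram t J * (g⁻¹).val.map σ = gram t J
    conv_lhs => rw [show gram t J = g.valᵀ * gram t J * g.val.map σ from hg.symm]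
    rw [Matrix.mul_assoc, Matrix.mul_assoc, ← Matrix.map_mul, ← Units.val_mul, mul_inv_cancel, Units.val_one,
      Matrix.map_one _ (map_zero σ) (map_one σ), Matrix.mul_one, ← Matrix.mul_assoc, ← transpose_mul, ← Units.val_mul,
      mul_inv_cancel, Units.val_one, transpose_one, Matrix.one_mul]

theorem mem_Iso {g : GL (Fin t → Fin k) F} : g ∈ Iso σ J t ↔ g.valᵀ * gram t J * g.val.map σ = gram t J := Iff.rfl

theorem pure_transpose (X : Fin t → Matrix (Fin k) (Fin k) F) : (pureTensor X)ᵀ = pureTensor fun i => (X i)ᵀ := by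
  ext x y; simp [pureTensor_apply]

theorem pure_map (X : Fin t → Matrix (Fin k) (Fin k) F) : (pureTensor X).map σ = pureTensor fun i => (X i).map σ := by
  ext x y; simp [pureTensor_apply]

theorem slot_iso {h : GL (Fin k) F} (hh : h ∈ isoSL (frm σ J)) : h.valᵀ * J * h.val.map σ = J := by
  ext p q
  have := hh.1 (Pi.single p 1) (Pi.single q 1)
  simp only [frm] at this
  rw [formOfGram_mul] at this
  simpa [Cfsg.Geo.formOfGram, Pi.single_apply, apply_ite σ] using this

theorem pureGL_iso {c : Fin t → GL (Fin k) F} (hc : ∀ i, c i ∈ isoSL (frm σ J)) : pureGL c ∈ Iso σ J t := by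
  rw [mem_Iso, pureGL_coe, pure_transpose, pure_map, gram, ← map_mul, ← map_mul]
  congr 1
  funext i
  exact slot_iso (hc i)

theorem sgl_iso (j : Fin t) {h : GL (Fin k) F} (hh : h ∈ isoSL (frm σ J)) : sgl j h ∈ Iso σ J t := by
  classical
  rw [sgl_eq]
  refine pureGL_iso fun i => ?_
  rcases eq_or_ne i j with rfl | hi
  · rwa [Pi.mulSingle_eq_same]
  · rw [Pi.mulSingle_eq_of_ne hi]; exact one_mem _

theorem perm_iso (π : Equiv.Perm (Fin t)) : (permGL π : GL (Fin t → Fin k) F) ∈ Iso σ J t := by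
  have h1 : (permGL π : GL (Fin t → Fin k) F).val.map σ = (permGL π : GL (Fin t → Fin k) F).val := by
    ext x y; simp [permGL_apply, apply_ite σ]
  have h2 : (permGL π : GL (Fin t → Fin k) F).valᵀ = (permGL π.symm : GL (Fin t → Fin k) F).val := by
    ext x y
    rw [transpose_apply, permGL_apply, permGL_apply]
    refine if_congr ⟨fun h => ?_, fun h => ?_⟩ rfl rfl
    · rw [h, Function.comp_assoc, Equiv.self_comp_symm, Function.comp_id]
    · rw [h, Function.comp_assoc, Equiv.symm_comp_self, Function.comp_id]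
  have h3 : (permGL π : GL (Fin t → Fin k) F).val * pureTensor (fun _ : Fin t => J) =
      pureTensor (fun _ : Fin t => J) * (permGL π : GL (Fin t → Fin k) F).val := perm_pure π fun _ => J
  rw [mem_Iso, h1, h2, gram, Matrix.mul_assoc, ← h3, ← Matrix.mul_assoc, ← Units.val_mul, permGL_mul]
  rw [show (π.symm * π : Equiv.Perm (Fin t)) = 1 from Equiv.self_trans_symm π, permGL_one, Units.val_one, Matrix.one_mul]

/-- the group generated by the slot isometries and the permutations of slots -/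
def W0 (σ : F →+* F) (J : Matrix (Fin k) (Fin k) F) (t : ℕ) : Subgroup (GL (Fin t → Fin k) F) :=
  Subgroup.closure ({g | ∃ j, ∃ h ∈ isoSL (frm σ J), g = sgl j h} ∪ Set.range (permGL (F := F) (m := k) (t := t)))

theorem sgl_mem_W0 (j : Fin t) {h : GL (Fin k) F} (hh : h ∈ isoSL (frm σ J)) : sgl j h ∈ W0 σ J t :=
  Subgroup.subset_closure (Or.inl ⟨j, h, hh, rfl⟩)

theorem perm_mem_W0 (π : Equiv.Perm (Fin t)) : (permGL π : GL (Fin t → Fin k) F) ∈ W0 σ J t :=
  Subgroup.subset_closure (Or.inr ⟨π, rfl⟩)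

theorem W0_le_iso : W0 σ J t ≤ Iso σ J t := by
  refine (Subgroup.closure_le _).2 ?_
  rintro _ (⟨j, h, hh, rfl⟩ | ⟨π, rfl⟩)
  · exact sgl_iso j hh
  · exact perm_iso π

theorem W0_le_wr : W0 σ J t ≤ Wr F k t := by
  refine (Subgroup.closure_le _).2 ?_
  rintro _ (⟨j, h, -, rfl⟩ | ⟨π, rfl⟩)
  · exact sgl_mem j h
  · exact permGL_mem π

/-- containing the slot isometries -/
def BaseU (σ : F →+* F) (J : Matrix (Fin k) (Fin k) F) (G : Subgroup (GL (Fin t → Fin k) F)) : Prop :=
  ∀ (j : Fin t) (h : GL (Fin k) F), h ∈ isoSL (frm σ J) → sgl j h ∈ G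

/-- the elements normalising the slot isometries -/
theorem W0_conj_sgl {w : GL (Fin t → Fin k) F} (hw : w ∈ W0 σ J t) (j : Fin t) {h : GL (Fin k) F}
    (hh : h ∈ isoSL (frm σ J)) : ∃ j' h', h' ∈ isoSL (frm σ J) ∧ w * sgl j h * w⁻¹ = sgl j' h' := by
  induction hw using Subgroup.closure_induction_left generalizing j h with
  | one => exact ⟨j, h, hh, by group⟩
  | mul_left x hx y hy ih =>
    obtain ⟨j₁, h₁, hh₁, e₁⟩ := ih j hh
    rcases hx with ⟨i, c, hc, rfl⟩ | ⟨π, rfl⟩
    · refine ⟨j₁, if i = j₁ then c * h₁ * c⁻¹ else h₁, ?_, ?_⟩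
      · split_ifs
        · exact mul_mem (mul_mem hc hh₁) (inv_mem hc)
        · exact hh₁
      · rw [_root_.mul_inv_rev, show sgl i c * y * sgl j h * (y⁻¹ * (sgl i c)⁻¹) =
          sgl i c * (y * sgl j h * y⁻¹) * (sgl i c)⁻¹ by group, e₁]
        split_ifs with e
        · subst e; rw [map_mul, map_mul, map_inv]
        · refine mul_inv_eq_iff_eq_mul.2 (Units.ext ?_)
          simp only [Units.val_mul, sgl_coe]
          exact S_comm e _ _
    · refine ⟨π j₁, h₁, hh₁, ?_⟩
      rw [_root_.mul_inv_rev, show permGL π * y * sgl j h * (y⁻¹ * (permGL π)⁻¹) =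
        permGL π * (y * sgl j h * y⁻¹) * (permGL π)⁻¹ by group, e₁]
      exact Units.ext (by rw [← conjMat_units, sgl_coe, conj_perm_S, sgl_coe])
  | inv_mul_cancel x hx y hy ih =>
    obtain ⟨j₁, h₁, hh₁, e₁⟩ := ih j hh
    rcases hx with ⟨i, c, hc, rfl⟩ | ⟨π, rfl⟩
    · refine ⟨j₁, if i = j₁ then c⁻¹ * h₁ * c else h₁, ?_, ?_⟩
      · split_ifs
        · exact mul_mem (mul_mem (inv_mem hc) hh₁) hc
        · exact hh₁
      · rw [_root_.mul_inv_rev, inv_inv, show (sgl i c)⁻¹ * y * sgl j h * (y⁻¹ * sgl i c) =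
          (sgl i c)⁻¹ * (y * sgl j h * y⁻¹) * sgl i c by group, e₁]
        split_ifs with e
        · subst e; rw [map_mul, map_mul, map_inv]
        · rw [mul_assoc, inv_mul_eq_iff_eq_mul]
          refine Units.ext ?_
          simp only [Units.val_mul, sgl_coe]
          exact (S_comm e _ _).symm
    · refine ⟨π⁻¹ j₁, h₁, hh₁, ?_⟩
      rw [_root_.mul_inv_rev, inv_inv, show (permGL π)⁻¹ * y * sgl j h * (y⁻¹ * permGL π) =
        (permGL π)⁻¹ * (y * sgl j h * y⁻¹) * ((permGL π)⁻¹)⁻¹ by group, e₁, permGL_inv]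
      exact Units.ext (by rw [← conjMat_units, sgl_coe, conj_perm_S, sgl_coe])

theorem BaseU.conjSub {G : Subgroup (GL (Fin t → Fin k) F)} (hG : BaseU σ J G) {w : GL (Fin t → Fin k) F}
    (hw : w ∈ W0 σ J t) : BaseU σ J (TensorWreath.conjSub w G) := by
  intro j h hh
  rw [mem_conjSub]
  obtain ⟨j', h', hh', e⟩ := W0_conj_sgl ((W0 σ J t).inv_mem hw) j hh
  rw [inv_inv] at e
  rw [e]
  exact hG _ _ hh'

theorem conjSub_iso {G : Subgroup (GL (Fin t → Fin k) F)} (hG : G ≤ Iso σ J t) {w : GL (Fin t → Fin k) F}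
    (hw : w ∈ W0 σ J t) : TensorWreath.conjSub w G ≤ Iso σ J t := fun x hx => by
  have h1 := mul_mem (mul_mem (W0_le_iso hw) (hG (mem_conjSub.1 hx))) (inv_mem (W0_le_iso hw))
  simpa [mul_assoc] using h1

/-- supported in the first row and the last column of the pair -/
def Shp {R : Type*} [Zero R] (a b : Fin k) (X : Matrix (Fin k) (Fin k) R) : Prop :=
  ∀ x y, ¬((x = a ∧ y ≠ a) ∨ (y = b ∧ x ≠ b)) → X x y = 0

/-- radical elements of the conjugates have scalar blocks -/
def TameU (σ : F →+* F) (J : Matrix (Fin k) (Fin k) F) (a b : Fin k) (G : Subgroup (GL (Fin (t + 1) → Fin k) F)) : Prop :=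
  ∀ w ∈ W0 σ J (t + 1), ∀ z ∈ G, Shp a b (blk (w * z * w⁻¹).val - 1) → ∀ y, y ≠ a → ∃ c : F,
    blk (w * z * w⁻¹).val a y = c • 1

theorem TameU.self {G : Subgroup (GL (Fin (t + 1) → Fin k) F)} (hG : TameU σ J a b G)
    {z : GL (Fin (t + 1) → Fin k) F} (hz : z ∈ G) (hs : Shp a b (blk z.val - 1)) (y : Fin k) (hy : y ≠ a) :
    ∃ c : F, blk z.val a y = c • 1 := by
  simpa using hG 1 (one_mem _) z hz (by simpa using hs) y hy

theorem TameU.conjSub {G : Subgroup (GL (Fin (t + 1) → Fin k) F)} (hG : TameU σ J a b G)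
    {w : GL (Fin (t + 1) → Fin k) F} (hw : w ∈ W0 σ J (t + 1)) : TameU σ J a b (TensorWreath.conjSub w G) := by
  intro v hv z hz hr y hy
  have e : v * z * v⁻¹ = v * w * (w⁻¹ * z * w) * (v * w)⁻¹ := by group
  rw [e] at hr ⊢
  exact hG _ (mul_mem hv hw) _ (mem_conjSub.1 hz) hr y hy

/-! ### blocks and lifts -/

theorem blk_gram (x y : Fin k) : blk (gram (t + 1) J) x y = J x y • gram t J := by
  ext u v
  rw [blk_apply, gram, pureTensor_apply, Fin.prod_univ_succ, Matrix.smul_apply, gram, pureTensor_apply, smul_eq_mul]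
  simp

theorem blk_transpose (M : Matrix (Fin (t + 1) → Fin k) (Fin (t + 1) → Fin k) F) (x y : Fin k) :
    blk Mᵀ x y = (blk M y x)ᵀ := rfl

theorem blk_map (M : Matrix (Fin (t + 1) → Fin k) (Fin (t + 1) → Fin k) F) (x y : Fin k) :
    blk (M.map σ) x y = (blk M x y).map σ := rfl

/-- the block equations of an isometry -/
theorem iso_blk {g : GL (Fin (t + 1) → Fin k) F} (hg : g ∈ Iso σ J (t + 1)) (x y : Fin k) :
    ∑ p, ∑ q, J p q • ((blk g.val p x)ᵀ * gram t J * (blk g.val q y).map σ) = J x y • gram t J := by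
  rw [← blk_gram, ← show _ = gram (t + 1) J from hg, map_mul, map_mul, Matrix.mul_apply, Finset.sum_comm]
  refine Finset.sum_congr rfl fun q _ => ?_
  rw [Matrix.mul_apply, Finset.sum_mul]
  refine Finset.sum_congr rfl fun p _ => ?_
  rw [blk_transpose, blk_map, blk_gram, mul_smul_comm, smul_mul_assoc]

theorem blk_S0_lift (z : Matrix (Fin k) (Fin k) F) (M : Matrix (Fin t → Fin k) (Fin t → Fin k) F) (x y : Fin k) :
    blk (S (0 : Fin (t + 1)) z * lift M) x y = z x y • M := by
  rw [map_mul, blk_S_zero, blk_lift, Matrix.mul_diagonal, Matrix.map_apply, ← Algebra.smul_def]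

theorem S0_lift_comm (z : Matrix (Fin k) (Fin k) F) (M : Matrix (Fin t → Fin k) (Fin t → Fin k) F) :
    S (0 : Fin (t + 1)) z * lift M = lift M * S (0 : Fin (t + 1)) z := by
  refine (blk (F := F) (m := k) (t := t)).injective (Matrix.ext fun x y => ?_)
  rw [map_mul, map_mul, blk_S_zero, blk_lift, Matrix.mul_diagonal, Matrix.diagonal_mul, Matrix.map_apply]
  exact Algebra.commutes _ _

theorem liftW_iso_iff (hJ : J ≠ 0) {v : GL (Fin t → Fin k) F} : liftW v ∈ Iso σ J (t + 1) ↔ v ∈ Iso σ J t := by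
  have hb : ∀ x y, blk ((liftW v).valᵀ * gram (t + 1) J * (liftW v).val.map σ) x y =
      J x y • (v.valᵀ * gram t J * v.val.map σ) := fun x y => by
    rw [map_mul, map_mul, Matrix.mul_apply, Finset.sum_eq_single_of_mem y (Finset.mem_univ y) fun q _ hq => ?_,
      Matrix.mul_apply, Finset.sum_eq_single_of_mem x (Finset.mem_univ x) fun p _ hp => ?_, blk_transpose, blk_map,
      blk_gram, liftW_coe, blk_lift, Matrix.diagonal_apply_eq, Matrix.diagonal_apply_eq, mul_smul_comm, smul_mul_assoc]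
    · rw [blk_transpose, liftW_coe, blk_lift, Matrix.diagonal_apply_ne _ hp, transpose_zero, zero_mul]
    · rw [blk_map, liftW_coe, blk_lift, Matrix.diagonal_apply_ne _ hq, Matrix.map_zero _ (map_zero σ), mul_zero]
  obtain ⟨p, q, hpq⟩ : ∃ p q, J p q ≠ 0 := by
    by_contra hc
    push Not at hc
    exact hJ (Matrix.ext hc)
  rw [mem_Iso, mem_Iso]
  refine ⟨fun h => ?_, fun h => ?_⟩
  · have h1 := hb p q
    rw [h, blk_gram] at h1
    exact (smul_right_injective _ hpq h1).symm
  · refine (blk (F := F) (m := k) (t := t)).injective (Matrix.ext fun x y => ?_)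
    rw [hb, h, blk_gram]

theorem liftW_W0 {w : GL (Fin t → Fin k) F} (hw : w ∈ W0 σ J t) : liftW w ∈ W0 σ J (t + 1) := by
  induction hw using Subgroup.closure_induction with
  | mem x hx =>
    rcases hx with ⟨j, h, hh, rfl⟩ | ⟨π, rfl⟩
    · rw [liftW_sgl]; exact sgl_mem_W0 _ hh
    · convert perm_mem_W0 (σ := σ) (J := J) (Equiv.Perm.decomposeFin.symm (0, π)) using 1
      refine Units.ext (Matrix.ext fun x y => ?_)
      rw [liftW_coe, lift_apply, permGL_apply, permGL_apply]
      have e : (x ∘ Equiv.Perm.decomposeFin.symm (0, π)) = Fin.cons (x 0) (Fin.tail x ∘ π) := by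
        funext i
        induction i using Fin.cases with
        | zero => simp
        | succ i => simp [Fin.tail]
      rw [e]
      by_cases h : x 0 = y 0
      · rw [if_pos h]
        refine if_congr ⟨fun h' => ?_, fun h' => ?_⟩ rfl rfl
        · rw [← Fin.cons_self_tail y, h', h]
        · rw [h', Fin.tail_cons]
      · rw [if_neg h, if_neg]
        rintro rfl
        simp at h
  | one => rw [map_one]; exact one_mem _
  | mul x y _ _ hx hy => rw [map_mul]; exact mul_mem hx hy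
  | inv x _ hx => rw [map_inv]; exact inv_mem hx

theorem BaseU.comap {G : Subgroup (GL (Fin (t + 1) → Fin k) F)} (hG : BaseU σ J G) : BaseU σ J (G.comap liftW) :=
  fun j h hh => by rw [Subgroup.mem_comap, liftW_sgl]; exact hG _ h hh

theorem comap_iso (hJ : J ≠ 0) {G : Subgroup (GL (Fin (t + 1) → Fin k) F)} (hG : G ≤ Iso σ J (t + 1)) :
    G.comap liftW ≤ Iso σ J t := fun _ hv => (liftW_iso_iff hJ).1 (hG hv)

theorem TameU.comap {G : Subgroup (GL (Fin (t + 2) → Fin k) F)} (hG : TameU σ J a b G) :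
    TameU σ J a b (G.comap liftW) := by
  intro w hw z hz hr y hy
  set τ := (permGL (Equiv.swap (0 : Fin (t + 2)) 1) : GL (Fin (t + 2) → Fin k) F)
  have e : τ * liftW w * liftW z * (τ * liftW w)⁻¹ = τ * liftW (w * z * w⁻¹) * τ⁻¹ := by
    rw [map_mul, map_mul, map_inv, _root_.mul_inv_rev]; simp [mul_assoc]
  have hb : ∀ x c, blk (τ * liftW w * liftW z * (τ * liftW w)⁻¹).val x c = lift (blk (w * z * w⁻¹).val x c) :=
    fun x c => by rw [e, ← conjMat_units, liftW_coe, blk_conj_swap]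
  obtain ⟨c, hc⟩ := hG _ (mul_mem (perm_mem_W0 _) (liftW_W0 hw)) _ hz (fun x c hxc => by
    have h1 := hr x c hxc
    rw [Matrix.sub_apply, sub_eq_zero] at h1 ⊢
    rw [hb, h1, Matrix.one_apply, Matrix.one_apply, apply_ite lift, map_one, map_zero]) y hy
  refine ⟨c, lift_injective (Fin.pos a) ?_⟩
  rw [← hb, hc, map_smul, map_one]

/-! ### corner elements -/

/-- the element `1 + N ⊗ B` -/
def cor (σ : F →+* F) (J : Matrix (Fin k) (Fin k) F) (e : Fin k → F) (he : frm σ J e e = 0)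
    (B : Matrix (Fin t → Fin k) (Fin t → Fin k) F) : GL (Fin (t + 1) → Fin k) F where
  val := 1 + S 0 (Nm σ J e) * lift B
  inv := 1 - S 0 (Nm σ J e) * lift B
  val_inv := by
    rw [mul_sub, mul_one, add_mul, one_mul, ← mul_assoc, mul_assoc (S 0 (Nm σ J e)) (lift B), ← S0_lift_comm,
      ← mul_assoc (S 0 (Nm σ J e)), ← map_mul (S (0 : Fin (t + 1))), Nm_mul_self he, map_zero, zero_mul, zero_mul]
    abel
  inv_val := by
    rw [mul_add, mul_one, sub_mul, one_mul, ← mul_assoc, mul_assoc (S 0 (Nm σ J e)) (lift B), ← S0_lift_comm,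
      ← mul_assoc (S 0 (Nm σ J e)), ← map_mul (S (0 : Fin (t + 1))), Nm_mul_self he, map_zero, zero_mul, zero_mul]
    abel

theorem cor_coe (e : Fin k → F) (he : frm σ J e e = 0) (B : Matrix (Fin t → Fin k) (Fin t → Fin k) F) :
    (cor σ J e he B).val = 1 + S 0 (Nm σ J e) * lift B := rfl

theorem blk_cor (e : Fin k → F) (he : frm σ J e e = 0) (B : Matrix (Fin t → Fin k) (Fin t → Fin k) F) (x y : Fin k) :
    (blk (cor σ J e he B).val - 1) x y = Nm σ J e x y • B := by
  rw [cor_coe, map_add, map_one, add_sub_cancel_left, blk_S0_lift]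

theorem cor_conj {h : GL (Fin k) F} (hh : h ∈ isoSL (frm σ J)) (e : Fin k → F) (he : frm σ J e e = 0)
    (he' : frm σ J (h.val *ᵥ e) (h.val *ᵥ e) = 0) (B : Matrix (Fin t → Fin k) (Fin t → Fin k) F) :
    sgl 0 h * cor σ J e he B * (sgl 0 h)⁻¹ = cor σ J (h.val *ᵥ e) he' B := by
  refine mul_inv_eq_iff_eq_mul.2 (Units.ext ?_)
  rw [Units.val_mul, Units.val_mul, cor_coe, cor_coe, mul_add, mul_one, add_mul, one_mul, sgl_coe, mul_assoc (S 0 _)
    (lift B) (S 0 h.val), ← S0_lift_comm, ← mul_assoc, ← mul_assoc, ← map_mul, ← map_mul, ← conj_Nm hh,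
    (conjMat_eq_iff_mul ..).1 rfl]

theorem cor_lift (v : GL (Fin t → Fin k) F) (e : Fin k → F) (he : frm σ J e e = 0)
    (B : Matrix (Fin t → Fin k) (Fin t → Fin k) F) :
    liftW v * cor σ J e he B * (liftW v)⁻¹ = cor σ J e he (conjMat v B) := by
  refine mul_inv_eq_iff_eq_mul.2 (Units.ext ?_)
  rw [Units.val_mul, Units.val_mul, cor_coe, cor_coe, mul_add, mul_one, add_mul, one_mul, liftW_coe, ← mul_assoc,
    ← S0_lift_comm, mul_assoc, ← map_mul, mul_assoc (S 0 _) (lift _) (lift v.val), ← map_mul,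
    (conjMat_eq_iff_mul ..).1 rfl]

theorem cor_mul (e : Fin k → F) (he : frm σ J e e = 0) (B C : Matrix (Fin t → Fin k) (Fin t → Fin k) F) :
    cor σ J e he B * cor σ J e he C = cor σ J e he (B + C) := by
  refine Units.ext ?_
  rw [Units.val_mul, cor_coe, cor_coe, cor_coe, mul_add, mul_one, add_mul, one_mul, mul_assoc (S 0 _) (lift B),
    ← mul_assoc (lift B), ← S0_lift_comm, mul_assoc _ (lift B), ← mul_assoc (S 0 (Nm σ J e)) (S 0 _), ← map_mul,
    Nm_mul_self he, map_zero, zero_mul, add_zero, map_add, mul_add]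
  abel

theorem cor_smul (c : F) (e : Fin k → F) (he : frm σ J e e = 0) (he' : frm σ J (c • e) (c • e) = 0)
    (B : Matrix (Fin t → Fin k) (Fin t → Fin k) F) : cor σ J (c • e) he' B = cor σ J e he ((c * σ c) • B) :=
  Units.ext (by rw [cor_coe, cor_coe, Nm_smul, map_smul, map_smul, smul_mul_assoc, mul_smul_comm])

end Cfsg.Agent.TensorWreath.Un
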