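import Cfsg.Agent.Lib.Forms.Max.TensorWreath.Unitary.Diag

/-!
# Elements preserving a slice split off the first slot
-/

set_option autoImplicit false
set_option linter.unusedSectionVars false

namespace Cfsg.Agent.TensorWreath.Un

open Matrix Cfsg.Agent.Aschbacher Cfsg.Agent.Forms.Max Cfsg.Agent.Forms.Max.UnitaryInLinear Cfsg.Agent.Forms.Max.HermTools

variable {F : Type*} [Field F] {k t : ℕ} {σ : F →+* F} {J : Matrix (Fin k) (Fin k) F} {a b : Fin k}

theorem isoSL_of_eq {h : GL (Fin k) F} (he : h.valᵀ * J * h.val.map σ = J) (hdet : h.val.det = 1) :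
    h ∈ isoSL (frm σ J) :=
  ⟨fun x y => by simp only [frm]; rw [formOfGram_mul, he], hdet⟩

variable [Finite F]

/-- conjugation by a similitude keeps the slot group -/
theorem conj_isoSL {D : GL (Fin k) F} {c : F} (hc : c ≠ 0) (hD : D.valᵀ * J * D.val.map σ = c • J)
    {h : GL (Fin k) F} (hh : h ∈ isoSL (frm σ J)) :
    D⁻¹ * h * D ∈ isoSL (frm σ J) ∧ D * h * D⁻¹ ∈ isoSL (frm σ J) := by
  have key : ∀ (E : GL (Fin k) F) (d : F), E.valᵀ * J * E.val.map σ = d • J →
      (E⁻¹).valᵀ * J * (E⁻¹).val.map σ = d⁻¹ • J ∨ d = 0 := by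
    intro E d hE
    by_cases hd : d = 0
    · exact Or.inr hd
    left
    have h1 : (E⁻¹).valᵀ * (d • J) * (E⁻¹).val.map σ = J := by
      rw [← hE, Matrix.mul_assoc, Matrix.mul_assoc, ← Matrix.map_mul, ← Units.val_mul, mul_inv_cancel, Units.val_one,
        Matrix.map_one _ (map_zero σ) (map_one σ), Matrix.mul_one, ← Matrix.mul_assoc, ← transpose_mul, ← Units.val_mul,
        mul_inv_cancel, Units.val_one, transpose_one, Matrix.one_mul]
    rw [mul_smul_comm, smul_mul_assoc] at h1
    conv_rhs => rw [← h1]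
    rw [smul_smul, inv_mul_cancel₀ hd, one_smul]
  have hD' := (key D c hD).resolve_right hc
  have main : ∀ (E E' : GL (Fin k) F) (d d' : F), E.valᵀ * J * E.val.map σ = d • J →
      E'.valᵀ * J * E'.val.map σ = d' • J → d * d' = 1 → E' * E = 1 → E * h * E' ∈ isoSL (frm σ J) := by
    intro E E' d d' hE hE' hdd hone
    refine isoSL_of_eq ?_ ?_
    · rw [Units.val_mul, Units.val_mul, transpose_mul, transpose_mul, Matrix.map_mul, Matrix.map_mul]
      calc E'.valᵀ * (h.valᵀ * E.valᵀ) * J * (E.val.map σ * h.val.map σ * E'.val.map σ)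
          = E'.valᵀ * (h.valᵀ * (E.valᵀ * J * E.val.map σ) * h.val.map σ) * E'.val.map σ := by simp only [Matrix.mul_assoc]
        _ = J := by
          rw [hE, mul_smul_comm, smul_mul_assoc, slot_iso hh, mul_smul_comm, smul_mul_assoc, hE', smul_smul, hdd, one_smul]
    · rw [Units.val_mul, Units.val_mul, det_mul, det_mul, hh.2, mul_one, mul_comm, ← det_mul, ← Units.val_mul, hone,
        Units.val_one, det_one]
  exact ⟨main _ _ _ _ hD' hD (inv_mul_cancel₀ hc) (mul_inv_cancel D), main _ _ _ _ hD hD' (mul_inv_cancel₀ hc) (inv_mul_cancel D)⟩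

variable {G G' : Subgroup (GL (Fin (t + 1) → Fin k) F)} {g : GL (Fin (t + 1) → Fin k) F}

/-- splitting off the radical part -/
theorem PairU.radical (hd : Hyp σ J a b) (hbig : Big σ k) (h : PairU σ J a b G G' g) :
    ∃ (U : GL (Fin (t + 1) → Fin k) F) (D : GL (Fin k) F) (w : GL (Fin t → Fin k) F) (c : F),
      c ≠ 0 ∧ D.valᵀ * J * D.val.map σ = c • J ∧ g = U * (sgl 0 D * liftW w) ∧ U ∈ Iso σ J (t + 1) ∧
      Shp a b (blk U.val - 1) ∧ (∀ y, y ≠ a → y ≠ b → ∃ r : F, blk U.val a y = r • 1) := by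
  classical
  obtain ⟨h1, h2, -, -, hc, hr⟩ := h.inv_facts
  obtain ⟨D, D', hDD', hL, hL', hDa, hDa', hval⟩ := h.coeff hd
  let Du : GL (Fin k) F := ⟨D, D', hDD', mul_eq_one_comm.1 hDD'⟩
  let w : GL (Fin t → Fin k) F := ⟨blk g.val a a, blk (g⁻¹).val a a, h2, h1⟩
  obtain ⟨c, hc0, hsim, hW⟩ := h.similitude hd hL hDa fun x y hxy => (hval x y hxy).1
  set U := g * (sgl 0 Du * liftW w)⁻¹ with hU
  have hUblk : ∀ x y, blk U.val x y = ∑ p, D' p y • (blk g.val x p * blk (g⁻¹).val a a) := fun x y => by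
    rw [hU, _root_.mul_inv_rev, ← map_inv, ← map_inv, Units.val_mul, Units.val_mul, map_mul, Matrix.mul_apply]
    refine Finset.sum_congr rfl fun p _ => ?_
    rw [sgl_coe, liftW_coe, ← S0_lift_comm, blk_S0_lift, mul_smul_comm]
    rfl
  have hdd : ∀ x y, ((1 : Matrix (Fin k) (Fin k) F) x y) = ∑ p, D x p * D' p y := fun x y => by
    rw [← Matrix.mul_apply, hDD']
  have hUs : Shp a b (blk U.val - 1) := by
    intro x y hxy
    rw [Matrix.sub_apply, sub_eq_zero, hUblk]
    by_cases hy : y = a
    · subst hy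
      rw [Finset.sum_eq_single_of_mem y (Finset.mem_univ y) fun p _ hp => by rw [hL'.colA p hp, zero_smul], hDa', one_smul]
      rcases eq_or_ne x y with rfl | hx
      · rw [h2, Matrix.one_apply_eq]
      · rw [h.col x hx, zero_mul, Matrix.one_apply_ne hx]
    by_cases hx : x = b
    · subst hx
      rw [Finset.sum_eq_single_of_mem x (Finset.mem_univ x) fun p _ hp => by rw [h.row p hp, zero_mul, smul_zero],
        (hval x x (Or.inr (Or.inl ⟨rfl, rfl⟩))).1, smul_mul_assoc, h2, smul_smul]
      have := hdd x y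
      rw [Finset.sum_eq_single_of_mem x (Finset.mem_univ x) fun p _ hp => by rw [hL.rowB p hp, zero_mul]] at this
      rw [mul_comm, ← this, Matrix.one_apply, Matrix.one_apply, ite_smul, one_smul, zero_smul]
    push Not at hxy
    have hxa : x ≠ a := fun e => hy (hxy.1 e)
    have hyb : y ≠ b := fun e => hx (hxy.2 e)
    have := hdd x y
    rw [Matrix.one_apply (i := x)]
    rw [Matrix.one_apply] at this
    rw [Finset.sum_congr rfl (g := fun p => (D x p * D' p y) • (1 : Matrix (Fin t → Fin k) (Fin t → Fin k) F))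
      fun p _ => ?_, ← Finset.sum_smul, ← this, ite_smul, one_smul, zero_smul]
    rcases eq_or_ne p a with rfl | hpa
    · rw [hL'.rowA y hy, zero_smul, mul_zero, zero_smul]
    rcases eq_or_ne p b with rfl | hpb
    · rw [hL'.rowB y hyb, zero_smul, mul_zero, zero_smul]
    rw [(hval x p (Or.inr (Or.inr ⟨hxa, hx, hpa, hpb⟩))).1, smul_mul_assoc, h2, smul_smul, mul_comm]
  have hM : sgl 0 Du * liftW w ∈ Iso σ J (t + 1) := by
    rw [mem_Iso]
    refine (blk (F := F) (m := k) (t := t)).injective (Matrix.ext fun x y => ?_)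
    rw [blk_conj_gram, blk_gram]
    have hs : ∀ p q, blk (sgl 0 Du * liftW w).val p q = D p q • blk g.val a a := fun p q => by
      rw [Units.val_mul, sgl_coe, liftW_coe, blk_S0_lift]
    simp only [hs, transpose_smul, Matrix.map_smul' _ _ _ (map_mul σ), smul_mul_assoc, mul_smul_comm, smul_smul,
      ← Finset.sum_smul]
    rw [Finset.sum_comm, show (∑ q, ∑ p, J p q * (σ (D q y) * D p x)) = (Dᵀ * J * D.map σ) x y by
      rw [Matrix.mul_apply]
      refine Finset.sum_congr rfl fun q _ => ?_
      rw [Matrix.mul_apply, Finset.sum_mul]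
      refine Finset.sum_congr rfl fun p _ => ?_
      rw [Matrix.transpose_apply, Matrix.map_apply]; ring, hsim, Matrix.smul_apply, smul_eq_mul, mul_comm c, ← smul_smul,
      hW]
  refine ⟨U, Du, w, c, hc0, hsim, by rw [hU, inv_mul_cancel_right], mul_mem h.iso (inv_mem hM), hUs, ?_⟩
  -- the middle entries of the first row
  have hdiag := shp_diag_aa hd.hab hUs
  let R : (Fin k → F) →ₗ[F] Matrix (Fin t → Fin k) (Fin t → Fin k) F :=
    { toFun := fun v => ∑ q, v q • (blk U.val - 1) a q
      map_add' := fun u v => by simp only [Pi.add_apply, add_smul, Finset.sum_add_distrib]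
      map_smul' := fun r v => by
        simp only [Pi.smul_apply, smul_eq_mul, RingHom.id_apply, Finset.smul_sum, smul_smul] }
  let T : Submodule F (Fin k → F) :=
    (Submodule.span F {(1 : Matrix (Fin t → Fin k) (Fin t → Fin k) F)}).comap R
  have hT : ∀ {l m : F}, l ≠ 0 → m ≠ 0 → ∀ {r : GL (Fin k) F}, r ∈ isoSL (frm σ J) →
      r.val *ᵥ Pi.single a 1 = l • Pi.single a 1 → r.val *ᵥ Pi.single b 1 = m • Pi.single b 1 →
      ∀ v ∈ mid F a b, v - l • ((r⁻¹).val *ᵥ v) ∈ T := by
    intro l m hl hm r hr ea eb v hv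
    obtain ⟨hLr, hLr', hraa, -, -⟩ := levi_of hd hr hl hm ea eb
    have hr2 := (conj_isoSL (D := Du) hc0 hsim hr).1
    set y := g * sgl 0 (Du⁻¹ * r * Du) * g⁻¹ * (sgl 0 r)⁻¹ with hy
    have hymem : y ∈ G' := mul_mem (h.maps _ (h.base 0 _ hr2)) (inv_mem (h.base' 0 _ hr))
    have hyU : y = U * (sgl 0 r * U⁻¹ * (sgl 0 r)⁻¹) := by
      have hcomm : ∀ z : GL (Fin k) F, sgl (0 : Fin (t + 1)) z * liftW w = liftW w * sgl 0 z := fun z =>
        Units.ext (by simp only [Units.val_mul, sgl_coe, liftW_coe]; exact S0_lift_comm _ _)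
      have hg : g = U * (sgl 0 Du * liftW w) := by rw [hU, inv_mul_cancel_right]
      have e1 : liftW w * sgl (0 : Fin (t + 1)) (Du⁻¹ * r * Du) * (liftW w)⁻¹ = sgl 0 (Du⁻¹ * r * Du) := by
        rw [← hcomm, mul_inv_cancel_right]
      calc y = U * (sgl 0 Du * (liftW w * sgl (0 : Fin (t + 1)) (Du⁻¹ * r * Du) * (liftW w)⁻¹) * (sgl 0 Du)⁻¹) * U⁻¹ *
            (sgl 0 r)⁻¹ := by rw [hy, hg]; group
        _ = _ := by rw [e1, map_mul, map_mul, map_inv]; group
    have hUi : Shp a b (blk (U⁻¹).val - 1) ∧ ∀ y, y ≠ a → y ≠ b → blk (U⁻¹).val a y = -blk U.val a y := by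
      have hi : blk (U⁻¹).val * blk U.val = 1 := by
        rw [← map_mul, ← Units.val_mul, inv_mul_cancel, Units.val_one, map_one]
      set X := blk U.val - 1 with hX
      have hXXX : X * X * X = 0 := by
        refine Matrix.ext fun x y => ?_
        rw [Matrix.mul_apply, Matrix.zero_apply]
        refine Finset.sum_eq_zero fun q _ => ?_
        by_cases h2 : (q = a ∧ y ≠ a) ∨ (y = b ∧ q ≠ b)
        swap
        · rw [hUs q y h2, mul_zero]
        rw [Matrix.mul_apply, Finset.sum_mul]
        refine Finset.sum_eq_zero fun p _ => ?_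
        by_cases h0 : (x = a ∧ p ≠ a) ∨ (p = b ∧ x ≠ b)
        swap
        · rw [hUs x p h0, zero_mul, zero_mul]
        by_cases h1 : (p = a ∧ q ≠ a) ∨ (q = b ∧ p ≠ b)
        swap
        · rw [hUs p q h1, mul_zero, zero_mul]
        exfalso
        have hab := hd.hab
        grind
      have hUX : blk U.val = 1 + X := by rw [hX]; abel
      have e : blk (U⁻¹).val = 1 - X + X * X := by
        refine (left_inv_eq_right_inv hi ?_)
        rw [hUX]
        calc (1 + X) * (1 - X + X * X) = 1 + X * X * X := by noncomm_ring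
          _ = 1 := by rw [hXXX, add_zero]
      have hXX : ∀ x y, ¬(x = a ∧ y = b) → (X * X) x y = 0 := fun x y hxy => by
        rw [Matrix.mul_apply]
        refine Finset.sum_eq_zero fun p _ => ?_
        by_cases h0 : (x = a ∧ p ≠ a) ∨ (p = b ∧ x ≠ b)
        swap
        · rw [hUs x p h0, zero_mul]
        by_cases h1 : (p = a ∧ y ≠ a) ∨ (y = b ∧ p ≠ b)
        swap
        · rw [hUs p y h1, mul_zero]
        exfalso
        have hab := hd.hab
        grind
      refine ⟨fun x y hxy => ?_, fun y hya hyb => ?_⟩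
      · rw [e, sub_add_eq_add_sub, add_sub_assoc, add_sub_cancel_left, Matrix.sub_apply, hUs x y hxy, sub_zero]
        exact hXX x y fun h => hxy (Or.inl ⟨h.1, h.2 ▸ hd.hab.symm⟩)
      · rw [e, Matrix.add_apply, Matrix.sub_apply, hXX a y (fun h => hyb h.2), hX, Matrix.sub_apply,
          Matrix.one_apply_ne (Ne.symm hya)]
        abel
    obtain ⟨hV, hVent⟩ := hLr.shp hd.hab hLr' (by rw [← Units.val_mul, mul_inv_cancel, Units.val_one]) hUi.1
    have hVe : blk (sgl 0 r * U⁻¹ * (sgl 0 r)⁻¹).val = blk (S 0 r.val * (U⁻¹).val * S 0 (r⁻¹).val) := by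
      rw [Units.val_mul, Units.val_mul, sgl_coe, ← map_inv, sgl_coe]
    obtain ⟨hy1, hy2⟩ := shp_mul hd.hab hUs (V := blk (sgl 0 r * U⁻¹ * (sgl 0 r)⁻¹).val) (by rw [hVe]; exact hV)
    rw [← map_mul, ← Units.val_mul, ← hyU] at hy1 hy2
    have hent : ∀ d, d ≠ a → d ≠ b → blk y.val a d =
        (blk U.val - 1) a d - ∑ q, (l * (r⁻¹).val q d) • (blk U.val - 1) a q := by
      intro d hda hdb
      rw [hy2 d hda hdb, hVe, hVent d hda hdb, Matrix.sub_apply, Matrix.one_apply_ne (Ne.symm hda), sub_zero, sub_eq_add_neg,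
        ← Finset.sum_neg_distrib]
      refine congrArg _ (Finset.sum_congr rfl fun q _ => ?_)
      rcases eq_or_ne q a with rfl | hqa
      · rw [hLr'.rowA d hda, mul_zero, mul_zero, zero_smul, zero_smul, neg_zero]
      rcases eq_or_ne q b with rfl | hqb
      · rw [hLr'.rowB d hdb, mul_zero, mul_zero, zero_smul, zero_smul, neg_zero]
      rw [hUi.2 q hqa hqb, hraa, Matrix.sub_apply, Matrix.one_apply_ne (Ne.symm hqa), sub_zero, smul_neg]
    have hsingle : ∀ d, d ≠ a → d ≠ b →
        (Pi.single d 1 : Fin k → F) - l • ((r⁻¹).val *ᵥ Pi.single d 1) ∈ T := by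
      intro d hda hdb
      obtain ⟨e, he⟩ := h.tame'.self hymem hy1 d hda
      rw [Submodule.mem_comap, Submodule.mem_span_singleton]
      refine ⟨e, ?_⟩
      rw [← he, hent d hda hdb, map_sub, map_smul]
      simp only [R, LinearMap.coe_mk, AddHom.coe_mk, mulVec_single_one, Finset.smul_sum, smul_smul, Matrix.col_apply,
        Pi.single_apply, ite_smul, one_smul, zero_smul, Finset.sum_ite_eq', Finset.mem_univ, if_true]
    have e : v - l • ((r⁻¹).val *ᵥ v) = ∑ d, v d • ((Pi.single d 1 : Fin k → F) - l • ((r⁻¹).val *ᵥ Pi.single d 1)) := by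
      conv_lhs => rw [pi_eq_sum_univ' v]
      simp only [mulVec_sum, mulVec_smul, Finset.smul_sum, ← Finset.sum_sub_distrib, smul_sub, smul_comm l]
    rw [e]
    refine T.sum_mem fun d _ => ?_
    rcases eq_or_ne d a with rfl | hda
    · rw [(mem_mid.1 hv).1, zero_smul]; exact T.zero_mem
    rcases eq_or_ne d b with rfl | hdb
    · rw [(mem_mid.1 hv).2, zero_smul]; exact T.zero_mem
    exact T.smul_mem _ (hsingle d hda hdb)
  have hmid : mid F a b ≤ T := by
    by_cases h4 : 4 ≤ k
    · refine span_iso_in hd.herm (mid_nondeg hd) (by have := mid_finrank hd; omega) fun e he hee => ?_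
      rcases eq_or_ne e 0 with rfl | he0
      · exact T.zero_mem
      obtain ⟨hea, heb⟩ := mem_mid.1 he
      obtain ⟨τ, hτ0, hτ⟩ := exists_skew hd.herm
      obtain ⟨v, hv, hve⟩ : ∃ v ∈ mid F a b, frm σ J v e ≠ 0 := by
        by_contra hcon
        push Not at hcon
        exact he0 (mid_nondeg hd e he fun v hv => comm_zero hd.herm (hcon v hv))
      set r := tvU σ J e hee (-τ) with hrdef
      have hτ' : -τ + σ (-τ) = 0 := by rw [map_neg, hτ]; ring
      have hfix : ∀ x, frm σ J x e = 0 → r.val *ᵥ x = (1 : F) • x := fun x hx => by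
        rw [hrdef, tvU_mulVec, hx, mul_zero, zero_smul, add_zero, one_smul]
      have hrinv : (r⁻¹).val *ᵥ v = v + (τ * frm σ J v e) • e := by
        have e1 : r.val *ᵥ (v + (τ * frm σ J v e) • e) = v := by
          rw [hrdef, tvU_mulVec, hd.herm.add, hd.herm.smul, hee, mul_zero, add_zero, neg_mul, neg_smul, add_neg_cancel_right]
        conv_lhs => rw [← e1]
        rw [mulVec_mulVec, ← Units.val_mul, inv_mul_cancel, Units.val_one, one_mulVec]
      have := hT one_ne_zero one_ne_zero (tvU_mem hd.herm e hee hτ')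
        (hfix _ (by rw [hd.herm.herm, frm_a hd, heb, map_zero])) (hfix _ (by rw [hd.herm.herm, frm_b hd, hea, map_zero]))
        v hv
      rw [hrinv, one_smul, sub_add_cancel_left, ← neg_smul] at this
      exact (T.smul_mem_iff (neg_ne_zero.2 (mul_ne_zero hτ0 hve))).1 this
    · obtain ⟨l, hl0, hl⟩ := hbig.resolve_left h4
      obtain ⟨z, hz, hzz⟩ := exists_mid_norm hd
      obtain ⟨r, hr, ea, eb, ez⟩ := exists_torus hd hl0 hz hzz
      have hσl : σ l ≠ 0 := (map_ne_zero σ).2 hl0
      have := hT hl0 (inv_ne_zero hσl) hr ea eb z hz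
      have hrz : (r⁻¹).val *ᵥ z = (l / σ l) • z := by
        have h1 := congrArg ((r⁻¹).val *ᵥ ·) ez
        simp only [mulVec_mulVec, ← Units.val_mul, inv_mul_cancel, Units.val_one, one_mulVec, mulVec_smul] at h1
        conv_rhs => rw [h1, smul_smul, div_mul_div_cancel₀ hσl, div_self hl0, one_smul]
      rw [hrz, smul_smul] at this
      have hne : 1 - l * (l / σ l) ≠ 0 := fun e => by
        have h2 : l * l = σ l := by
          rw [sub_eq_zero, mul_div_assoc'] at e
          exact ((div_eq_one_iff_eq hσl).1 e.symm)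
        have h3 : σ l * σ l = l := by rw [← map_mul, h2, hd.herm.inv]
        refine hl (mul_right_cancel₀ hl0 ?_)
        rw [one_mul]
        linear_combination (σ l) * h2 + h3
      have hzT : z ∈ T := by
        have e : z - (l * (l / σ l)) • z = (1 - l * (l / σ l)) • z := by rw [sub_smul, one_smul]
        rw [e] at this
        exact (T.smul_mem_iff hne).1 this
      have hk3 : k = 3 := by have := hd.hk; omega
      intro v hv
      obtain ⟨s, hs⟩ : ∃ s : F, v = s • z := by
        obtain ⟨d, hd'⟩ : ∃ d : Fin k, ∀ p, p ≠ a → p ≠ b → p = d := by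
          subst hk3
          have key : ∀ a b : Fin 3, a ≠ b → ∃ d, ∀ p, p ≠ a → p ≠ b → p = d := by decide
          exact key a b hd.hab
        have hsup : ∀ u ∈ mid F a b, ∀ p, p ≠ d → u p = 0 := fun u hu p hp => by
          rcases eq_or_ne p a with rfl | hpa
          · exact (mem_mid.1 hu).1
          rcases eq_or_ne p b with rfl | hpb
          · exact (mem_mid.1 hu).2
          exact absurd (hd' p hpa hpb) hp
        have hzd : z d ≠ 0 := fun e => hzz (by
          have : z = 0 := funext fun p => by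
            rcases eq_or_ne p d with rfl | hp
            · exact e
            · exact hsup z hz p hp
          rw [this, zero_left hd.herm])
        refine ⟨v d / z d, funext fun p => ?_⟩
        rcases eq_or_ne p d with rfl | hp
        · simp [hzd]
        · simp [hsup v hv p hp, hsup z hz p hp]
      rw [hs]
      exact T.smul_mem _ hzT
  intro y hya hyb
  have := hmid (single_mem_mid hya hyb)
  rw [Submodule.mem_comap, Submodule.mem_span_singleton] at this
  obtain ⟨r, hr⟩ := this
  refine ⟨r, ?_⟩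
  rw [hr]
  simp [R, Pi.single_apply, Matrix.one_apply_ne (Ne.symm hya)]

end Cfsg.Agent.TensorWreath.Un
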