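import Cfsg.Agent.Lib.Forms.Max.TensorWreath.Unitary.Roots
import Cfsg.Agent.Lib.Forms.Max.TensorWreath.Fixed

/-!
# Orbit sums over a transvection group
-/

set_option autoImplicit false
set_option linter.unusedSectionVars false

namespace Cfsg.Agent.TensorWreath.Un

open Matrix Cfsg.Agent.Aschbacher Cfsg.Agent.Forms.Max Cfsg.Agent.Forms.Max.UnitaryInLinear Cfsg.Agent.Forms.Max.HermTools

/-- invariant functions without fixed points have vanishing sums -/
theorem sum_no_fix {A α M : Type*} [AddCommGroup A] [Fintype A] [AddCommGroup M] [DecidableEq α] [DecidableEq M]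
    (p : ℕ) [Fact p.Prime] (hA : ∀ x : A, p • x = 0) (hM : ∀ m : M, p • m = 0) (e : A → α → α)
    (he0 : ∀ x, e 0 x = x) (hadd : ∀ a b x, e (a + b) x = e a (e b x)) (f : α → M) (s : Finset α)
    (hinv : ∀ a, ∀ x ∈ s, e a x ∈ s) (hf : ∀ a, ∀ x ∈ s, f (e a x) = f x) (hno : ∀ x ∈ s, ∃ a, e a x ≠ x) :
    ∑ x ∈ s, f x = 0 := by
  classical
  rw [show ∑ x ∈ s, f x = ∑ x ∈ s, id (f x) from rfl, Finset.sum_comp]
  simp only [id]
  refine Finset.sum_eq_zero fun c _ => ?_
  set T := s.filter fun x => f x = c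
  letI : MulAction (Multiplicative A) T :=
    { smul := fun a x => ⟨e a.toAdd x.1, Finset.mem_filter.2 ⟨hinv _ _ (Finset.mem_filter.1 x.2).1,
        (hf _ _ (Finset.mem_filter.1 x.2).1).trans (Finset.mem_filter.1 x.2).2⟩⟩
      one_smul := fun x => Subtype.ext (he0 x.1)
      mul_smul := fun a b x => Subtype.ext (hadd _ _ x.1) }
  have hP : IsPGroup p (Multiplicative A) := fun g => ⟨1, by
    rw [pow_one]
    exact Multiplicative.toAdd.injective (by rw [toAdd_pow, toAdd_one]; exact hA _)⟩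
  have h0 : Nat.card (MulAction.fixedPoints (Multiplicative A) T) = 0 := by
    rw [Nat.card_eq_zero]
    left
    exact ⟨fun x => by
      obtain ⟨a, ha⟩ := hno x.1.1 (Finset.mem_filter.1 x.1.2).1
      exact ha (congrArg Subtype.val (x.2 (Multiplicative.ofAdd a)))⟩
  have h1 := hP.card_modEq_card_fixedPoints T
  rw [h0, Nat.card_eq_fintype_card, Fintype.card_coe, Nat.modEq_zero_iff_dvd] at h1
  obtain ⟨r, hr⟩ := h1
  rw [hr, mul_nsmul, hM, nsmul_zero]

variable {F : Type*} [Field F] [Fintype F] {k t : ℕ} {σ : F →+* F} {J : Matrix (Fin k) (Fin k) F} {a b : Fin k}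

/-- the parameters of the transvections -/
def skew (σ : F →+* F) : AddSubgroup F where
  carrier := {c | c + σ c = 0}
  zero_mem' := by simp
  add_mem' {x y} hx hy := by
    show x + y + σ (x + y) = 0
    rw [map_add]
    calc x + y + (σ x + σ y) = (x + σ x) + (y + σ y) := by ring
      _ = 0 := by rw [hx, hy, add_zero]
  neg_mem' {x} hx := by
    show -x + σ (-x) = 0
    rw [map_neg, ← neg_add, hx, neg_zero]

theorem mem_skew {c : F} : c ∈ skew σ ↔ c + σ c = 0 := Iff.rfl

/-- the slot transvection with parameter in the group -/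
def uel (e : Fin k → F) (he : frm σ J e e = 0) (c : skew σ) : GL (Fin (t + 1) → Fin k) F :=
  sgl 0 (tvU σ J e he c.1)

theorem uel_add (e : Fin k → F) (he : frm σ J e e = 0) (c d : skew σ) :
    (uel (t := t) e he (c + d)) = uel e he c * uel e he d := by
  rw [uel, uel, uel, ← map_mul, tvU_add]; rfl

theorem uel_zero (e : Fin k → F) (he : frm σ J e e = 0) : (uel (t := t) e he (0 : skew σ)) = 1 := by
  rw [uel, ZeroMemClass.coe_zero, tvU_zero, map_one]

theorem uel_inv (e : Fin k → F) (he : frm σ J e e = 0) (c : skew σ) :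
    (uel (t := t) e he c)⁻¹ = uel e he (-c) :=
  inv_eq_of_mul_eq_one_right (by rw [← uel_add, add_neg_cancel, uel_zero])

theorem uel_val (e : Fin k → F) (he : frm σ J e e = 0) (c : skew σ) :
    (uel (t := t) e he c).val = 1 + c.1 • S 0 (Nm σ J e) := by
  rw [uel, sgl_coe, tvU_coe, map_add, map_one, map_smul]

theorem conj_uel (e : Fin k → F) (he : frm σ J e e = 0) (c : skew σ) (M : Matrix (Fin (t + 1) → Fin k) (Fin (t + 1) → Fin k) F) :
    conjMat (uel e he c) M = M + c.1 • (S 0 (Nm σ J e) * M - M * S 0 (Nm σ J e)) -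
      (c.1 * c.1) • (S 0 (Nm σ J e) * M * S 0 (Nm σ J e)) := by
  rw [conjMat_apply, uel_inv, uel_val, uel_val, NegMemClass.coe_neg]
  simp only [neg_smul, mul_add, add_mul, one_mul, mul_one, mul_neg, smul_mul_assoc, mul_smul_comm, smul_sub, smul_add, smul_smul]
  abel

theorem comm_of_uel_fix (e : Fin k → F) (he : frm σ J e e = 0) {c : skew σ} (hc : c ≠ 0)
    {M : Matrix (Fin (t + 1) → Fin k) (Fin (t + 1) → Fin k) F} (h : conjMat (uel e he c) M = M) :
    S 0 (Nm σ J e) * M = M * S 0 (Nm σ J e) := by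
  rw [conjMat_eq_iff_mul, uel_val, add_mul, mul_add, one_mul, mul_one, add_right_inj, smul_mul_assoc, mul_smul_comm] at h
  exact smul_right_injective _ (fun h0 : c.1 = 0 => hc (Subtype.ext h0)) h

theorem uel_fix_of_comm (e : Fin k → F) (he : frm σ J e e = 0) (c : skew σ)
    {M : Matrix (Fin (t + 1) → Fin k) (Fin (t + 1) → Fin k) F} (h : S 0 (Nm σ J e) * M = M * S 0 (Nm σ J e)) :
    conjMat (uel e he c) M = M := by
  rw [conjMat_eq_iff_mul, uel_val, add_mul, mul_add, one_mul, mul_one, smul_mul_assoc, mul_smul_comm, h]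

theorem skew_p (p : ℕ) [CharP F p] (c : skew σ) : p • c = 0 :=
  Subtype.ext (by rw [AddSubmonoidClass.coe_nsmul, nsmul_eq_mul, CharP.cast_eq_zero, zero_mul]; rfl)

theorem card_skew (hh : Herm σ (frm σ J)) [Fintype (skew σ)] : (Fintype.card (skew σ) : F) = 0 := by
  obtain ⟨τ, hτ0, hτ⟩ := exists_skew hh
  obtain ⟨p, hp⟩ := CharP.exists F
  haveI hpp : Fact p.Prime := ⟨(CharP.char_is_prime_or_zero F p).resolve_right (CharP.char_ne_zero_of_finite F p)⟩
  let x : skew σ := ⟨τ, trace_zero_of hh hτ⟩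
  have hx : addOrderOf x = p := addOrderOf_eq_prime (skew_p p x) fun h => hτ0 (congrArg Subtype.val h)
  have hdvd : p ∣ Fintype.card (skew σ) := hx ▸ addOrderOf_dvd_card
  exact (CharP.cast_eq_zero_iff F p _).2 hdvd

/-- the sum over the group -/
theorem sum_uel (hh : Herm σ (frm σ J)) (e : Fin k → F) (he : frm σ J e e = 0) [Fintype (skew σ)]
    (M : Matrix (Fin (t + 1) → Fin k) (Fin (t + 1) → Fin k) F) :
    ∃ Y Y', ∑ c : skew σ, conjMat (uel e he c) M = S 0 (Nm σ J e) * Y + Y' * S 0 (Nm σ J e) ∧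
      ((∃ l : F, l ≠ 0 ∧ l * σ l ≠ 1) → Y' = 0) := by
  set N := S (0 : Fin (t + 1)) (Nm σ J e)
  set s1 := ∑ c : skew σ, c.1 with hs1
  set s2 := ∑ c : skew σ, c.1 * c.1
  refine ⟨s1 • M - s2 • (M * N), -(s1 • M), ?_, fun ⟨l, hl0, hl⟩ => ?_⟩
  · simp only [conj_uel, Finset.sum_sub_distrib, Finset.sum_add_distrib, ← Finset.sum_smul, Finset.sum_const,
      Finset.card_univ, ← Nat.cast_smul_eq_nsmul F, card_skew hh, zero_smul, zero_add, smul_sub, mul_sub, mul_smul_comm,
      neg_mul, smul_mul_assoc, ← mul_assoc]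
    simp only [N, s1, s2]
    abel
  · have hn : σ (l * σ l) = l * σ l := by rw [map_mul, hh.inv, mul_comm]
    have hn0 : l * σ l ≠ 0 := mul_ne_zero hl0 ((map_ne_zero σ).2 hl0)
    have hmem : ∀ (r : F), σ r = r → ∀ c : skew σ, r * c.1 ∈ skew σ := fun r hr c => by
      have hc : c.1 + σ c.1 = 0 := c.2
      rw [mem_skew, map_mul, hr, ← mul_add, hc, mul_zero]
    let π : skew σ ≃ skew σ :=
      { toFun := fun c => ⟨(l * σ l) * c.1, hmem _ hn c⟩
        invFun := fun c => ⟨(l * σ l)⁻¹ * c.1, hmem _ (by rw [map_inv₀, hn]) c⟩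
        left_inv := fun c => Subtype.ext (inv_mul_cancel_left₀ hn0 c.1)
        right_inv := fun c => Subtype.ext (mul_inv_cancel_left₀ hn0 c.1) }
    have e1 : s1 = (l * σ l) * s1 := by
      rw [hs1, Finset.mul_sum]
      exact (Fintype.sum_equiv π _ _ fun c => rfl).symm
    have : s1 = 0 := by
      by_contra hne
      exact hl ((mul_eq_right₀ hne).1 e1.symm)
    rw [this, zero_smul, neg_zero]

end Cfsg.Agent.TensorWreath.Un
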